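import Mathlib
import Groth.Agent.Lib.Dim.Integral

/-!
# Homogeneous systems of parameters of finite type graded algebras over a field

`R` is `ℤ`-graded, nonnegatively, with degree zero part `k`.
-/

set_option autoImplicit false

universe u

namespace Groth.Agent.H84.Segre.Sop

open Ideal DirectSum

variable {k : Type u} [Field k] {R : Type u} [CommRing R] [Algebra k R]
  (𝒜 : ℤ → Submodule k R) [GradedAlgebra 𝒜]

theorem coe_decompose_eq_self {n : ℤ} {a : R} (ha : a ∈ 𝒜 n) :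
    ((decompose 𝒜 a n : 𝒜 n) : R) = a :=
  decompose_of_mem_same 𝒜 ha

theorem coe_decompose_neg (hpos : ∀ n : ℤ, n < 0 → 𝒜 n = ⊥) {i : ℤ} (hi : i < 0) (a : R) :
    ((decompose 𝒜 a i : 𝒜 i) : R) = 0 :=
  (Submodule.mem_bot k).mp ((hpos i hi).le (decompose 𝒜 a i).2)

/-- Homogeneous prime avoidance. -/
theorem avoid (P : Finset (Ideal R)) (hP : ∀ p ∈ P, p.IsPrime ∧ p.IsHomogeneous 𝒜)
    (hpos : ∀ n : ℤ, n < 0 → 𝒜 n = ⊥)
    (h : ∀ p ∈ P, ∃ d : ℕ, 0 < d ∧ ∃ a ∈ 𝒜 d, a ∉ p) :
    ∃ d : ℕ, 0 < d ∧ ∃ a ∈ 𝒜 d, ∀ p ∈ P, a ∉ p := by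
  classical
  induction P using Finset.strongInduction with
  | H P IH =>
    by_cases hc : ∃ p ∈ P, ∃ q ∈ P, q ≠ p ∧ q ≤ p
    · obtain ⟨p, hp, q, hq, hne, hle⟩ := hc
      obtain ⟨d, hd, a, ha, hav⟩ := IH (P.erase q) (Finset.erase_ssubset hq)
        (fun x hx => hP x (Finset.mem_of_mem_erase hx))
        (fun x hx => h x (Finset.mem_of_mem_erase hx))
      refine ⟨d, hd, a, ha, fun x hx hax => ?_⟩
      by_cases hxq : x = q
      · exact hav p (Finset.mem_erase.mpr ⟨Ne.symm hne, hp⟩) (hle (hxq ▸ hax))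
      · exact hav x (Finset.mem_erase.mpr ⟨hxq, hx⟩) hax
    · push Not at hc
      have sep : ∀ p ∈ P, ∀ q ∈ P, ∃ e : ℕ, ∃ c ∈ 𝒜 e, c ∉ p ∧ (q ≠ p → c ∈ q) := by
        intro p hp q hq
        by_cases hne : q = p
        · refine ⟨0, 1, by simpa using SetLike.one_mem_graded 𝒜, ?_, fun h => absurd hne h⟩
          exact fun h1 => (hP p hp).1.ne_top ((Ideal.eq_top_iff_one _).mpr h1)
        · obtain ⟨x, hxq, hxp⟩ := SetLike.not_le_iff_exists.mp (hc p hp q hq hne)
          have : ∃ i, ((decompose 𝒜 x i : 𝒜 i) : R) ∉ p := by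
            by_contra hall
            push Not at hall
            apply hxp
            rw [← sum_support_decompose 𝒜 x]
            exact Ideal.sum_mem _ fun i _ => hall i
          obtain ⟨i, hi⟩ := this
          have hi0 : 0 ≤ i := by
            by_contra hneg
            apply hi
            rw [coe_decompose_neg 𝒜 hpos (by omega) x]
            exact Ideal.zero_mem _
          obtain ⟨e, rfl⟩ := Int.eq_ofNat_of_zero_le hi0
          exact ⟨e, _, (decompose 𝒜 x (e : ℤ)).2, hi, fun _ => (hP q hq).2 (e : ℤ) hxq⟩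
      choose e c hce hcp hcq using sep
      choose! d hd a ha hap using h
      -- for each `p`, an element in all the other primes but not in `p`
      have key : ∀ p ∈ P, ∃ m : ℕ, 0 < m ∧ ∃ b ∈ 𝒜 m, b ∉ p ∧ ∀ q ∈ P, q ≠ p → b ∈ q := by
        intro p hp
        refine ⟨d p + ∑ q ∈ P.attach, e p hp q.1 q.2, by have := hd p hp; omega,
          a p * ∏ q ∈ P.attach, c p hp q.1 q.2, ?_, ?_, ?_⟩
        · push_cast
          exact SetLike.mul_mem_graded (ha p hp)
            (SetLike.prod_mem_graded (A := 𝒜) _ _ fun q _ => hce p hp q.1 q.2)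
        · intro hmem
          rcases (hP p hp).1.mem_or_mem hmem with h1 | h1
          · exact hap p hp h1
          · obtain ⟨q, _, hq⟩ := (hP p hp).1.prod_mem_iff.mp h1
            exact hcp p hp q.1 q.2 hq
        · intro q hq hne
          refine Ideal.mul_mem_left _ _ ?_
          exact Ideal.prod_mem _ (Finset.mem_attach _ ⟨q, hq⟩) (hcq p hp q hq hne)
      choose! m hm b hb hbp hbq using key
      refine ⟨∏ p ∈ P, m p, Finset.prod_pos hm, ∑ p ∈ P, b p ^ (∏ q ∈ P.erase p, m q), ?_, ?_⟩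
      · refine Submodule.sum_mem _ fun p hp => ?_
        have := SetLike.pow_mem_graded (∏ q ∈ P.erase p, m q) (hb p hp)
        rwa [nsmul_eq_mul, ← Nat.cast_mul, Finset.prod_erase_mul _ _ hp] at this
      · intro p hp hmem
        rw [← Finset.add_sum_erase _ _ hp] at hmem
        have h2 : ∑ x ∈ P.erase p, b x ^ (∏ q ∈ P.erase x, m q) ∈ p := by
          refine Ideal.sum_mem _ fun x hx => ?_
          refine Ideal.pow_mem_of_mem _ (hbq x (Finset.mem_of_mem_erase hx) p hp
            (Finset.ne_of_mem_erase hx).symm) _ ?_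
          exact Finset.prod_pos fun q hq => hm q (Finset.mem_of_mem_erase hq)
        exact hbp p hp ((hP p hp).1.mem_of_pow_mem _ ((Ideal.add_mem_iff_left _ h2).mp hmem))

theorem minimalPrimes_isHomogeneous {I P : Ideal R} (hI : I.IsHomogeneous 𝒜)
    (hP : P ∈ I.minimalPrimes) : P.IsHomogeneous 𝒜 := by
  have h1 : (P.homogeneousCore 𝒜).toIdeal.IsPrime := hP.1.1.homogeneousCore
  have h2 : I ≤ (P.homogeneousCore 𝒜).toIdeal := by
    classical
    intro x hx
    rw [← sum_support_decompose 𝒜 x]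
    exact Ideal.sum_mem _ fun i _ => Ideal.mem_homogeneousCore_of_homogeneous_of_mem
      ⟨i, (decompose 𝒜 x i).2⟩ (hP.1.2 (hI i hx))
  have h3 : P ≤ (P.homogeneousCore 𝒜).toIdeal :=
    hP.2 ⟨h1, h2⟩ (Ideal.toIdeal_homogeneousCore_le 𝒜 P)
  have : (P.homogeneousCore 𝒜).toIdeal = P :=
    le_antisymm (Ideal.toIdeal_homogeneousCore_le 𝒜 P) h3
  rw [← this]
  exact (P.homogeneousCore 𝒜).isHomogeneous

/-- In a graded algebra with `R₀ = k`, a homogeneous prime has no nonzero element of degree zero. -/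
theorem eq_zero_of_mem {P : Ideal R} (hP : P ≠ ⊤) (h0 : 𝒜 0 = Submodule.span k {(1 : R)})
    {a : R} (ha : a ∈ 𝒜 0) (haP : a ∈ P) : a = 0 := by
  rw [h0, Submodule.mem_span_singleton] at ha
  obtain ⟨c, rfl⟩ := ha
  by_contra hne
  have hc : c ≠ 0 := by rintro rfl; simp at hne
  apply hP
  rw [Ideal.eq_top_iff_one]
  have := P.mul_mem_left (algebraMap k R c⁻¹) haP
  rwa [Algebra.smul_def, ← mul_assoc, ← map_mul, inv_mul_cancel₀ hc, map_one, one_mul] at this

/-- Every chain of primes containing `I` has length at most `n`. -/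
def Bound (I : Ideal R) (n : ℕ) : Prop :=
  ∀ l : LTSeries (PrimeSpectrum R), I ≤ l.head.asIdeal → l.length ≤ n

theorem exists_params [IsNoetherianRing R] (hpos : ∀ n : ℤ, n < 0 → 𝒜 n = ⊥)
    (h0 : 𝒜 0 = Submodule.span k {(1 : R)}) :
    ∀ (n : ℕ) (I : Ideal R), I.IsHomogeneous 𝒜 → Bound I n →
      ∃ (m : ℕ) (x : Fin m → R) (d : Fin m → ℕ), m ≤ n ∧ (∀ i, 0 < d i ∧ x i ∈ 𝒜 (d i)) ∧
        ∀ j : ℕ, 0 < j → ∀ a ∈ 𝒜 j, a ∈ (I ⊔ Ideal.span (Set.range x)).radical := by
  classical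
  intro n
  induction n using Nat.strong_induction_on with
  | _ n IH =>
  intro I hI hB
  by_cases hc : ∀ j : ℕ, 0 < j → ∀ a ∈ 𝒜 j, a ∈ I.radical
  · refine ⟨0, Fin.elim0, Fin.elim0, Nat.zero_le _, fun i => i.elim0, fun j hj a ha => ?_⟩
    exact Ideal.radical_mono le_sup_left (hc j hj a ha)
  push Not at hc
  obtain ⟨j₀, hj₀, a₀, ha₀, hna⟩ := hc
  rw [← Ideal.sInf_minimalPrimes, Submodule.mem_sInf] at hna
  push Not at hna
  obtain ⟨q₀, hq₀, hq₀a⟩ := hna
  have hfin : I.minimalPrimes.Finite := Ideal.finite_minimalPrimes_of_isNoetherianRing _ I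
  have hhom : ∀ P ∈ I.minimalPrimes, P.IsHomogeneous 𝒜 :=
    fun P hP => minimalPrimes_isHomogeneous 𝒜 hI hP
  obtain ⟨d, hd, x, hx, hxP⟩ := avoid 𝒜 hfin.toFinset
    (fun p hp => ⟨(hfin.mem_toFinset.mp hp).1.1, hhom p (hfin.mem_toFinset.mp hp)⟩) hpos
    (by
      intro p hp
      rw [hfin.mem_toFinset] at hp
      by_contra hall
      push Not at hall
      have hle : q₀ ≤ p := by
        intro z hz
        rw [← sum_support_decompose 𝒜 z]
        refine Ideal.sum_mem _ fun i _ => ?_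
        have hzq : ((decompose 𝒜 z i : 𝒜 i) : R) ∈ q₀ := hhom q₀ hq₀ i hz
        rcases lt_trichotomy i 0 with hi | hi | hi
        · rw [coe_decompose_neg 𝒜 hpos hi z]
          exact p.zero_mem
        · subst hi
          rw [eq_zero_of_mem 𝒜 hq₀.1.1.ne_top h0 (decompose 𝒜 z 0).2 hzq]
          exact p.zero_mem
        · obtain ⟨e, rfl⟩ := Int.eq_ofNat_of_zero_le hi.le
          exact hall e (by omega) _ (decompose 𝒜 z (e : ℤ)).2
      have : q₀ = p := le_antisymm hle (hp.2 ⟨hq₀.1.1, hq₀.1.2⟩ hle)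
      exact hq₀a (this ▸ hall j₀ hj₀ a₀ ha₀))
  have hxP' : ∀ P ∈ I.minimalPrimes, x ∉ P := fun P hP => hxP P (hfin.mem_toFinset.mpr hP)
  -- a prime strictly above a minimal prime
  have hn : 1 ≤ n := by
    have hne : q₀ ⊔ Ideal.span {x} ≠ ⊤ := by
      intro htop
      have h1 : (1 : R) ∈ q₀ ⊔ Ideal.span {x} := htop ▸ Submodule.mem_top
      obtain ⟨a, haq, b, hb, hab⟩ := Submodule.mem_sup.mp h1
      obtain ⟨r, rfl⟩ := Ideal.mem_span_singleton'.mp hb
      have hr : ((decompose 𝒜 (r * x) 0 : 𝒜 0) : R) = 0 := by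
        have := coe_decompose_mul_add_of_right_mem 𝒜 (a := r) (i := -(d : ℤ)) hx
        rw [neg_add_cancel] at this
        rw [this]
        rw [coe_decompose_neg 𝒜 hpos (by omega) r, zero_mul]
      have h1' : ((decompose 𝒜 (a + r * x) 0 : 𝒜 0) : R) = 1 := by
        rw [hab]; exact coe_decompose_eq_self 𝒜 (SetLike.one_mem_graded 𝒜)
      rw [decompose_add, DFinsupp.add_apply, Submodule.coe_add, hr, add_zero] at h1'
      exact hq₀.1.1.ne_top ((Ideal.eq_top_iff_one _).mpr (h1' ▸ hhom q₀ hq₀ 0 haq))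
    obtain ⟨M, hM, hMle⟩ := Ideal.exists_le_maximal _ hne
    have hlt : (⟨q₀, hq₀.1.1⟩ : PrimeSpectrum R) < ⟨M, hM.isPrime⟩ := by
      show q₀ < M
      refine lt_of_le_of_ne (le_sup_left.trans hMle) ?_
      intro he
      exact hxP' q₀ hq₀ (he ▸ hMle (Ideal.mem_sup_right (Ideal.mem_span_singleton_self x)))
    let l : LTSeries (PrimeSpectrum R) :=
      (RelSeries.singleton _ (⟨M, hM.isPrime⟩ : PrimeSpectrum R)).cons ⟨q₀, hq₀.1.1⟩ hlt
    exact hB l hq₀.1.2
  have hI' : (I ⊔ Ideal.span {x}).IsHomogeneous 𝒜 :=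
    hI.sup (Ideal.homogeneous_span 𝒜 _ (by rintro y rfl; exact ⟨d, hx⟩))
  have hB' : Bound (I ⊔ Ideal.span {x}) (n - 1) := by
    intro l hl
    obtain ⟨P, hP, hPle⟩ := Ideal.exists_minimalPrimes_le (J := l.head.asIdeal)
      (le_sup_left.trans hl)
    have hlt : (⟨P, hP.1.1⟩ : PrimeSpectrum R) < l.head := by
      show P < l.head.asIdeal
      refine lt_of_le_of_ne hPle ?_
      intro he
      exact hxP' P hP (he ▸ hl (Ideal.mem_sup_right (Ideal.mem_span_singleton_self x)))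
    have := hB (l.cons ⟨P, hP.1.1⟩ hlt) (by simpa using hP.1.2)
    simp only [RelSeries.cons_length] at this
    omega
  obtain ⟨m, y, e, hm, hy, hrad⟩ := IH (n - 1) (by omega) _ hI' hB'
  refine ⟨m + 1, Fin.cons x y, Fin.cons d e, by omega, ?_, ?_⟩
  · intro i
    induction i using Fin.cases with
    | zero => simpa using ⟨hd, hx⟩
    | succ i => simpa using hy i
  · intro j hj a ha
    refine Ideal.radical_mono ?_ (hrad j hj a ha)
    rw [Fin.range_cons, Set.insert_eq, Ideal.span_union, sup_assoc]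

/-- All homogeneous elements of positive degree are nilpotent modulo `x`. -/
def IsParams {m : ℕ} (x : Fin m → R) : Prop :=
  ∀ j : ℕ, 0 < j → ∀ a ∈ 𝒜 j, a ∈ (Ideal.span (Set.range x)).radical

theorem IsParams.pow {m : ℕ} {x : Fin m → R} (hx : IsParams 𝒜 x) (e : Fin m → ℕ) :
    IsParams 𝒜 fun i => x i ^ e i := by
  intro j hj a ha
  have hle : Ideal.span (Set.range x) ≤ (Ideal.span (Set.range fun i => x i ^ e i)).radical := by
    rw [Ideal.span_le]
    rintro z ⟨i, rfl⟩
    exact ⟨e i, Ideal.subset_span ⟨i, rfl⟩⟩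
  exact Ideal.radical_idem (Ideal.span (Set.range fun i => x i ^ e i)) ▸
    Ideal.radical_mono hle (hx j hj a ha)

theorem exists_common_degree [Algebra.FiniteType k R] (hpos : ∀ n : ℤ, n < 0 → 𝒜 n = ⊥)
    (h0 : 𝒜 0 = Submodule.span k {(1 : R)}) {r : ℕ} (hr : ringKrullDim R ≤ (r : ℕ)) :
    ∃ (m d : ℕ) (x : Fin m → R), m ≤ r ∧ 0 < d ∧ (∀ i, x i ∈ 𝒜 d) ∧ IsParams 𝒜 x := by
  classical
  haveI : IsNoetherianRing R := Algebra.FiniteType.isNoetherianRing k R
  have hB : Bound (⊥ : Ideal R) r := by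
    intro l _
    have := le_trans (Order.LTSeries.length_le_krullDim l) hr
    exact_mod_cast this
  obtain ⟨m, x, d, hm, hx, hrad⟩ :=
    exists_params 𝒜 hpos h0 r ⊥ (Ideal.IsHomogeneous.bot 𝒜) hB
  refine ⟨m, ∏ i, d i, fun i => x i ^ (∏ j ∈ Finset.univ.erase i, d j), hm,
    Finset.prod_pos fun i _ => (hx i).1, fun i => ?_, ?_⟩
  · have := SetLike.pow_mem_graded (∏ j ∈ Finset.univ.erase i, d j) (hx i).2
    rwa [nsmul_eq_mul, ← Nat.cast_mul, Finset.prod_erase_mul _ _ (Finset.mem_univ i)] at this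
  · refine IsParams.pow 𝒜 ?_ _
    intro j hj a ha
    simpa using hrad j hj a ha

theorem isIntegral [Algebra.FiniteType k R] (hpos : ∀ n : ℤ, n < 0 → 𝒜 n = ⊥)
    (h0 : 𝒜 0 = Submodule.span k {(1 : R)}) {m d : ℕ} (hd : 0 < d) {x : Fin m → R}
    (hxd : ∀ i, x i ∈ 𝒜 d) (hx : IsParams 𝒜 x) :
    Algebra.IsIntegral (Algebra.adjoin k (Set.range x)) R := by
  classical
  set C := Algebra.adjoin k (Set.range x) with hC
  obtain ⟨s, hs⟩ := (Algebra.FiniteType.out : (⊤ : Subalgebra k R).FG)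
  -- homogeneous generators of positive degree
  let G : Finset (ℤ × R) := (s.biUnion fun a =>
    (decompose 𝒜 a).support.image fun i => (i, ((decompose 𝒜 a i : 𝒜 i) : R))).filter (0 < ·.1)
  have hGm : ∀ p ∈ G, 0 < p.1 ∧ p.2 ∈ 𝒜 p.1 := by
    intro p hp
    simp only [G, Finset.mem_filter, Finset.mem_biUnion, Finset.mem_image] at hp
    obtain ⟨⟨a, _, i, _, rfl⟩, hpos'⟩ := hp
    exact ⟨hpos', (decompose 𝒜 a i).2⟩
  let g : G → R := fun p => p.1.2
  have hgen : Algebra.adjoin k (Set.range g) = ⊤ := by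
    rw [eq_top_iff, ← hs, Algebra.adjoin_le_iff]
    intro a ha
    rw [← sum_support_decompose 𝒜 a]
    refine Subalgebra.sum_mem _ fun i hi => ?_
    rcases lt_trichotomy i 0 with h | h | h
    · rw [coe_decompose_neg 𝒜 hpos h a]
      exact Subalgebra.zero_mem _
    · subst h
      obtain ⟨c, hc⟩ := Submodule.mem_span_singleton.mp (h0.le (decompose 𝒜 a 0).2)
      rw [← hc, ← Algebra.algebraMap_eq_smul_one]
      exact Subalgebra.algebraMap_mem _ c
    · refine Algebra.subset_adjoin ⟨⟨(i, _), ?_⟩, rfl⟩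
      simp only [G, Finset.mem_filter, Finset.mem_biUnion, Finset.mem_image]
      exact ⟨⟨a, ha, i, hi, rfl⟩, h⟩
  have hgnil : ∀ p : G, ∃ N, g p ^ N ∈ Ideal.span (Set.range x) := by
    intro p
    obtain ⟨e, he⟩ := Int.eq_ofNat_of_zero_le (hGm _ p.2).1.le
    exact hx e (by have := (hGm _ p.2).1; omega) _ (he ▸ (hGm _ p.2).2)
  choose N hN using hgnil
  let mon : (G → ℕ) → R := fun e => ∏ p, g p ^ e p
  let box : Finset (G → ℕ) := Fintype.piFinset fun p => Finset.range (N p)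
  let M : Submodule C R := Submodule.span C (box.image mon : Set R)
  have hmon : ∀ e : G → ℕ, mon e ∈ 𝒜 (∑ p, e p • p.1.1) := fun e =>
    SetLike.prod_mem_graded (A := 𝒜) _ _ fun p _ => SetLike.pow_mem_graded (e p) (hGm _ p.2).2
  have hdeg : ∀ n : ℕ, ∀ a ∈ 𝒜 n, a ∈ M := by
    intro n
    induction n using Nat.strong_induction_on with
    | _ n IH =>
    intro a ha
    obtain ⟨f, hf⟩ : ∃ f : MvPolynomial G k, MvPolynomial.aeval g f = a := by
      have h1 : a ∈ Algebra.adjoin k (Set.range g) := by rw [hgen]; exact Algebra.mem_top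
      rwa [Algebra.adjoin_range_eq_range_aeval, AlgHom.mem_range] at h1
    have hsum : a = ∑ e ∈ f.support, f.coeff e • mon e := by
      conv_lhs => rw [← hf, MvPolynomial.as_sum f]
      rw [map_sum]
      refine Finset.sum_congr rfl fun e _ => ?_
      rw [MvPolynomial.aeval_monomial, Algebra.smul_def]
      congr 1
      exact Finsupp.prod_fintype _ _ (fun p => pow_zero _)
    rw [← coe_decompose_eq_self 𝒜 ha, hsum, decompose_sum, DFinsupp.finsetSum_apply,
      Submodule.coe_sum]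
    refine Submodule.sum_mem _ fun e _ => ?_
    rw [decompose_smul, DFinsupp.smul_apply, Submodule.coe_smul]
    refine Submodule.smul_of_tower_mem _ _ ?_
    by_cases hne : (∑ p, e p • p.1.1) = (n : ℤ)
    · rw [decompose_of_mem_same 𝒜 (hne ▸ hmon e)]
      by_cases hbox : ∀ p, e p < N p
      · exact Submodule.subset_span (Finset.mem_image_of_mem mon
          (Fintype.mem_piFinset.mpr fun p => Finset.mem_range.mpr (hbox p)))
      push Not at hbox
      obtain ⟨p, hp⟩ := hbox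
      have hmem : mon e ∈ Ideal.span (Set.range x) := by
        refine Ideal.mem_of_dvd _ ?_ (hN p)
        exact (pow_dvd_pow _ hp).trans
          (Finset.dvd_prod_of_mem (fun q => g q ^ e q) (Finset.mem_univ p))
      obtain ⟨c, hc⟩ := (Submodule.mem_span_range_iff_exists_fun R).mp hmem
      rw [← decompose_of_mem_same 𝒜 (hne ▸ hmon e : mon e ∈ 𝒜 (n : ℤ)), ← hc, decompose_sum,
        DFinsupp.finsetSum_apply, Submodule.coe_sum]
      refine Submodule.sum_mem _ fun i _ => ?_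
      have h2 := coe_decompose_mul_add_of_right_mem 𝒜 (a := c i) (i := (n : ℤ) - d) (hxd i)
      rw [sub_add_cancel] at h2
      rw [smul_eq_mul, h2]
      by_cases hnd : d ≤ n
      · have hm : ((decompose 𝒜 (c i) ((n : ℤ) - d) : 𝒜 _) : R) ∈ 𝒜 ((n - d : ℕ) : ℤ) := by
          rw [Nat.cast_sub hnd]; exact (decompose 𝒜 (c i) _).2
        have h3 := IH (n - d) (by omega) _ hm
        have h4 : x i ∈ C := Algebra.subset_adjoin ⟨i, rfl⟩
        rw [mul_comm]
        exact M.smul_mem (⟨x i, h4⟩ : C) h3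
      · rw [coe_decompose_neg 𝒜 hpos (by omega) (c i), zero_mul]
        exact M.zero_mem
    · rw [decompose_of_mem_ne 𝒜 (hmon e) hne]
      exact M.zero_mem
  haveI : Module.Finite C R := by
    refine ⟨⟨box.image mon, eq_top_iff.mpr fun a _ => ?_⟩⟩
    rw [← sum_support_decompose 𝒜 a]
    refine Submodule.sum_mem _ fun i _ => ?_
    rcases lt_or_ge i 0 with h | h
    · rw [coe_decompose_neg 𝒜 hpos h a]; exact M.zero_mem
    · obtain ⟨e, rfl⟩ := Int.eq_ofNat_of_zero_le h
      exact hdeg e _ (decompose 𝒜 a (e : ℤ)).2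
  exact Algebra.IsIntegral.of_finite _ _

theorem algebraicIndependent {m r : ℕ} {x : Fin m → R}
    (hint : Algebra.IsIntegral (Algebra.adjoin k (Set.range x)) R)
    (hr : ringKrullDim R = (r : ℕ)) (hm : m ≤ r) :
    m = r ∧ AlgebraicIndependent k x := by
  classical
  set φ := MvPolynomial.aeval (R := k) x
  have hdim : ringKrullDim R = ringKrullDim (MvPolynomial (Fin m) k ⧸ RingHom.ker φ.toRingHom) := by
    set C := Algebra.adjoin k (Set.range x)
    haveI : FaithfulSMul C R := (faithfulSMul_iff_algebraMap_injective _ _).mpr Subtype.val_injective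
    have h1 : ringKrullDim R = ringKrullDim C :=
      Groth.Agent.Lib.Dim.Integral.ringKrullDim_eq_of_isIntegral
    rw [h1]
    have hC : C = φ.range := Algebra.adjoin_range_eq_range_aeval k x
    exact ((RingHom.quotientKerEquivRange φ.toRingHom).trans
      (RingEquiv.subringCongr (show φ.toRingHom.range = C.toSubring by rw [hC]; rfl))).ringKrullDim.symm
  have hpoly : ringKrullDim (MvPolynomial (Fin m) k) = (m : ℕ) := by simp
  have hle : (r : WithBot ℕ∞) ≤ (m : ℕ) := by
    rw [← hr, hdim, ← hpoly]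
    exact ringKrullDim_quotient_le _
  have hmr : m = r := le_antisymm hm (by exact_mod_cast hle)
  refine ⟨hmr, algebraicIndependent_iff.mpr fun f hf => ?_⟩
  by_contra hf0
  have h2 := ringKrullDim_quotient_succ_le_of_nonZeroDivisor (mem_nonZeroDivisors_of_ne_zero hf0)
  have h3 : ringKrullDim (MvPolynomial (Fin m) k ⧸ RingHom.ker φ.toRingHom) ≤
      ringKrullDim (MvPolynomial (Fin m) k ⧸ Ideal.span {f}) :=
    ringKrullDim_le_of_surjective (Ideal.Quotient.factor (by
      rw [Ideal.span_le]; rintro z rfl; exact hf)) (Ideal.Quotient.factor_surjective _)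
  rw [← hdim, hr, ← hmr] at h3
  have h4 : (m : WithBot ℕ∞) + 1 ≤ (m : WithBot ℕ∞) := by
    refine le_trans (add_le_add h3 le_rfl) ?_
    simpa [hpoly] using h2
  have h5 : ((m + 1 : ℕ) : WithBot ℕ∞) ≤ (m : ℕ) := by push_cast; exact h4
  have : m + 1 ≤ m := by exact_mod_cast h5
  omega

end Groth.Agent.H84.Segre.Sop
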