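import Mathlib
import Groth.Agent.H84.Segre.Sop
import Groth.Agent.Lib.Dim.Basic

/-!
# Krull dimension of a Segre product
-/

set_option autoImplicit false

universe u

namespace Groth.Agent.H84.Segre.Dim

open DirectSum AddMonoidAlgebra TensorProduct
open Groth.Agent.H84.Segre.Sop (IsParams)

variable {k : Type u} [Field k]

section Laurent

variable {R B : Type u} [CommRing R] [Algebra k R] [CommRing B] [Algebra k B]

/-- `a ↦ single (σ i) (ι a)` on degree `i` elements. -/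
noncomputable def gradeHom (𝒜 : ℤ → Submodule k R) [GradedAlgebra 𝒜] (ι : R →ₐ[k] B) (σ : ℤ) :
    R →ₐ[k] AddMonoidAlgebra B ℤ :=
  (DirectSum.toAlgebra k (fun i => 𝒜 i)
    (fun i => (AddMonoidAlgebra.lsingle (R := k) (σ * i)).comp (ι.toLinearMap.comp (𝒜 i).subtype))
    (by
      show AddMonoidAlgebra.single (σ * 0) (ι (1 : R)) = 1
      rw [mul_zero, map_one, AddMonoidAlgebra.one_def])
    (fun {i j} a b => by
      show AddMonoidAlgebra.single (σ * (i + j)) (ι ((a : R) * (b : R))) =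
        AddMonoidAlgebra.single (σ * i) (ι (a : R)) * AddMonoidAlgebra.single (σ * j) (ι (b : R))
      rw [AddMonoidAlgebra.single_mul_single, map_mul, mul_add])).comp
  (decomposeAlgEquiv 𝒜).toAlgHom

theorem gradeHom_apply (𝒜 : ℤ → Submodule k R) [GradedAlgebra 𝒜] (ι : R →ₐ[k] B) (σ : ℤ) {i : ℤ}
    {a : R} (ha : a ∈ 𝒜 i) : gradeHom 𝒜 ι σ a = AddMonoidAlgebra.single (σ * i) (ι a) := by
  classical
  have h : decomposeAlgEquiv 𝒜 a = DirectSum.of (fun i => 𝒜 i) i ⟨a, ha⟩ := by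
    show decompose 𝒜 a = _
    exact decompose_coe 𝒜 (⟨a, ha⟩ : 𝒜 i)
  simp only [gradeHom, AlgHom.comp_apply, AlgEquiv.coe_toAlgHom, h, DirectSum.toAlgebra,
    AlgHom.coe_mk, RingHom.coe_mk, MonoidHom.coe_mk, OneHom.coe_mk]
  erw [DirectSum.toSemiring_of]
  rfl

end Laurent

section Segre

variable {R S : Type u} [CommRing R] [Algebra k R] [CommRing S] [Algebra k S]
  (𝒜 : ℤ → Submodule k R) [GradedAlgebra 𝒜] (ℬ : ℤ → Submodule k S) [GradedAlgebra ℬ]

/-- `a ⊗ b ↦ single (i - j) (a ⊗ b)` in bidegree `(i, j)`. -/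
noncomputable def phi : R ⊗[k] S →ₐ[k] AddMonoidAlgebra (R ⊗[k] S) ℤ :=
  Algebra.TensorProduct.lift (gradeHom 𝒜 Algebra.TensorProduct.includeLeft 1)
    (gradeHom ℬ Algebra.TensorProduct.includeRight (-1)) fun _ _ => Commute.all _ _

theorem phi_tmul {i j : ℤ} {a : R} {b : S} (ha : a ∈ 𝒜 i) (hb : b ∈ ℬ j) :
    phi 𝒜 ℬ (a ⊗ₜ b) = AddMonoidAlgebra.single (i - j) (a ⊗ₜ[k] b) := by
  have h : phi 𝒜 ℬ (a ⊗ₜ b) = gradeHom 𝒜 Algebra.TensorProduct.includeLeft 1 a *
      gradeHom ℬ Algebra.TensorProduct.includeRight (-1) b :=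
    Algebra.TensorProduct.lift_tmul _ _ _ _ _
  rw [h, gradeHom_apply 𝒜 _ _ ha, gradeHom_apply ℬ _ _ hb, AddMonoidAlgebra.single_mul_single]
  congr 1
  · ring
  · simp

/-- The bidegree diagonal projection. -/
noncomputable def diag (z : R ⊗[k] S) : R ⊗[k] S := (phi 𝒜 ℬ z).coeff 0

theorem diag_add (z w : R ⊗[k] S) : diag 𝒜 ℬ (z + w) = diag 𝒜 ℬ z + diag 𝒜 ℬ w := by
  simp [diag]

theorem diag_sum {ι : Type*} (s : Finset ι) (f : ι → R ⊗[k] S) :
    diag 𝒜 ℬ (∑ i ∈ s, f i) = ∑ i ∈ s, diag 𝒜 ℬ (f i) := by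
  simp [diag, map_sum]

theorem diag_smul (c : k) (z : R ⊗[k] S) : diag 𝒜 ℬ (c • z) = c • diag 𝒜 ℬ z := by
  simp [diag]

theorem diag_mul {w : R ⊗[k] S} (hw : phi 𝒜 ℬ w = AddMonoidAlgebra.single 0 w) (z : R ⊗[k] S) :
    diag 𝒜 ℬ (z * w) = diag 𝒜 ℬ z * w := by
  rw [diag, map_mul, hw, AddMonoidAlgebra.coeff_mul_single_zero]
  rfl

theorem diag_self {w : R ⊗[k] S} (hw : phi 𝒜 ℬ w = AddMonoidAlgebra.single 0 w) :
    diag 𝒜 ℬ w = w := by
  rw [diag, hw, AddMonoidAlgebra.coeff_single, Finsupp.single_eq_same]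

variable {r s d : ℕ} (x : Fin r → R) (y : Fin s → S)

/-- The algebra generated by the `xᵢ ⊗ yⱼ`. -/
noncomputable def segA : Subalgebra k (R ⊗[k] S) :=
  Algebra.adjoin k (Set.range fun p : Fin r × Fin s => x p.1 ⊗ₜ[k] y p.2)

/-- The algebra generated by the `xᵢ ⊗ 1` and the `1 ⊗ yⱼ`. -/
noncomputable def segC : Subalgebra k (R ⊗[k] S) :=
  Algebra.adjoin k ((Set.range fun i => x i ⊗ₜ[k] (1 : S)) ∪
    Set.range fun j => (1 : R) ⊗ₜ[k] y j)

theorem list_tmul_mem : ∀ (L1 : List (Fin r)) (L2 : List (Fin s)), L1.length = L2.length →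
    (L1.map x).prod ⊗ₜ[k] (L2.map y).prod ∈ segA (k := k) x y
  | [], [], _ => by simpa [Algebra.TensorProduct.one_def] using (segA (k := k) x y).one_mem
  | a :: L1, b :: L2, h => by
    have h1 := list_tmul_mem L1 L2 (by simpa using h)
    have h2 : x a ⊗ₜ[k] y b ∈ segA (k := k) x y := Algebra.subset_adjoin ⟨(a, b), rfl⟩
    simpa [Algebra.TensorProduct.tmul_mul_tmul] using (segA (k := k) x y).mul_mem h2 h1
  | [], _ :: _, h => by simp at h
  | _ :: _, [], h => by simp at h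

theorem diag_mem (hd : 0 < d) (hx : ∀ i, x i ∈ 𝒜 d) (hy : ∀ j, y j ∈ ℬ d) {c : R ⊗[k] S}
    (hc : c ∈ segC (k := k) x y) : diag 𝒜 ℬ c ∈ segA (k := k) x y := by
  classical
  rw [segC, ← Subalgebra.mem_toSubmodule, Algebra.adjoin_eq_span] at hc
  induction hc using Submodule.span_induction with
  | zero => simp [diag]
  | add a b _ _ ha hb => rw [diag_add]; exact add_mem ha hb
  | smul a b _ hb => rw [diag_smul]; exact Subalgebra.smul_mem _ hb a
  | mem z hz =>
    obtain ⟨L1, L2, rfl⟩ : ∃ (L1 : List (Fin r)) (L2 : List (Fin s)),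
        z = (L1.map x).prod ⊗ₜ[k] (L2.map y).prod := by
      induction hz using Submonoid.closure_induction with
      | mem a ha =>
        rcases ha with ⟨i, rfl⟩ | ⟨j, rfl⟩
        · exact ⟨[i], [], by simp⟩
        · exact ⟨[], [j], by simp⟩
      | one => exact ⟨[], [], by simp [Algebra.TensorProduct.one_def]⟩
      | mul a b _ _ ha hb =>
        obtain ⟨L1, L2, rfl⟩ := ha
        obtain ⟨L1', L2', rfl⟩ := hb
        exact ⟨L1 ++ L1', L2 ++ L2', by simp [Algebra.TensorProduct.tmul_mul_tmul]⟩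
    have h1 := SetLike.list_prod_map_mem_graded (A := 𝒜) L1 (fun _ => (d : ℤ)) x fun i _ => hx i
    have h2 := SetLike.list_prod_map_mem_graded (A := ℬ) L2 (fun _ => (d : ℤ)) y fun i _ => hy i
    rw [List.map_const', List.sum_replicate, nsmul_eq_mul] at h1 h2
    rw [diag, phi_tmul 𝒜 ℬ h1 h2]
    by_cases hl : L1.length = L2.length
    · rw [hl, sub_self, AddMonoidAlgebra.coeff_single, Finsupp.single_eq_same]
      exact list_tmul_mem x y L1 L2 hl
    · have hne : (L1.length : ℤ) * d - (L2.length : ℤ) * d ≠ 0 := by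
        rw [← sub_mul]
        exact mul_ne_zero (by omega) (by omega)
      rw [AddMonoidAlgebra.coeff_single, Finsupp.single_eq_of_ne hne.symm]
      exact Subalgebra.zero_mem _

/-- Diagonal elements integral over `segC` are integral over `segA`. -/
theorem isIntegral_segA (hd : 0 < d) (hx : ∀ i, x i ∈ 𝒜 d) (hy : ∀ j, y j ∈ ℬ d)
    {w : R ⊗[k] S} (hw : phi 𝒜 ℬ w = AddMonoidAlgebra.single 0 w)
    (hint : IsIntegral (segC (k := k) x y) w) : IsIntegral (segA (k := k) x y) w := by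
  classical
  obtain ⟨p, hp, he⟩ := hint
  have hwn : ∀ i : ℕ, phi 𝒜 ℬ (w ^ i) = AddMonoidAlgebra.single 0 (w ^ i) := by
    intro i
    rw [map_pow, hw, AddMonoidAlgebra.single_pow, nsmul_zero]
  let c : ℕ → segA (k := k) x y := fun i =>
    ⟨diag 𝒜 ℬ (p.coeff i : segC (k := k) x y), diag_mem 𝒜 ℬ x y hd hx hy (p.coeff i).2⟩
  refine ⟨Polynomial.X ^ p.natDegree +
    ∑ i ∈ Finset.range p.natDegree, Polynomial.C (c i) * Polynomial.X ^ i,
    Polynomial.monic_X_pow_add ((Polynomial.degree_sum_le _ _).trans_lt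
      ((Finset.sup_lt_iff (WithBot.bot_lt_coe _)).mpr fun i hi =>
        lt_of_le_of_lt (Polynomial.degree_C_mul_X_pow_le _ _)
          (WithBot.coe_lt_coe.mpr (Finset.mem_range.mp hi)))), ?_⟩
  have h0 : diag 𝒜 ℬ (Polynomial.eval₂ (algebraMap (segC (k := k) x y) (R ⊗[k] S)) w p) = 0 := by
    rw [he]; simp [diag]
  rw [hp.as_sum] at h0
  simp only [Polynomial.eval₂_add, Polynomial.eval₂_X_pow, Polynomial.eval₂_finsetSum,
    Polynomial.eval₂_mul, Polynomial.eval₂_C] at h0 ⊢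
  rw [diag_add, diag_sum, diag_self 𝒜 ℬ (hwn _)] at h0
  simp only [diag_mul 𝒜 ℬ (hwn _)] at h0
  exact h0

end Segre

section Monomials

/-- The subalgebra generated by the `Xᵢ Yⱼ`. -/
noncomputable def monA (k : Type u) [Field k] (r s : ℕ) :
    Subalgebra k (MvPolynomial (Fin r ⊕ Fin s) k) :=
  Algebra.adjoin k (Set.range fun p : Fin r × Fin s =>
    MvPolynomial.X (Sum.inl p.1) * MvPolynomial.X (Sum.inr p.2))

/-- `Xᵢ Y₀` and `X₀ Y_{j+1}`. -/
noncomputable def gens (r s : ℕ) : Fin (r + 1) ⊕ Fin s → monA k (r + 1) (s + 1) :=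
  Sum.elim (fun i => ⟨_, Algebra.subset_adjoin ⟨(i, 0), rfl⟩⟩)
    fun j => ⟨_, Algebra.subset_adjoin ⟨(0, j.succ), rfl⟩⟩

theorem gens_algebraicIndependent (r s : ℕ) :
    AlgebraicIndependent k (gens (k := k) r s) := by
  classical
  let P := MvPolynomial (Fin (r + 1) ⊕ Fin s) k
  let ι := algebraMap P (FractionRing P)
  let g : MvPolynomial (Fin (r + 1) ⊕ Fin (s + 1)) k →ₐ[k] FractionRing P :=
    MvPolynomial.aeval (Sum.elim (fun i => ι (MvPolynomial.X (Sum.inl i)))
      (Fin.cons 1 fun j => ι (MvPolynomial.X (Sum.inr j)) / ι (MvPolynomial.X (Sum.inl 0))))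
  have hX : ι (MvPolynomial.X (Sum.inl 0)) ≠ 0 := fun h =>
    MvPolynomial.X_ne_zero (R := k) (Sum.inl (0 : Fin (r + 1)) : Fin (r + 1) ⊕ Fin s)
      (IsFractionRing.injective P (FractionRing P) (by rw [map_zero]; exact h))
  have key : (g.comp (monA k (r + 1) (s + 1)).val).comp (MvPolynomial.aeval (gens (k := k) r s))
      = IsScalarTower.toAlgHom k P (FractionRing P) := by
    refine MvPolynomial.algHom_ext fun v => ?_
    rcases v with i | j
    · simp [g, gens, ι, P]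
    · simp only [g, gens, AlgHom.comp_apply, MvPolynomial.aeval_X, Sum.elim_inr, Subalgebra.coe_val,
        map_mul, Sum.elim_inl, Fin.cons_succ, IsScalarTower.coe_toAlgHom']
      exact mul_div_cancel₀ _ hX
  intro a b hab
  have := congrArg (g.comp (monA k (r + 1) (s + 1)).val) hab
  rw [← AlgHom.comp_apply, ← AlgHom.comp_apply (g.comp _), key] at this
  exact IsFractionRing.injective P (FractionRing P) this

theorem isAlgebraic_of_mul_eq {A : Type u} [CommRing A] [IsDomain A] [Algebra k A]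
    (G : Subalgebra k A) {z : A} (e c : G) (he : e ≠ 0) (h : (e : A) * z = c) :
    IsAlgebraic G z := by
  refine ⟨Polynomial.C e * Polynomial.X + Polynomial.C (-c), ?_, ?_⟩
  · intro h0
    exact he (by simpa using congrArg (fun q => Polynomial.coeff q 1) h0)
  · simp [Polynomial.aeval_def, Subalgebra.algebraMap_def, h]

theorem isAlgebraic_of_generators {A : Type u} [CommRing A] [IsDomain A] [Algebra k A]
    (G : Subalgebra k A) (t : Set A) (ht : Algebra.adjoin k t = ⊤)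
    (halg : ∀ z ∈ t, IsAlgebraic G z) : Algebra.IsAlgebraic G A := by
  refine ⟨fun z => ?_⟩
  have hz : z ∈ Algebra.adjoin k t := ht ▸ Algebra.mem_top
  induction hz using Algebra.adjoin_induction with
  | mem a ha => exact halg a ha
  | algebraMap c => exact isAlgebraic_algebraMap (algebraMap k G c)
  | add a b _ _ ha hb => exact ha.add hb
  | mul a b _ _ ha hb => exact ha.mul hb

theorem monA_isAlgebraic (r s : ℕ) :
    Algebra.IsAlgebraic (Algebra.adjoin k (Set.range (gens (k := k) r s)))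
      (monA k (r + 1) (s + 1)) := by
  classical
  refine isAlgebraic_of_generators _ _
    (Algebra.adjoin_adjoin_coe_preimage (R := k) (s := Set.range fun p : Fin (r + 1) × Fin (s + 1) =>
      (MvPolynomial.X (Sum.inl p.1) * MvPolynomial.X (Sum.inr p.2) :
        MvPolynomial (Fin (r + 1) ⊕ Fin (s + 1)) k))) ?_
  rintro z ⟨⟨i, j⟩, hz⟩
  rcases Fin.eq_zero_or_eq_succ j with rfl | ⟨j, rfl⟩
  · have : z = gens r s (Sum.inl i) := Subtype.ext hz.symm
    subst this
    exact isAlgebraic_algebraMap (⟨gens r s (Sum.inl i), Algebra.subset_adjoin ⟨Sum.inl i, rfl⟩⟩ :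
      Algebra.adjoin k (Set.range (gens (k := k) r s)))
  · refine isAlgebraic_of_mul_eq _ ⟨gens r s (Sum.inl 0), Algebra.subset_adjoin ⟨Sum.inl 0, rfl⟩⟩
      ⟨gens r s (Sum.inl i) * gens r s (Sum.inr j), Subalgebra.mul_mem _
        (Algebra.subset_adjoin ⟨Sum.inl i, rfl⟩) (Algebra.subset_adjoin ⟨Sum.inr j, rfl⟩)⟩ ?_ ?_
    · intro h
      have := congrArg (fun t => ((Subtype.val t : monA k (r + 1) (s + 1)) :
        MvPolynomial (Fin (r + 1) ⊕ Fin (s + 1)) k)) h
      simp [gens] at this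
    · apply Subtype.ext
      simp only [Subalgebra.coe_mul, ← hz, gens, Sum.elim_inl, Sum.elim_inr]
      ring

set_option synthInstance.maxHeartbeats 200000 in
theorem monA_dim (r s : ℕ) :
    ringKrullDim (monA k (r + 1) (s + 1)) = ((r + 1 + s : ℕ) : WithBot ℕ∞) := by
  haveI : Algebra.FiniteType k (monA k (r + 1) (s + 1)) :=
    ((monA k (r + 1) (s + 1)).fg_iff_finiteType).mp
      (Subalgebra.fg_def.mpr ⟨_, Set.finite_range _, rfl⟩)
  haveI := monA_isAlgebraic (k := k) r s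
  have hle : Algebra.trdeg k (monA k (r + 1) (s + 1)) ≤ ((r + 1 + s : ℕ) : Cardinal) := by
    refine (Algebra.IsAlgebraic.trdeg_le_cardinalMk k (Set.range (gens (k := k) r s))).trans ?_
    have h1 := Cardinal.mk_range_le_lift (f := gens (k := k) r s)
    simp only [Cardinal.mk_sum, Cardinal.mk_fin, Cardinal.lift_id', Cardinal.lift_add,
      Cardinal.lift_natCast] at h1
    push_cast
    simpa using h1
  have hge := (gens_algebraicIndependent (k := k) r s).lift_cardinalMk_le_trdeg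
  simp at hge
  rw [Groth.Agent.Lib.Dim.Basic.ringKrullDim_eq_trdegNat k, Groth.Agent.Lib.Dim.Basic.trdegNat,
    le_antisymm hle (by exact_mod_cast hge), Cardinal.toNat_natCast]

end Monomials

section Main

variable {R S T : Type u} [CommRing R] [Algebra k R] [CommRing S] [Algebra k S]
  [CommRing T] [Algebra k T]

theorem main_range (𝒜 : ℤ → Submodule k R) [GradedAlgebra 𝒜] (hposR : ∀ n : ℤ, n < 0 → 𝒜 n = ⊥)
    (h0R : 𝒜 0 = Submodule.span k {(1 : R)}) [Algebra.FiniteType k R]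
    (ℬ : ℤ → Submodule k S) [GradedAlgebra ℬ] (hposS : ∀ n : ℤ, n < 0 → ℬ n = ⊥)
    (h0S : ℬ 0 = Submodule.span k {(1 : S)}) [Algebra.FiniteType k S]
    (W : Subalgebra k (R ⊗[k] S)) (hrange : ∀ z ∈ W, phi 𝒜 ℬ z = AddMonoidAlgebra.single 0 z)
    (hmem : ∀ (n : ℤ), ∀ a ∈ 𝒜 n, ∀ b ∈ ℬ n, a ⊗ₜ[k] b ∈ W)
    (r s : ℕ) (hr : ringKrullDim R = r) (hs : ringKrullDim S = s) (h1r : 1 ≤ r) (h1s : 1 ≤ s) :
    ringKrullDim W = ((r + s - 1 : ℕ) : WithBot ℕ∞) := by
  classical
  obtain ⟨m, d, x0, hm, hd, hx0, hx0p⟩ := Sop.exists_common_degree 𝒜 hposR h0R hr.le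
  obtain ⟨m', e, y0, hm', he, hy0, hy0p⟩ := Sop.exists_common_degree ℬ hposS h0S hs.le
  set D := d * e
  have hD : 0 < D := Nat.mul_pos hd he
  let x : Fin m → R := fun i => x0 i ^ e
  let y : Fin m' → S := fun i => y0 i ^ d
  have hxD : ∀ i, x i ∈ 𝒜 D := fun i => by
    have := SetLike.pow_mem_graded e (hx0 i)
    rwa [nsmul_eq_mul, ← Nat.cast_mul, mul_comm] at this
  have hyD : ∀ i, y i ∈ ℬ D := fun i => by
    have := SetLike.pow_mem_graded d (hy0 i)
    rwa [nsmul_eq_mul, ← Nat.cast_mul] at this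
  have hxint := Sop.isIntegral 𝒜 hposR h0R hD hxD (hx0p.pow 𝒜 fun _ => e)
  have hyint := Sop.isIntegral ℬ hposS h0S hD hyD (hy0p.pow ℬ fun _ => d)
  obtain ⟨hm1, hxind⟩ := Sop.algebraicIndependent hxint hr hm
  obtain ⟨hm2, hyind⟩ := Sop.algebraicIndependent hyint hs hm'
  subst hm1 hm2
  obtain ⟨r', rfl⟩ := Nat.exists_eq_add_of_le' h1r
  obtain ⟨s', rfl⟩ := Nat.exists_eq_add_of_le' h1s
  set A := segA (k := k) x y
  have hAW : A ≤ W := by
    refine Algebra.adjoin_le ?_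
    rintro _ ⟨⟨i, j⟩, rfl⟩
    exact hmem _ _ (hxD i) _ (hyD j)
  -- everything is integral over `segC`
  have hCint : ∀ z : R ⊗[k] S, IsIntegral (segC (k := k) x y) z := by
    let fR : Algebra.adjoin k (Set.range x) →ₐ[k] segC (k := k) x y :=
      ((Algebra.TensorProduct.includeLeft (R := k) (S := k) (A := R) (B := S)).comp
        (Algebra.adjoin k (Set.range x)).val).codRestrict _ (fun a => by
        obtain ⟨a, ha⟩ := a
        have : (Algebra.adjoin k (Set.range x)).map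
            (Algebra.TensorProduct.includeLeft (R := k) (S := k) (A := R) (B := S)) ≤
            segC (k := k) x y := by
          rw [AlgHom.map_adjoin]
          refine Algebra.adjoin_le ?_
          rintro _ ⟨_, ⟨i, rfl⟩, rfl⟩
          exact Algebra.subset_adjoin (Or.inl ⟨i, rfl⟩)
        exact this ⟨a, ha, rfl⟩)
    let fS : Algebra.adjoin k (Set.range y) →ₐ[k] segC (k := k) x y :=
      ((Algebra.TensorProduct.includeRight (R := k) (A := R) (B := S)).comp
        (Algebra.adjoin k (Set.range y)).val).codRestrict _ (fun a => by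
        obtain ⟨a, ha⟩ := a
        have : (Algebra.adjoin k (Set.range y)).map
            (Algebra.TensorProduct.includeRight (R := k) (A := R) (B := S)) ≤
            segC (k := k) x y := by
          rw [AlgHom.map_adjoin]
          refine Algebra.adjoin_le ?_
          rintro _ ⟨_, ⟨i, rfl⟩, rfl⟩
          exact Algebra.subset_adjoin (Or.inr ⟨i, rfl⟩)
        exact this ⟨a, ha, rfl⟩)
    intro z
    induction z with
    | zero => exact isIntegral_zero
    | add a b ha hb => exact ha.add hb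
    | tmul a b =>
      have h1 : IsIntegral (segC (k := k) x y) (a ⊗ₜ[k] (1 : S)) :=
        IsIntegral.map_of_comp_eq fR.toRingHom
          (Algebra.TensorProduct.includeLeft (R := k) (S := k) (A := R) (B := S)).toRingHom
          (by ext; rfl) (Algebra.IsIntegral.isIntegral a)
      have h2 : IsIntegral (segC (k := k) x y) ((1 : R) ⊗ₜ[k] b) :=
        IsIntegral.map_of_comp_eq fS.toRingHom
          (Algebra.TensorProduct.includeRight (R := k) (A := R) (B := S)).toRingHom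
          (by ext; rfl) (Algebra.IsIntegral.isIntegral b)
      simpa using h1.mul h2
  -- `W` is integral over `A`
  letI : Algebra A W := (Subalgebra.inclusion hAW).toAlgebra
  haveI : IsScalarTower A W (R ⊗[k] S) := IsScalarTower.of_algebraMap_eq fun _ => rfl
  haveI : FaithfulSMul A W :=
    (faithfulSMul_iff_algebraMap_injective _ _).mpr (Subalgebra.inclusion_injective hAW)
  haveI : Algebra.IsIntegral A W := ⟨fun w =>
    (isIntegral_algebraMap_iff (R := A) (A := W) (B := R ⊗[k] S)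
      Subtype.val_injective).mp
      (isIntegral_segA 𝒜 ℬ x y hD hxD hyD (hrange _ w.2) (hCint _))⟩
  rw [Groth.Agent.Lib.Dim.Integral.ringKrullDim_eq_of_isIntegral (R := A) (A := W)]
  -- `A` is a monomial algebra
  let M : MvPolynomial (Fin (r' + 1) ⊕ Fin (s' + 1)) k →ₐ[k] R ⊗[k] S :=
    MvPolynomial.aeval (Sum.elim (fun i => x i ⊗ₜ[k] (1 : S)) fun j => (1 : R) ⊗ₜ[k] y j)
  have hM : Function.Injective M := by
    let e := MvPolynomial.tensorEquivSum k (Fin (r' + 1)) (Fin (s' + 1)) k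
    let f := Algebra.TensorProduct.map (MvPolynomial.aeval (R := k) x) (MvPolynomial.aeval (R := k) y)
    have hcomp : M.comp e.toAlgHom = f := by
      refine Algebra.TensorProduct.ext ?_ ?_
      · refine MvPolynomial.algHom_ext fun i => ?_
        simp [M, e, f]
      · refine MvPolynomial.algHom_ext fun i => ?_
        simp [M, e, f]
    have hf : Function.Injective f := by
      have h1 := Module.Flat.lTensor_preserves_injective_linearMap
        (M := MvPolynomial (Fin (r' + 1)) k) (MvPolynomial.aeval (R := k) y).toLinearMap hyind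
      have h2 := Module.Flat.rTensor_preserves_injective_linearMap
        (M := S) (MvPolynomial.aeval (R := k) x).toLinearMap hxind
      have h3 : ⇑f = ⇑((MvPolynomial.aeval (R := k) x).toLinearMap.rTensor S) ∘
          ⇑((MvPolynomial.aeval (R := k) y).toLinearMap.lTensor (MvPolynomial (Fin (r' + 1)) k)) := by
        rw [← LinearMap.coe_comp, LinearMap.rTensor_comp_lTensor]
        rfl
      rw [h3]
      exact h2.comp h1
    intro a b hab
    have := @hf (e.symm a) (e.symm b) (by rw [← hcomp]; simpa using hab)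
    exact e.symm.injective this
  have hAeq : (monA k (r' + 1) (s' + 1)).map M = A := by
    rw [monA, AlgHom.map_adjoin, ← Set.range_comp]
    congr 1
    refine congrArg Set.range (funext fun p => ?_)
    simp [M]
  rw [← ringKrullDim_eq_of_ringEquiv
    (((monA k (r' + 1) (s' + 1)).equivMapOfInjective M hM).trans
      (Subalgebra.equivOfEq _ _ hAeq)).toRingEquiv, monA_dim]
  congr 1

theorem phi_range (𝒜 : ℤ → Submodule k R) [GradedAlgebra 𝒜] (ℬ : ℤ → Submodule k S)
    [GradedAlgebra ℬ] (𝒯 : ℤ → Submodule k T) [GradedAlgebra 𝒯] (ψ : T →ₐ[k] R ⊗[k] S)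
    (hdegT : ∀ n : ℤ, (𝒯 n).map ψ.toLinearMap ≤
      Submodule.span k {x : R ⊗[k] S | ∃ a ∈ 𝒜 n, ∃ b ∈ ℬ n, x = a ⊗ₜ[k] b}) :
    ∀ z ∈ ψ.range, phi 𝒜 ℬ z = AddMonoidAlgebra.single 0 z := by
  classical
  rintro _ ⟨t, rfl⟩
  let E := AlgHom.equalizer (phi 𝒜 ℬ) AddMonoidAlgebra.singleZeroAlgHom
  suffices h : ψ t ∈ E from h
  rw [← sum_support_decompose 𝒯 t, map_sum]
  refine Subalgebra.sum_mem _ fun n _ => ?_
  have hle : (Submodule.span k {x : R ⊗[k] S | ∃ a ∈ 𝒜 n, ∃ b ∈ ℬ n, x = a ⊗ₜ[k] b}) ≤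
      Subalgebra.toSubmodule E := by
    rw [Submodule.span_le]
    rintro _ ⟨a, ha, b, hb, rfl⟩
    show phi 𝒜 ℬ _ = AddMonoidAlgebra.singleZeroAlgHom _
    rw [phi_tmul 𝒜 ℬ ha hb, sub_self]
    rfl
  exact hle (hdegT n (Submodule.mem_map_of_mem (decompose 𝒯 t n).2))

theorem main (𝒜 : ℤ → Submodule k R) [GradedAlgebra 𝒜] (hposR : ∀ n : ℤ, n < 0 → 𝒜 n = ⊥)
    (h0R : 𝒜 0 = Submodule.span k {(1 : R)}) [Algebra.FiniteType k R]
    (ℬ : ℤ → Submodule k S) [GradedAlgebra ℬ] (hposS : ∀ n : ℤ, n < 0 → ℬ n = ⊥)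
    (h0S : ℬ 0 = Submodule.span k {(1 : S)}) [Algebra.FiniteType k S]
    (𝒯 : ℤ → Submodule k T) [GradedAlgebra 𝒯] (ψ : T →ₐ[k] R ⊗[k] S)
    (hψ : Function.Injective ψ)
    (hdegT : ∀ n : ℤ, (𝒯 n).map ψ.toLinearMap =
      Submodule.span k {x : R ⊗[k] S | ∃ a ∈ 𝒜 n, ∃ b ∈ ℬ n, x = a ⊗ₜ[k] b})
    (r s : ℕ) (hr : ringKrullDim R = r) (hs : ringKrullDim S = s) (h1r : 1 ≤ r) (h1s : 1 ≤ s) :
    ringKrullDim T = ((r + s - 1 : ℕ) : WithBot ℕ∞) := by
  rw [ringKrullDim_eq_of_ringEquiv (AlgEquiv.ofInjective ψ hψ).toRingEquiv]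
  refine main_range 𝒜 hposR h0R ℬ hposS h0S ψ.range
    (phi_range 𝒜 ℬ 𝒯 ψ fun n => (hdegT n).le) (fun n a ha b hb => ?_) r s hr hs h1r h1s
  have h : a ⊗ₜ[k] b ∈ (𝒯 n).map ψ.toLinearMap := by
    rw [hdegT]; exact Submodule.subset_span ⟨a, ha, b, hb, rfl⟩
  obtain ⟨t, _, ht⟩ := Submodule.mem_map.mp h
  exact ⟨t, ht⟩

end Main

end Groth.Agent.H84.Segre.Dim
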