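import Mathlib
import Groth.Prelude.Def_GrSeg
import Groth.Agent.H84.Segre.Dim
import Groth.Agent.H84.Segre.Quot
import Groth.Agent.Lib.Graded.Ass

/-!
# Dimension of a Segre product of modules
-/

set_option autoImplicit false

universe u

namespace Groth.Agent.H84.Segre.Mod

open DirectSum TensorProduct

variable {k : Type u} [Field k] {R S : Type u} [CommRing R] [Algebra k R] [CommRing S] [Algebra k S]

section Act

variable {M N : Type u} [AddCommGroup M] [Module R M] [Module k M] [IsScalarTower k R M]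
  [AddCommGroup N] [Module S N] [Module k N] [IsScalarTower k S N]

theorem act_mul (z w : R ⊗[k] S) (v : M ⊗[k] N) :
    GrSeg.act k R S M N (z * w) v = GrSeg.act k R S M N z (GrSeg.act k R S M N w v) := by
  induction z with
  | zero => simp
  | add a b ha hb => simp [add_mul, ha, hb]
  | tmul a b =>
    induction w with
    | zero => simp
    | add c d hc hd => simp [mul_add, hc, hd]
    | tmul c d =>
      induction v with
      | zero => simp
      | add p q hp hq => rw [map_add, map_add, map_add, hp, hq]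
      | tmul m n =>
        simp [Algebra.TensorProduct.tmul_mul_tmul, GrSeg.act_tmul, mul_smul]

theorem act_one (v : M ⊗[k] N) : GrSeg.act k R S M N 1 v = v := by
  induction v with
  | zero => simp
  | add p q hp hq => simp [hp, hq]
  | tmul m n => simp [Algebra.TensorProduct.one_def, GrSeg.act_tmul]

variable (k R S M N)

/-- `R ⊗ S → (R / ann M) ⊗ (S / ann N)`. -/
noncomputable def toQuot :
    R ⊗[k] S →ₐ[k] (R ⧸ Module.annihilator R M) ⊗[k] (S ⧸ Module.annihilator S N) :=
  Algebra.TensorProduct.map (Ideal.Quotient.mkₐ k _) (Ideal.Quotient.mkₐ k _)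

variable {k R S M N}

theorem act_eq_zero_of_toQuot {z : R ⊗[k] S} (hz : toQuot k R S M N z = 0) (v : M ⊗[k] N) :
    GrSeg.act k R S M N z v = 0 := by
  have h : z ∈ RingHom.ker (toQuot k R S M N) := hz
  rw [toQuot, Algebra.TensorProduct.map_ker _ _ Ideal.Quotient.mk_surjective
    Ideal.Quotient.mk_surjective] at h
  let K : Ideal (R ⊗[k] S) :=
    { carrier := {z | ∀ v, GrSeg.act k R S M N z v = 0}
      add_mem' := fun {a b} ha hb v => by simp [ha v, hb v]
      zero_mem' := fun v => by simp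
      smul_mem' := fun c a ha v => by rw [smul_eq_mul, act_mul, ha v, map_zero] }
  suffices hle : _ ≤ K from hle h v
  refine sup_le (Ideal.map_le_iff_le_comap.mpr fun a ha v => ?_)
    (Ideal.map_le_iff_le_comap.mpr fun b hb v => ?_)
  · induction v with
    | zero => exact map_zero _
    | add p q hp hq => rw [map_add, hp, hq, add_zero]
    | tmul m n =>
      have ha' : a ∈ Module.annihilator R M := Ideal.Quotient.eq_zero_iff_mem.mp ha
      simp [GrSeg.act_tmul, Module.mem_annihilator.mp ha' m]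
  · induction v with
    | zero => exact map_zero _
    | add p q hp hq => rw [map_add, hp, hq, add_zero]
    | tmul m n =>
      have hb' : b ∈ Module.annihilator S N := Ideal.Quotient.eq_zero_iff_mem.mp hb
      simp [GrSeg.act_tmul, Module.mem_annihilator.mp hb' n]

theorem toQuot_eq_zero {p q : ℕ} (m : Fin p → M) (hm : Submodule.span R (Set.range m) = ⊤)
    (n : Fin q → N) (hn : Submodule.span S (Set.range n) = ⊤) {z : R ⊗[k] S}
    (hz : ∀ i j, GrSeg.act k R S M N z (m i ⊗ₜ[k] n j) = 0) : toQuot k R S M N z = 0 := by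
  classical
  let g : (R ⧸ Module.annihilator R M) →ₗ[k] (Fin p → M) :=
    ((Submodule.liftQ (Module.annihilator R M)
      (LinearMap.pi fun i => LinearMap.toSpanSingleton R M (m i)) (by
        intro a ha; ext i; simp [Module.mem_annihilator.mp ha (m i)]))).restrictScalars k
  let h : (S ⧸ Module.annihilator S N) →ₗ[k] (Fin q → N) :=
    ((Submodule.liftQ (Module.annihilator S N)
      (LinearMap.pi fun j => LinearMap.toSpanSingleton S N (n j)) (by
        intro a ha; ext j; simp [Module.mem_annihilator.mp ha (n j)]))).restrictScalars k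
  have hg : Function.Injective g := by
    rw [injective_iff_map_eq_zero]
    intro a ha
    obtain ⟨a, rfl⟩ := Ideal.Quotient.mk_surjective a
    refine Ideal.Quotient.eq_zero_iff_mem.mpr ?_
    rw [← Submodule.annihilator_top, ← hm, Submodule.mem_annihilator_span]
    rintro ⟨_, i, rfl⟩
    exact congrFun ha i
  have hh : Function.Injective h := by
    rw [injective_iff_map_eq_zero]
    intro a ha
    obtain ⟨a, rfl⟩ := Ideal.Quotient.mk_surjective a
    refine Ideal.Quotient.eq_zero_iff_mem.mpr ?_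
    rw [← Submodule.annihilator_top, ← hn, Submodule.mem_annihilator_span]
    rintro ⟨_, j, rfl⟩
    exact congrFun ha j
  have hgh : Function.Injective (TensorProduct.map g h) := by
    rw [← LinearMap.rTensor_comp_lTensor, LinearMap.coe_comp]
    exact (Module.Flat.rTensor_preserves_injective_linearMap g hg).comp
      (Module.Flat.lTensor_preserves_injective_linearMap h hh)
  refine hgh ?_
  rw [map_zero]
  let G : R ⊗[k] S →ₗ[k] (Fin p → M) ⊗[k] (Fin q → N) :=
    TensorProduct.map g h ∘ₗ (toQuot k R S M N).toLinearMap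
  show G z = 0
  let π : Fin p → Fin q → ((Fin p → M) ⊗[k] (Fin q → N) →ₗ[k] M ⊗[k] N) := fun i j =>
    TensorProduct.map (LinearMap.proj i) (LinearMap.proj j)
  have hπ : ∀ i j (w : R ⊗[k] S), π i j (G w) = GrSeg.act k R S M N w (m i ⊗ₜ[k] n j) := by
    intro i j w
    induction w with
    | zero => simp
    | add a b ha hb => simp [ha, hb]
    | tmul a b => simp [π, G, g, h, toQuot, GrSeg.act_tmul]; rfl
  have hid : ∀ w : (Fin p → M) ⊗[k] (Fin q → N), w = ∑ i, ∑ j,
      TensorProduct.map (LinearMap.single k (fun _ : Fin p => M) i)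
        (LinearMap.single k (fun _ : Fin q => N) j) (π i j w) := by
    intro w
    induction w with
    | zero => simp
    | add a b ha hb =>
      conv_lhs => rw [ha, hb]
      simp [Finset.sum_add_distrib]
    | tmul f e =>
      conv_lhs => rw [← Finset.univ_sum_single f, ← Finset.univ_sum_single e]
      simp [π, TensorProduct.sum_tmul, TensorProduct.tmul_sum]
      rw [Finset.sum_comm]
  rw [hid (G z)]
  simp [hπ, hz]

end Act

section Std

variable (𝒜 : ℤ → Submodule k R) [GradedAlgebra 𝒜]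

theorem exists_sum_mul_of_std (hstd : Ideal.span (⋃ n ∈ Set.Ioi (0 : ℤ), (𝒜 n : Set R)) =
    Ideal.span ((𝒜 1 : Submodule k R) : Set R)) {n : ℤ} (hn : 0 < n) {a : R} (ha : a ∈ 𝒜 n) :
    a ∈ Submodule.span k {z : R | ∃ x ∈ 𝒜 1, ∃ b ∈ 𝒜 (n - 1), z = x * b} := by
  classical
  have hmem : a ∈ Submodule.span R ((𝒜 1 : Submodule k R) : Set R) := by
    show a ∈ Ideal.span _
    rw [← hstd]
    exact Ideal.subset_span (Set.mem_biUnion (Set.mem_Ioi.mpr hn) ha)
  obtain ⟨c, hc, hsum⟩ := Submodule.mem_span_set.mp hmem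
  rw [← decompose_of_mem_same 𝒜 ha, ← hsum, Finsupp.sum, decompose_sum,
    DFinsupp.finsetSum_apply, Submodule.coe_sum]
  refine Submodule.sum_mem _ fun x hx => ?_
  have h2 := coe_decompose_mul_add_of_right_mem 𝒜 (a := c x) (i := n - 1) (hc hx)
  rw [sub_add_cancel] at h2
  rw [smul_eq_mul, h2, mul_comm]
  exact Submodule.subset_span ⟨x, hc hx, _, (decompose 𝒜 (c x) (n - 1)).2, rfl⟩

end Std

section Quotient

variable (𝒜 : ℤ → Submodule k R) [GradedAlgebra 𝒜]
  {M : Type u} [AddCommGroup M] [Module R M]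
  (ℳ : ℤ → AddSubgroup M) [DirectSum.Decomposition ℳ] [SetLike.GradedSMul 𝒜 ℳ]

include ℳ in
theorem annihilator_isHomogeneous : (Module.annihilator R M).IsHomogeneous 𝒜 := by
  classical
  intro i a ha
  rw [Module.mem_annihilator] at ha ⊢
  intro x
  rw [← sum_support_decompose ℳ x, Finset.smul_sum]
  refine Finset.sum_eq_zero fun g _ => ?_
  have h := Groth.Agent.Lib.Graded.Ass.isHomogeneous_ann 𝒜 ℳ (decompose ℳ x g).2 i
    (show a ∈ (Submodule.span R {(decompose ℳ x g : M)}).annihilator by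
      rw [Submodule.mem_annihilator_span_singleton]; exact ha _)
  exact (Submodule.mem_annihilator_span_singleton _ _).mp h

theorem exists_homogeneous_gens [Module.Finite R M] :
    ∃ (p : ℕ) (m : Fin p → M) (e : Fin p → ℤ),
      Submodule.span R (Set.range m) = ⊤ ∧ ∀ i, m i ∈ ℳ (e i) := by
  classical
  obtain ⟨s, hs⟩ := (Module.finite_def.mp (inferInstance : Module.Finite R M))
  let G : Finset (ℤ × M) := s.biUnion fun x =>
    (decompose ℳ x).support.image fun g => (g, (decompose ℳ x g : M))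
  refine ⟨G.card, fun i => (G.equivFin.symm i).1.2, fun i => (G.equivFin.symm i).1.1, ?_, ?_⟩
  · rw [eq_top_iff, ← hs, Submodule.span_le]
    intro x hx
    rw [← sum_support_decompose ℳ x]
    refine Submodule.sum_mem _ fun g hg => Submodule.subset_span ?_
    refine ⟨G.equivFin ⟨(g, (decompose ℳ x g : M)), ?_⟩, by simp⟩
    exact Finset.mem_biUnion.mpr ⟨x, hx, Finset.mem_image_of_mem _ hg⟩
  · intro i
    obtain ⟨x, _, hx⟩ := Finset.mem_biUnion.mp (G.equivFin.symm i).2
    obtain ⟨g, _, hg⟩ := Finset.mem_image.mp hx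
    show (G.equivFin.symm i).1.2 ∈ ℳ (G.equivFin.symm i).1.1
    rw [← hg]
    exact (decompose ℳ x g).2

theorem dim_quotient [IsNoetherianRing R] [Module.Finite R M] {d : ℕ}
    (hd : Module.supportDim R M = d) (hA : ¬ IsArtinian R M) :
    ringKrullDim (R ⧸ Module.annihilator R M) = d ∧ 1 ≤ d := by
  have h : ringKrullDim (R ⧸ Module.annihilator R M) = d := by
    rw [← Module.supportDim_eq_ringKrullDim_quotient_annihilator, hd]
  refine ⟨h, Nat.one_le_iff_ne_zero.mpr fun h0 => hA ?_⟩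
  subst h0
  haveI : Nontrivial M := (Module.supportDim_ne_bot_iff_nontrivial (R := R) (M := M)).mp (by rw [hd]; simp)
  haveI : Ring.KrullDimLE 0 (R ⧸ Module.annihilator R M) :=
    Ring.krullDimLE_iff.mpr (by rw [h])
  haveI : IsArtinianRing (R ⧸ Module.annihilator R M) :=
    IsNoetherianRing.isArtinianRing_of_krullDimLE_zero
  have hT : Module.IsTorsionBySet R M (Module.annihilator R M) := fun x a =>
    Module.mem_annihilator.mp a.2 x
  letI : Module (R ⧸ Module.annihilator R M) M := hT.module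
  haveI : IsScalarTower R (R ⧸ Module.annihilator R M) M := hT.isScalarTower
  haveI : Module.Finite (R ⧸ Module.annihilator R M) M := Module.Finite.of_restrictScalars_finite R _ M
  haveI : IsArtinian (R ⧸ Module.annihilator R M) M := inferInstance
  exact (LinearMap.isArtinian_iff_of_bijective
    (σ := Ideal.Quotient.mk (Module.annihilator R M))
    ({ toFun := id, map_add' := fun _ _ => rfl, map_smul' := fun _ _ => rfl } :
      M →ₛₗ[Ideal.Quotient.mk (Module.annihilator R M)] M) Function.bijective_id).mpr ‹_›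

end Quotient

set_option maxHeartbeats 1000000 in
theorem supportDim_segre (𝒜 : ℤ → Submodule k R) [GradedAlgebra 𝒜]
    (hposR : ∀ n : ℤ, n < 0 → 𝒜 n = ⊥) (h0R : 𝒜 0 = Submodule.span k {(1 : R)})
    [Algebra.FiniteType k R]
    (ℬ : ℤ → Submodule k S) [GradedAlgebra ℬ] (hposS : ∀ n : ℤ, n < 0 → ℬ n = ⊥)
    (h0S : ℬ 0 = Submodule.span k {(1 : S)}) [Algebra.FiniteType k S]
    (T : Type u) [CommRing T] [Algebra k T] (𝒯 : ℤ → Submodule k T) [GradedAlgebra 𝒯]
    (ψ : T →ₐ[k] R ⊗[k] S) (hT : GrSeg.IsSegreRing 𝒜 ℬ 𝒯 ψ)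
    (hstdR : Ideal.span (⋃ n ∈ Set.Ioi (0 : ℤ), (𝒜 n : Set R)) =
      Ideal.span ((𝒜 1 : Submodule k R) : Set R))
    (hstdS : Ideal.span (⋃ n ∈ Set.Ioi (0 : ℤ), (ℬ n : Set S)) =
      Ideal.span ((ℬ 1 : Submodule k S) : Set S))
    (M : Type u) [AddCommGroup M] [Module R M] [Module k M] [IsScalarTower k R M]
    (ℳ : ℤ → AddSubgroup M) [DirectSum.Decomposition ℳ] [SetLike.GradedSMul 𝒜 ℳ] [Module.Finite R M]
    (N : Type u) [AddCommGroup N] [Module S N] [Module k N] [IsScalarTower k S N]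
    (𝒩 : ℤ → AddSubgroup N) [DirectSum.Decomposition 𝒩] [SetLike.GradedSMul ℬ 𝒩] [Module.Finite S N]
    (P : Type u) [AddCommGroup P] [Module T P] [Module k P] [IsScalarTower k T P]
    (𝒬 : ℤ → AddSubgroup P) [DirectSum.Decomposition 𝒬] (φ : P →ₗ[k] M ⊗[k] N)
    (hP : GrSeg.IsSegreMod ψ ℳ 𝒩 𝒬 φ) (dM dN : ℕ) (hdM : Module.supportDim R M = dM)
    (hdN : Module.supportDim S N = dN) (hMA : ¬ IsArtinian R M) (hNA : ¬ IsArtinian S N) :
    Module.supportDim T P = ((dM + dN - 1 : ℕ) : WithBot ℕ∞) := by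
  classical
  haveI : IsNoetherianRing R := Algebra.FiniteType.isNoetherianRing k R
  haveI : IsNoetherianRing S := Algebra.FiniteType.isNoetherianRing k S
  obtain ⟨hdR', h1M⟩ := dim_quotient hdM hMA
  obtain ⟨hdS', h1N⟩ := dim_quotient hdN hNA
  -- the graded quotients
  set IR := Module.annihilator R M
  set IS := Module.annihilator S N
  have hIR : IR.IsHomogeneous 𝒜 := annihilator_isHomogeneous 𝒜 ℳ
  have hIS : IS.IsHomogeneous ℬ := annihilator_isHomogeneous ℬ 𝒩
  letI := Quot.gradedAlgebra 𝒜 hIR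
  letI := Quot.gradedAlgebra ℬ hIS
  haveI : Algebra.FiniteType k (R ⧸ IR) :=
    Algebra.FiniteType.of_surjective (Ideal.Quotient.mkₐ k IR) Ideal.Quotient.mk_surjective
  haveI : Algebra.FiniteType k (S ⧸ IS) :=
    Algebra.FiniteType.of_surjective (Ideal.Quotient.mkₐ k IS) Ideal.Quotient.mk_surjective
  have hseg : ∀ n, (𝒯 n).map ψ.toLinearMap =
      Submodule.span k {x : R ⊗[k] S | ∃ a ∈ 𝒜 n, ∃ b ∈ ℬ n, x = a ⊗ₜ[k] b} := hT.2
  let q := (toQuot k R S M N).comp ψ
  set J := RingHom.ker q.toRingHom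
  -- the dimension of `T ⧸ J`
  have hdimJ : ringKrullDim (T ⧸ J) = ((dM + dN - 1 : ℕ) : WithBot ℕ∞) := by
    have hdim : ringKrullDim q.range = ((dM + dN - 1 : ℕ) : WithBot ℕ∞) := by
      refine Dim.main_range (Quot.quotDeg 𝒜 IR) ?_ ?_ (Quot.quotDeg ℬ IS) ?_ ?_ q.range ?_ ?_
        dM dN hdR' hdS' h1M h1N
      · intro n hn; rw [Quot.quotDeg, hposR n hn, Submodule.map_bot]
      · rw [Quot.quotDeg, h0R, Submodule.map_span, Set.image_singleton]; simp
      · intro n hn; rw [Quot.quotDeg, hposS n hn, Submodule.map_bot]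
      · rw [Quot.quotDeg, h0S, Submodule.map_span, Set.image_singleton]; simp
      · refine Dim.phi_range _ _ 𝒯 q fun n => ?_
        rw [AlgHom.comp_toLinearMap, Submodule.map_comp, hseg n, Submodule.map_span,
          Submodule.span_le]
        rintro _ ⟨_, ⟨a, ha, b, hb, rfl⟩, rfl⟩
        exact Submodule.subset_span ⟨_, Quot.mk_mem 𝒜 IR ha, _, Quot.mk_mem ℬ IS hb,
          by simp [toQuot, IR, IS]⟩
      · rintro n _ ⟨a, ha, rfl⟩ _ ⟨b, hb, rfl⟩
        have h : a ⊗ₜ[k] b ∈ (𝒯 n).map ψ.toLinearMap := by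
          rw [hseg]; exact Submodule.subset_span ⟨a, ha, b, hb, rfl⟩
        obtain ⟨t, _, ht⟩ := Submodule.mem_map.mp h
        refine ⟨t, ?_⟩
        show toQuot k R S M N (ψ.toLinearMap t) = _
        rw [ht]
        simp [toQuot, IR, IS]
    rw [← hdim]
    exact RingEquiv.ringKrullDim (RingHom.quotientKerEquivRange q.toRingHom)
  -- generation in degree one
  let Tp : Ideal T := Ideal.span ((𝒯 1 : Submodule k T) : Set T)
  have hTpos : ∀ n : ℤ, ∀ t ∈ 𝒯 n, n ≠ 0 → t ∈ Tp := by
    intro n t ht hn0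
    rcases lt_or_gt_of_ne hn0 with hn | hn
    · have h : ψ t ∈ (𝒯 n).map ψ.toLinearMap := Submodule.mem_map_of_mem ht
      rw [hseg] at h
      have hbot : Submodule.span k {x : R ⊗[k] S | ∃ a ∈ 𝒜 n, ∃ b ∈ ℬ n, x = a ⊗ₜ[k] b} ≤ ⊥ := by
        rw [Submodule.span_le]
        rintro _ ⟨a, ha, b, hb, rfl⟩
        rw [hposR n hn, Submodule.mem_bot] at ha
        simp [ha]
      have : t = 0 := hT.1 (by rw [map_zero]; exact (Submodule.mem_bot k).mp (hbot h))
      simp [this]
    · -- `ψ t` is a combination of products with a degree one factor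
      let U : Submodule k (R ⊗[k] S) := (Tp.restrictScalars k).map ψ.toLinearMap
      have hle : Submodule.span k {x : R ⊗[k] S | ∃ a ∈ 𝒜 n, ∃ b ∈ ℬ n, x = a ⊗ₜ[k] b} ≤ U := by
        rw [Submodule.span_le]
        rintro _ ⟨a, ha, b, hb, rfl⟩
        have ha' := exists_sum_mul_of_std 𝒜 hstdR hn ha
        have hb' := exists_sum_mul_of_std ℬ hstdS hn hb
        have key := Submodule.apply_mem_map₂ (TensorProduct.mk k R S) ha' hb'
        rw [Submodule.map₂_span_span] at key
        refine Submodule.span_le.mpr ?_ key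
        rintro _ ⟨_, ⟨a1, ha1, a2, ha2, rfl⟩, _, ⟨b1, hb1, b2, hb2, rfl⟩, rfl⟩
        have h1 : a1 ⊗ₜ[k] b1 ∈ (𝒯 1).map ψ.toLinearMap := by
          rw [hseg]; exact Submodule.subset_span ⟨a1, ha1, b1, hb1, rfl⟩
        have h2 : a2 ⊗ₜ[k] b2 ∈ (𝒯 (n - 1)).map ψ.toLinearMap := by
          rw [hseg]; exact Submodule.subset_span ⟨a2, ha2, b2, hb2, rfl⟩
        obtain ⟨t1, ht1, e1⟩ := Submodule.mem_map.mp h1
        obtain ⟨t2, _, e2⟩ := Submodule.mem_map.mp h2
        refine ⟨t1 * t2, Tp.mul_mem_right _ (Ideal.subset_span ht1), ?_⟩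
        show ψ (t1 * t2) = _
        rw [map_mul]
        show ψ.toLinearMap t1 * ψ.toLinearMap t2 = _
        rw [e1, e2, Algebra.TensorProduct.tmul_mul_tmul]
        rfl
      have h : ψ t ∈ (𝒯 n).map ψ.toLinearMap := Submodule.mem_map_of_mem ht
      rw [hseg] at h
      obtain ⟨t', ht', e⟩ := Submodule.mem_map.mp (hle h)
      exact hT.1 e ▸ ht'
  have hTscal : ∀ t : T, ∃ c : k, t - algebraMap k T c ∈ Tp := by
    intro t
    have h0 : ψ (decompose 𝒯 t 0 : T) ∈ Submodule.span k {(1 : R ⊗[k] S)} := by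
      have h : ψ.toLinearMap (decompose 𝒯 t 0 : T) ∈ (𝒯 0).map ψ.toLinearMap :=
        Submodule.mem_map_of_mem (decompose 𝒯 t 0).2
      rw [hseg] at h
      refine Submodule.span_le.mpr ?_ h
      rintro _ ⟨a, ha, b, hb, rfl⟩
      rw [h0R, Submodule.mem_span_singleton] at ha
      rw [h0S, Submodule.mem_span_singleton] at hb
      obtain ⟨c, rfl⟩ := ha
      obtain ⟨c', rfl⟩ := hb
      refine Submodule.mem_span_singleton.mpr ⟨c * c', ?_⟩
      simp [Algebra.TensorProduct.one_def, TensorProduct.smul_tmul', smul_smul, mul_comm]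
    obtain ⟨c, hc⟩ := Submodule.mem_span_singleton.mp h0
    have hc' : (decompose 𝒯 t 0 : T) = algebraMap k T c := hT.1 (by
      rw [← hc, AlgHom.commutes, Algebra.algebraMap_eq_smul_one])
    refine ⟨c, ?_⟩
    have : t - algebraMap k T c = ∑ i ∈ (decompose 𝒯 t).support.erase 0, (decompose 𝒯 t i : T) := by
      rw [← hc', sub_eq_iff_eq_add]
      conv_lhs => rw [← sum_support_decompose 𝒯 t]
      by_cases h : (0 : ℤ) ∈ (decompose 𝒯 t).support
      · rw [Finset.sum_erase_add _ _ h]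
      · rw [Finset.erase_eq_of_notMem h, DFinsupp.notMem_support_iff.mp h]; simp
    rw [this]
    exact Ideal.sum_mem _ fun i hi => hTpos i _ (decompose 𝒯 t i).2 (Finset.ne_of_mem_erase hi)
  obtain ⟨p, m, e, hm, hme⟩ := exists_homogeneous_gens (R := R) ℳ
  obtain ⟨p', n, f, hn, hnf⟩ := exists_homogeneous_gens (R := S) 𝒩
  -- the support
  have hsupp1 : ∀ Q ∈ Module.support T P, J ≤ Q.asIdeal := by
    intro Q hQ
    obtain ⟨x, hx⟩ := Module.mem_support_iff'.mp hQ
    intro t ht
    by_contra htQ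
    refine hx t htQ (hP.injective ?_)
    rw [hP.map_smul, map_zero]
    exact act_eq_zero_of_toQuot ht _
  have hsupp2 : ∀ Q : PrimeSpectrum T, J ≤ Q.asIdeal → ¬ Tp ≤ Q.asIdeal →
      Q ∈ Module.support T P := by
    intro Q hJQ hTQ
    by_contra hns
    rw [Module.notMem_support_iff'] at hns
    -- elements killed outside `Q`
    let V : Set (M ⊗[k] N) := {v | ∃ s ∉ Q.asIdeal, GrSeg.act k R S M N (ψ s) v = 0}
    have hV0 : (0 : M ⊗[k] N) ∈ V :=
      ⟨1, fun h => Q.isPrime.ne_top ((Ideal.eq_top_iff_one _).mpr h), map_zero _⟩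
    have hVadd : ∀ v w, v ∈ V → w ∈ V → v + w ∈ V := by
      rintro v w ⟨s, hs, hv⟩ ⟨s', hs', hw⟩
      refine ⟨s * s', fun h => (Q.isPrime.mem_or_mem h).elim hs hs', ?_⟩
      rw [map_add, map_mul, act_mul (ψ s) (ψ s') w, hw, map_zero, add_zero, mul_comm, act_mul, hv,
        map_zero]
    have hVact : ∀ z v, v ∈ V → GrSeg.act k R S M N z v ∈ V := by
      rintro z v ⟨s, hs, hv⟩
      exact ⟨s, hs, by rw [← act_mul, mul_comm, act_mul, hv, map_zero]⟩
    have hdiag : ∀ (j : ℤ), ∀ x ∈ ℳ j, ∀ y ∈ 𝒩 j, x ⊗ₜ[k] y ∈ V := by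
      intro j x hx y hy
      have h : x ⊗ₜ[k] y ∈ (GrSeg.segrePiece k ℳ 𝒩 j : Set (M ⊗[k] N)) :=
        Submodule.subset_span ⟨x, hx, y, hy, rfl⟩
      rw [← hP.image_piece j] at h
      obtain ⟨z, _, hz⟩ := h
      obtain ⟨s, hs, hs0⟩ := hns z
      exact ⟨s, hs, by rw [← hz, ← hP.map_smul, hs0, map_zero]⟩
    obtain ⟨t, ht, htQ⟩ := Set.not_subset.mp (fun h => hTQ (Ideal.span_le.mpr h))
    have hψt : ψ t ∈ Submodule.span k {x : R ⊗[k] S | ∃ a ∈ 𝒜 1, ∃ b ∈ ℬ 1, x = a ⊗ₜ[k] b} :=
      hseg 1 ▸ Submodule.mem_map_of_mem ht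
    -- multiplying by `t` brings the degrees together
    have step : ∀ (v : M ⊗[k] N) (K : ℕ), (∀ a ∈ 𝒜 1, ∀ b ∈ ℬ 1,
        GrSeg.act k R S M N (ψ t ^ K * (a ⊗ₜ[k] b)) v ∈ V) →
        GrSeg.act k R S M N (ψ t ^ (K + 1)) v ∈ V := by
      intro v K h
      have hle : ∀ z ∈ Submodule.span k {x : R ⊗[k] S | ∃ a ∈ 𝒜 1, ∃ b ∈ ℬ 1, x = a ⊗ₜ[k] b},
          GrSeg.act k R S M N (ψ t ^ K * z) v ∈ V := by
        intro z hz
        induction hz using Submodule.span_induction with
        | mem z hz => obtain ⟨a, ha, b, hb, rfl⟩ := hz; exact h a ha b hb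
        | zero => simpa using hV0
        | add z w _ _ hz hw => rw [mul_add, map_add, LinearMap.add_apply]; exact hVadd _ _ hz hw
        | smul c z _ hz =>
          rw [Algebra.smul_def, mul_left_comm, act_mul]
          exact hVact _ _ hz
      rw [pow_succ]
      exact hle _ hψt
    have key : ∀ (K : ℕ) (i j : ℤ), (i - j).natAbs ≤ K → ∀ x ∈ ℳ i, ∀ y ∈ 𝒩 j,
        GrSeg.act k R S M N (ψ t ^ K) (x ⊗ₜ[k] y) ∈ V := by
      intro K
      induction K with
      | zero =>
        intro i j h x hx y hy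
        obtain rfl : i = j := by omega
        rw [pow_zero, act_one]
        exact hdiag _ x hx y hy
      | succ K IH =>
        intro i j h x hx y hy
        rcases lt_trichotomy i j with hlt | rfl | hgt
        · refine step _ K fun a ha b hb => ?_
          have e2 : a ⊗ₜ[k] b = ((1 : R) ⊗ₜ[k] b) * (a ⊗ₜ[k] (1 : S)) := by
            rw [Algebra.TensorProduct.tmul_mul_tmul, one_mul, mul_one]
          rw [e2, ← mul_assoc, mul_comm (ψ t ^ K), mul_assoc, act_mul, act_mul, GrSeg.act_tmul,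
            one_smul]
          refine hVact _ _ (IH (1 + i) j (by omega) _ ?_ y hy)
          exact SetLike.GradedSMul.smul_mem (A := 𝒜) (B := ℳ) ha hx
        · exact hVact _ _ (hdiag _ x hx y hy)
        · refine step _ K fun a ha b hb => ?_
          have e2 : a ⊗ₜ[k] b = (a ⊗ₜ[k] (1 : S)) * ((1 : R) ⊗ₜ[k] b) := by
            rw [Algebra.TensorProduct.tmul_mul_tmul, one_mul, mul_one]
          rw [e2, ← mul_assoc, mul_comm (ψ t ^ K), mul_assoc, act_mul, act_mul, GrSeg.act_tmul,
            one_smul]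
          refine hVact _ _ (IH i (1 + j) (by omega) x hx _ ?_)
          exact SetLike.GradedSMul.smul_mem (A := ℬ) (B := 𝒩) hb hy
    let K := ∑ i, ∑ j, (e i - f j).natAbs
    have hK : ∀ i j, ∃ s ∉ Q.asIdeal,
        GrSeg.act k R S M N (ψ s) (m i ⊗ₜ[k] n j) = 0 := by
      intro i j
      have hle : (e i - f j).natAbs ≤ K :=
        (Finset.single_le_sum (fun j _ => Nat.zero_le _) (Finset.mem_univ j)).trans
          (Finset.single_le_sum (f := fun i => ∑ j, (e i - f j).natAbs) (fun i _ => Nat.zero_le _)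
            (Finset.mem_univ i))
      obtain ⟨s, hs, h0⟩ := key K _ _ hle _ (hme i) _ (hnf j)
      refine ⟨s * t ^ K, fun h => (Q.isPrime.mem_or_mem h).elim hs fun h' =>
        htQ (Q.isPrime.mem_of_pow_mem _ h'), ?_⟩
      rw [map_mul, map_pow, act_mul, h0]
    choose s hs hs0 using hK
    have hJ : (∏ i, ∏ j, s i j) ∈ J := by
      refine toQuot_eq_zero m hm n hn fun i j => ?_
      obtain ⟨c, hc⟩ : s i j ∣ ∏ i, ∏ j, s i j :=
        (Finset.dvd_prod_of_mem (s i) (Finset.mem_univ j)).trans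
          (Finset.dvd_prod_of_mem (fun i => ∏ j, s i j) (Finset.mem_univ i))
      show GrSeg.act k R S M N (ψ _) _ = 0
      rw [hc, mul_comm, map_mul, act_mul, hs0, map_zero]
    obtain ⟨i, _, hi⟩ := Q.isPrime.prod_mem_iff.mp (hJQ hJ)
    obtain ⟨j, _, hj⟩ := Q.isPrime.prod_mem_iff.mp hi
    exact hs i j hj
  -- compare the chains
  rw [← hdimJ]
  have hz : ringKrullDim (T ⧸ J) = Order.krullDim (PrimeSpectrum.zeroLocus (R := T) J) :=
    ringKrullDim_quotient J
  refine le_antisymm ?_ ?_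
  · rw [hz, Module.supportDim]
    exact Order.krullDim_le_of_strictMono (fun x => ⟨x.1, hsupp1 x.1 x.2⟩) fun _ _ h => h
  · rw [hdimJ, Module.supportDim, Order.le_krullDim_iff]
    obtain ⟨l, hl⟩ := Order.le_krullDim_iff.mp (show ((dM + dN - 1 : ℕ) : WithBot ℕ∞) ≤
      Order.krullDim (PrimeSpectrum.zeroLocus (R := T) J) by rw [← hz, hdimJ])
    have hD : 0 < l.length := by omega
    have hnot : ¬ Tp ≤ l.head.1.asIdeal := by
      intro hTl
      have hlt : l.head.1.asIdeal < (l ⟨1, by omega⟩).1.asIdeal :=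
        l.strictMono (show (⟨0, by omega⟩ : Fin (l.length + 1)) < ⟨1, by omega⟩ from Fin.mk_lt_mk.mpr Nat.zero_lt_one)
      refine hlt.not_ge fun x hx => ?_
      obtain ⟨c, hc⟩ := hTscal x
      by_cases hc0 : c = 0
      · simp only [hc0, map_zero, sub_zero] at hc
        exact hTl hc
      · exfalso
        apply (l ⟨1, by omega⟩).1.isPrime.ne_top
        refine Ideal.eq_top_of_isUnit_mem _ ?_ ((IsUnit.mk0 c hc0).map (algebraMap k T))
        simpa using Ideal.sub_mem _ hx (hlt.le (hTl hc))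
    have hmem : ∀ i, (l i).1 ∈ Module.support T P := fun i =>
      Module.mem_support_mono (show l.head.1 ≤ (l i).1 from l.head_le i)
        (hsupp2 _ l.head.2 hnot)
    exact ⟨⟨l.length, fun i => ⟨(l i).1, hmem i⟩, fun i => l.step i⟩, hl⟩

end Groth.Agent.H84.Segre.Mod
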