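import Mathlib
import Groth.Prelude.Def_GrSeg
import Groth.Agent.H84.Segre.Mod
import Groth.Agent.Lib.Depth.CM
import Groth.Agent.Lib.Dim.Local
import Groth.Agent.Lib.Dim.FieldExt

/-!
# Dimension of a Segre product of Cohen-Macaulay modules
-/

set_option autoImplicit false

universe u

namespace Groth.Agent.H84.Segre.CMDim

open DirectSum TensorProduct

variable {k : Type u} [Field k] {R : Type u} [CommRing R] [Algebra k R]

section Loc

theorem ringKrullDim_quotient_atPrime [Algebra.FiniteType k R] (q m : Ideal R) [q.IsPrime]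
    [m.IsMaximal] (h : q ≤ m) :
    ringKrullDim (Localization.AtPrime m ⧸ q.map (algebraMap R (Localization.AtPrime m))) =
      ringKrullDim (R ⧸ q) := by
  have hmax : (m.map (Ideal.Quotient.mk q)).IsMaximal :=
    Ideal.IsMaximal.map_of_surjective_of_ker_le Ideal.Quotient.mk_surjective (by simpa using h)
  have heq : Algebra.algebraMapSubmonoid (R ⧸ q) m.primeCompl =
      (m.map (Ideal.Quotient.mk q)).primeCompl := by
    ext z
    constructor
    · rintro ⟨a, ha, rfl⟩ hmem
      obtain ⟨b, hb, hba⟩ := (Ideal.mem_map_iff_of_surjective _ Ideal.Quotient.mk_surjective).mp hmem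
      exact ha (by
        have := Ideal.Quotient.eq.mp hba
        simpa using sub_mem hb (h this))
    · intro hz
      obtain ⟨a, rfl⟩ := Ideal.Quotient.mk_surjective z
      exact ⟨a, fun ha => hz (Ideal.mem_map_of_mem _ ha), rfl⟩
  haveI : IsLocalization.AtPrime
      (Localization.AtPrime m ⧸ q.map (algebraMap R (Localization.AtPrime m)))
      (m.map (Ideal.Quotient.mk q)) := by
    show IsLocalization (m.map (Ideal.Quotient.mk q)).primeCompl _
    rw [← heq]
    infer_instance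
  rw [IsLocalization.AtPrime.ringKrullDim_eq_height (m.map (Ideal.Quotient.mk q)),
    Groth.Agent.Lib.Dim.Local.height_maximal (k := k),
    Groth.Agent.Lib.Dim.Basic.ringKrullDim_eq_trdegNat k (R ⧸ q)]
  rfl

end Loc

section Graded

variable (𝒜 : ℤ → Submodule k R) [GradedAlgebra 𝒜]

/-- The irrelevant ideal. -/
def irr : Ideal R := Ideal.span {z | ∃ n : ℤ, 0 < n ∧ z ∈ 𝒜 n}

theorem irr_component_zero (hpos : ∀ n : ℤ, n < 0 → 𝒜 n = ⊥) {z : R} (hz : z ∈ irr 𝒜) :
    ((decompose 𝒜 z 0 : 𝒜 0) : R) = 0 := by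
  classical
  suffices h : ∀ c : R, ((decompose 𝒜 (c * z) 0 : 𝒜 0) : R) = 0 by simpa using h 1
  refine Submodule.span_induction (fun x hx c => ?_) (fun c => ?_) (fun x y _ _ hx hy c => ?_)
    (fun a x _ hx c => ?_) hz
  · obtain ⟨n, hn, hx⟩ := hx
    have h2 := coe_decompose_mul_add_of_right_mem 𝒜 (a := c) (i := -n) hx
    rw [neg_add_cancel] at h2
    rw [h2, Sop.coe_decompose_neg 𝒜 hpos (by omega) c, zero_mul]
  · simp
  · rw [mul_add, decompose_add, DFinsupp.add_apply, Submodule.coe_add, hx c, hy c, add_zero]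
  · rw [smul_eq_mul, ← mul_assoc]; exact hx _

theorem irr_isMaximal [Nontrivial R] (hpos : ∀ n : ℤ, n < 0 → 𝒜 n = ⊥)
    (h0 : 𝒜 0 = Submodule.span k {(1 : R)}) : (irr 𝒜).IsMaximal := by
  classical
  refine Ideal.isMaximal_iff.mpr ⟨fun h => ?_, fun J x hJ hx hxJ => ?_⟩
  · have := irr_component_zero 𝒜 hpos h
    rw [Sop.coe_decompose_eq_self 𝒜 (SetLike.one_mem_graded 𝒜)] at this
    exact one_ne_zero this
  · have hsub : x - ((decompose 𝒜 x 0 : 𝒜 0) : R) ∈ irr 𝒜 := by
      have heq : x - ((decompose 𝒜 x 0 : 𝒜 0) : R) =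
          ∑ i ∈ (decompose 𝒜 x).support.erase 0, ((decompose 𝒜 x i : 𝒜 i) : R) := by
        rw [sub_eq_iff_eq_add]
        conv_lhs => rw [← sum_support_decompose 𝒜 x]
        by_cases h : (0 : ℤ) ∈ (decompose 𝒜 x).support
        · rw [Finset.sum_erase_add _ _ h]
        · rw [Finset.erase_eq_of_notMem h, DFinsupp.notMem_support_iff.mp h]; simp
      rw [heq]
      refine Ideal.sum_mem _ fun i hi => ?_
      rcases lt_trichotomy i 0 with h | h | h
      · rw [Sop.coe_decompose_neg 𝒜 hpos h x]; exact Ideal.zero_mem _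
      · exact absurd h (Finset.ne_of_mem_erase hi)
      · exact Ideal.subset_span ⟨i, h, (decompose 𝒜 x i).2⟩
    obtain ⟨c, hc⟩ := Submodule.mem_span_singleton.mp (h0.le (decompose 𝒜 x 0).2)
    have hc0 : c ≠ 0 := by
      intro hc0
      rw [hc0, zero_smul] at hc
      rw [← hc, sub_zero] at hsub
      exact hx hsub
    have h1 : ((decompose 𝒜 x 0 : 𝒜 0) : R) ∈ J := by
      simpa using sub_mem hxJ (hJ hsub)
    rw [← hc, Algebra.smul_def, mul_one] at h1
    exact (Ideal.eq_top_of_isUnit_mem _ h1 ((IsUnit.mk0 c hc0).map _)) ▸ Submodule.mem_top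

theorem le_irr {q : Ideal R} (hq : q ≠ ⊤) (hqh : q.IsHomogeneous 𝒜)
    (hpos : ∀ n : ℤ, n < 0 → 𝒜 n = ⊥) (h0 : 𝒜 0 = Submodule.span k {(1 : R)}) :
    q ≤ irr 𝒜 := by
  classical
  intro z hz
  rw [← sum_support_decompose 𝒜 z]
  refine Ideal.sum_mem _ fun i _ => ?_
  rcases lt_trichotomy i 0 with h | h | h
  · rw [Sop.coe_decompose_neg 𝒜 hpos h z]; exact Ideal.zero_mem _
  · subst h
    rw [Sop.eq_zero_of_mem 𝒜 hq h0 (decompose 𝒜 z 0).2 (hqh 0 hz)]
    exact Ideal.zero_mem _
  · exact Ideal.subset_span ⟨i, h, (decompose 𝒜 z i).2⟩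

end Graded

section CM

variable (𝒜 : ℤ → Submodule k R) [GradedAlgebra 𝒜] [Algebra.FiniteType k R]
  {M : Type u} [AddCommGroup M] [Module R M]
  (ℳ : ℤ → AddSubgroup M) [DirectSum.Decomposition ℳ] [SetLike.GradedSMul 𝒜 ℳ] [Module.Finite R M]

include ℳ in
/-- Homogeneous associated primes of a graded Cohen-Macaulay module have the same dimension. -/
theorem dim_quotient_eq (hpos : ∀ n : ℤ, n < 0 → 𝒜 n = ⊥)
    (h0 : 𝒜 0 = Submodule.span k {(1 : R)}) {r : ℕ} (hdim : Module.supportDim R M = r)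
    (hcm : ∀ (q : Ideal R) [q.IsPrime], Subsingleton (LocalizedModule q.primeCompl M) ∨
      LocCoh.IsCohenMacaulayModule (Localization.AtPrime q) (LocalizedModule q.primeCompl M))
    (q : Ideal R) (hqa : q ∈ associatedPrimes R M) (hqh : q.IsHomogeneous 𝒜) :
    ringKrullDim (R ⧸ q) = (r : ℕ) := by
  classical
  haveI : IsNoetherianRing R := Algebra.FiniteType.isNoetherianRing k R
  haveI := hqa.1
  haveI : Nontrivial R := (subsingleton_or_nontrivial R).resolve_left fun h =>
    hqa.1.ne_top (Ideal.eq_top_iff_one _ |>.mpr (Subsingleton.elim (0 : R) 1 ▸ q.zero_mem))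
  haveI := irr_isMaximal 𝒜 hpos h0
  set m := irr 𝒜
  set Rm := Localization.AtPrime m
  set Mm := LocalizedModule m.primeCompl M
  haveI : IsNoetherianRing Rm := IsLocalization.isNoetherianRing m.primeCompl _ inferInstance
  haveI : Module.Finite Rm Mm := Module.Finite.of_isLocalizedModule m.primeCompl
    (LocalizedModule.mkLinearMap m.primeCompl M)
  have key : ∀ (p : Ideal R), p ∈ associatedPrimes R M → p.IsHomogeneous 𝒜 →
      ringKrullDim (R ⧸ p) = Module.supportDim Rm Mm := by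
    intro p hpa hph
    haveI := hpa.1
    have hle : p ≤ m := le_irr 𝒜 hpa.1.ne_top hph hpos h0
    have hdisj : Disjoint (m.primeCompl : Set R) (p : Set R) :=
      Set.disjoint_left.mpr fun x hx hxp => hx (hle hxp)
    have hass : p.map (algebraMap R Rm) ∈ associatedPrimes Rm Mm := by
      rw [← Module.associatedPrimes.preimage_comap_associatedPrimes_eq_associatedPrimes_of_isLocalizedModule
        m.primeCompl Rm (LocalizedModule.mkLinearMap m.primeCompl M)]
      show (p.map (algebraMap R Rm)).comap (algebraMap R Rm) ∈ associatedPrimes R M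
      rwa [show (p.map (algebraMap R Rm)).comap (algebraMap R Rm) =
        (p.map (algebraMap R Rm)).under R from rfl, IsLocalization.under_map_of_isPrime_disjoint m.primeCompl Rm hpa.1 hdisj]
    have hne : ¬ Subsingleton Mm := by
      intro hs
      obtain ⟨_, x, hx⟩ := hass
      exact ‹(p.map (algebraMap R Rm)).IsPrime›.ne_top (by
        rw [hx, Subsingleton.elim x 0, Ideal.eq_top_iff_one]
        exact ⟨1, by simp⟩)
    have hcm' := (hcm m).resolve_left hne
    rw [← ringKrullDim_quotient_atPrime (k := k) p m hle]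
    exact Groth.Agent.Lib.Depth.CM.ringKrullDim_quotient_eq hcm' hass
  -- a minimal prime of maximal dimension
  obtain ⟨q', hq', hq'd⟩ : ∃ q' ∈ (Module.annihilator R M).minimalPrimes,
      ringKrullDim (R ⧸ q') = (r : ℕ) := by
    rw [Module.supportDim_eq_ringKrullDim_quotient_annihilator] at hdim
    have hle := hdim.ge
    rw [ringKrullDim_quotient, Order.le_krullDim_iff] at hle
    obtain ⟨l, hl⟩ := hle
    obtain ⟨q', hq', hq'le⟩ := Ideal.exists_minimalPrimes_le (J := l.head.1.asIdeal) l.head.2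
    refine ⟨q', hq', le_antisymm ?_ ?_⟩
    · rw [← hdim]
      exact ringKrullDim_le_of_surjective (Ideal.Quotient.factor hq'.1.2)
        (Ideal.Quotient.factor_surjective _)
    · rw [ringKrullDim_quotient, Order.le_krullDim_iff]
      refine ⟨⟨l.length, fun i => ⟨(l i).1, ?_⟩, fun i => l.step i⟩, hl⟩
      exact hq'le.trans (l.head_le i : l.head.1 ≤ (l i).1)
  rw [← hq'd, key q hqa hqh, key q'
    (Module.associatedPrimes.minimalPrimes_annihilator_subset_associatedPrimes R M hq')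
    (Sop.minimalPrimes_isHomogeneous 𝒜 (Mod.annihilator_isHomogeneous 𝒜 ℳ) hq')]

include ℳ in
/-- A graded CM module is torsion-free over a homogeneous system of parameters. -/
theorem eq_zero_of_aeval_smul (hpos : ∀ n : ℤ, n < 0 → 𝒜 n = ⊥)
    (h0 : 𝒜 0 = Submodule.span k {(1 : R)}) {r : ℕ} (hdim : Module.supportDim R M = r)
    (hcm : ∀ (q : Ideal R) [q.IsPrime], Subsingleton (LocalizedModule q.primeCompl M) ∨
      LocCoh.IsCohenMacaulayModule (Localization.AtPrime q) (LocalizedModule q.primeCompl M))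
    {D : ℕ} (hD0 : 0 < D) (x : Fin r → R) (hx : ∀ i, x i ∈ 𝒜 D)
    (hint : ∀ a : R ⧸ Module.annihilator R M, IsIntegral
      (Algebra.adjoin k (Set.range fun i => Ideal.Quotient.mk (Module.annihilator R M) (x i))) a)
    (f : MvPolynomial (Fin r) k) (hf : f ≠ 0) (v : M)
    (hv : MvPolynomial.aeval x f • v = 0) : v = 0 := by
  classical
  haveI : IsNoetherianRing R := Algebra.FiniteType.isNoetherianRing k R
  by_contra hv0
  obtain ⟨g, hgs, hgmax⟩ : ∃ g ∈ (decompose ℳ v).support, ∀ h ∈ (decompose ℳ v).support, h ≤ g := by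
    have hne : (decompose ℳ v).support.Nonempty := by
      rw [Finset.nonempty_iff_ne_empty]
      intro he
      rw [← sum_support_decompose ℳ v, he] at hv0
      simp at hv0
    exact ⟨_, Finset.max'_mem _ hne, fun h hh => Finset.le_max' _ h hh⟩
  set t := f.totalDegree
  set f' := MvPolynomial.homogeneousComponent t f
  have hf' : f' ≠ 0 := by
    obtain ⟨d, hd, hdeg⟩ := Finset.exists_mem_eq_sup _ (MvPolynomial.support_nonempty.mpr hf)
      fun s => Finsupp.sum s fun _ e => e
    intro h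
    have := congrArg (MvPolynomial.coeff d) h
    rw [MvPolynomial.coeff_homogeneousComponent, MvPolynomial.coeff_zero] at this
    rw [if_pos] at this
    · exact MvPolynomial.mem_support_iff.mp hd this
    · exact hdeg.symm
  have hcomp : ∀ (n : ℕ) (p : MvPolynomial (Fin r) k), p.IsHomogeneous n →
      MvPolynomial.aeval x p ∈ 𝒜 ((n : ℤ) * D) := by
    intro n p hp
    rw [p.as_sum, map_sum]
    refine Submodule.sum_mem _ fun d hd => ?_
    rw [MvPolynomial.aeval_monomial, ← Algebra.smul_def]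
    refine Submodule.smul_mem _ _ ?_
    rw [Finsupp.prod_fintype _ _ fun i => pow_zero _]
    have h := SetLike.prod_mem_graded (A := 𝒜) (fun i => d i • (D : ℤ)) (fun i => x i ^ d i)
      (F := Finset.univ) fun i _ => SetLike.pow_mem_graded (d i) (hx i)
    have hsum : ∑ i, d i • (D : ℤ) = (n : ℤ) * D := by
      rw [← Finset.sum_smul, nsmul_eq_mul]
      congr 1
      have := hp (MvPolynomial.mem_support_iff.mp hd)
      simp [Finsupp.weight_apply, Finsupp.sum_fintype] at this
      exact_mod_cast this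
    rw [← hsum]
    exact h
  have htop : MvPolynomial.aeval x f' • ((decompose ℳ v g : ℳ g) : M) = 0 := by
    have h1 : ((decompose ℳ (MvPolynomial.aeval x f • v) ((t : ℤ) * D + g) : ℳ _) : M) = 0 := by
      rw [hv]; simp
    rw [← h1]
    conv_rhs => rw [← MvPolynomial.sum_homogeneousComponent f, map_sum, Finset.sum_smul,
      decompose_sum, DFinsupp.finsetSum_apply, AddSubgroup.val_finsetSum]
    have hterm : ∀ n ∈ Finset.range (t + 1),
        ((decompose ℳ (MvPolynomial.aeval x (MvPolynomial.homogeneousComponent n f) • v)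
          ((t : ℤ) * D + g) : ℳ _) : M) =
        if n = t then MvPolynomial.aeval x f' • ((decompose ℳ v g : ℳ g) : M) else 0 := by
      intro n hn
      set a := MvPolynomial.aeval x (MvPolynomial.homogeneousComponent n f)
      have ha : a ∈ 𝒜 ((n : ℤ) * D) :=
        hcomp n _ (MvPolynomial.homogeneousComponent_isHomogeneous n f)
      conv_lhs => rw [← sum_support_decompose ℳ v, Finset.smul_sum, decompose_sum,
        DFinsupp.finsetSum_apply, AddSubgroup.val_finsetSum]
      have hD : ∀ h ∈ (decompose ℳ v).support,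
          ((decompose ℳ (a • ((decompose ℳ v h : ℳ h) : M)) ((t : ℤ) * D + g) : ℳ _) : M) =
          if (n : ℤ) * D + h = (t : ℤ) * D + g then a • ((decompose ℳ v h : ℳ h) : M) else 0 := by
        intro h _
        have hm : a • ((decompose ℳ v h : ℳ h) : M) ∈ ℳ ((n : ℤ) * D + h) :=
          SetLike.GradedSMul.smul_mem ha (decompose ℳ v h).2
        split_ifs with he
        · exact decompose_of_mem_same ℳ (he ▸ hm)
        · exact decompose_of_mem_ne ℳ hm he
      rw [Finset.sum_congr rfl hD]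
      have hnt : n ≤ t := Nat.lt_succ_iff.mp (Finset.mem_range.mp hn)
      split_ifs with he
      · subst he
        rw [Finset.sum_eq_single g]
        · simp [a, f', t]
        · intro h _ hne; rw [if_neg (by omega)]
        · intro h; exact absurd hgs h
      · refine Finset.sum_eq_zero fun h hh => if_neg ?_
        have h1 : h ≤ g := hgmax h hh
        have : (n : ℤ) * D < (t : ℤ) * D :=
          mul_lt_mul_of_pos_right (by omega) (by omega)
        omega
    rw [Finset.sum_congr rfl hterm, Finset.sum_ite_eq', if_pos (Finset.mem_range.mpr (by omega))]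
  have hvg : ((decompose ℳ v g : ℳ g) : M) ≠ 0 := by
    simpa [DFinsupp.mem_support_iff] using hgs
  obtain ⟨d, c, hc, hcx, hprime⟩ :=
    Groth.Agent.Lib.Graded.Ass.exists_prime_ann 𝒜 ℳ (decompose ℳ v g).2 hvg
  set q := (Submodule.span R {c • ((decompose ℳ v g : ℳ g) : M)}).annihilator
  have hqh : q.IsHomogeneous 𝒜 := Groth.Agent.Lib.Graded.Ass.isHomogeneous_ann 𝒜 ℳ
    (SetLike.GradedSMul.smul_mem hc (decompose ℳ v g).2)
  have hqa : q ∈ associatedPrimes R M := by
    show IsAssociatedPrime q M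
    rw [isAssociatedPrime_iff]
    refine ⟨hprime, c • ((decompose ℳ v g : ℳ g) : M), ?_⟩
    ext z
    simp [q, Submodule.mem_annihilator_span_singleton, Submodule.mem_colon_singleton]
  have hfq : MvPolynomial.aeval x f' ∈ q := by
    refine (Submodule.mem_annihilator_span_singleton _ _).mpr ?_
    rw [smul_comm, htop, smul_zero]
  have hdimq := dim_quotient_eq 𝒜 ℳ hpos h0 hdim hcm q hqa hqh
  have hann : Module.annihilator R M ≤ q := fun z hz =>
    (Submodule.mem_annihilator_span_singleton _ _).mpr (Module.mem_annihilator.mp hz _)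
  let xq : Fin r → R ⧸ q := fun i => Ideal.Quotient.mk q (x i)
  have hintq : Algebra.IsIntegral (Algebra.adjoin k (Set.range xq)) (R ⧸ q) := by
    refine ⟨fun z => ?_⟩
    obtain ⟨z, rfl⟩ := Ideal.Quotient.mk_surjective z
    let π : (R ⧸ Module.annihilator R M) →ₐ[k] R ⧸ q := Ideal.Quotient.factorₐ k hann
    let φ : Algebra.adjoin k (Set.range fun i => Ideal.Quotient.mk (Module.annihilator R M) (x i))
        →ₐ[k] Algebra.adjoin k (Set.range xq) :=
      (π.comp (Algebra.adjoin k _).val).codRestrict _ fun a => by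
        have : (Algebra.adjoin k (Set.range fun i =>
            Ideal.Quotient.mk (Module.annihilator R M) (x i))).map π ≤
            Algebra.adjoin k (Set.range xq) := by
          rw [AlgHom.map_adjoin, ← Set.range_comp]
          exact le_of_eq rfl
        exact this ⟨a.1, a.2, rfl⟩
    show IsIntegral _ (π.toRingHom (Ideal.Quotient.mk (Module.annihilator R M) z))
    exact IsIntegral.map_of_comp_eq φ.toRingHom π.toRingHom (by ext; rfl) (hint _)
  obtain ⟨-, hindep⟩ := Sop.algebraicIndependent hintq hdimq le_rfl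
  refine hf' (hindep (?_ : MvPolynomial.aeval xq f' = MvPolynomial.aeval xq 0))
  have : MvPolynomial.aeval xq f' = Ideal.Quotient.mkₐ k q (MvPolynomial.aeval x f') := by
    rw [← AlgHom.comp_apply, MvPolynomial.comp_aeval]; rfl
  rw [this, map_zero]
  exact Ideal.Quotient.eq_zero_iff_mem.mpr hfq

end CM

section Main

open Groth.Agent.H84.Segre.Dim (segA segC)

variable {S : Type u} [CommRing S] [Algebra k S] {r s : ℕ}

theorem isIntegral_segC (x : Fin r → R) (y : Fin s → S)
    [Algebra.IsIntegral (Algebra.adjoin k (Set.range x)) R]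
    [Algebra.IsIntegral (Algebra.adjoin k (Set.range y)) S] :
    ∀ z : R ⊗[k] S, IsIntegral (segC (k := k) x y) z := by
  let fR : Algebra.adjoin k (Set.range x) →ₐ[k] segC (k := k) x y :=
    ((Algebra.TensorProduct.includeLeft (R := k) (S := k) (A := R) (B := S)).comp
      (Algebra.adjoin k (Set.range x)).val).codRestrict _ (fun a => by
      obtain ⟨a, ha⟩ := a
      have : (Algebra.adjoin k (Set.range x)).map
          (Algebra.TensorProduct.includeLeft (R := k) (S := k) (A := R) (B := S)) ≤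
          segC (k := k) x y := by
        rw [AlgHom.map_adjoin]
        refine Algebra.adjoin_le ?_
        rintro _ ⟨_, ⟨i, rfl⟩, rfl⟩
        exact Algebra.subset_adjoin (Or.inl ⟨i, rfl⟩)
      exact this ⟨a, ha, rfl⟩)
  let fS : Algebra.adjoin k (Set.range y) →ₐ[k] segC (k := k) x y :=
    ((Algebra.TensorProduct.includeRight (R := k) (A := R) (B := S)).comp
      (Algebra.adjoin k (Set.range y)).val).codRestrict _ (fun a => by
      obtain ⟨a, ha⟩ := a
      have : (Algebra.adjoin k (Set.range y)).map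
          (Algebra.TensorProduct.includeRight (R := k) (A := R) (B := S)) ≤
          segC (k := k) x y := by
        rw [AlgHom.map_adjoin]
        refine Algebra.adjoin_le ?_
        rintro _ ⟨_, ⟨i, rfl⟩, rfl⟩
        exact Algebra.subset_adjoin (Or.inr ⟨i, rfl⟩)
      exact this ⟨a, ha, rfl⟩)
  intro z
  induction z with
  | zero => exact isIntegral_zero
  | add a b ha hb => exact ha.add hb
  | tmul a b =>
    have h1 : IsIntegral (segC (k := k) x y) (a ⊗ₜ[k] (1 : S)) :=
      IsIntegral.map_of_comp_eq fR.toRingHom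
        (Algebra.TensorProduct.includeLeft (R := k) (S := k) (A := R) (B := S)).toRingHom
        (by ext; rfl) (Algebra.IsIntegral.isIntegral a)
    have h2 : IsIntegral (segC (k := k) x y) ((1 : R) ⊗ₜ[k] b) :=
      IsIntegral.map_of_comp_eq fS.toRingHom
        (Algebra.TensorProduct.includeRight (R := k) (A := R) (B := S)).toRingHom
        (by ext; rfl) (Algebra.IsIntegral.isIntegral b)
    simpa using h1.mul h2

variable {M N : Type u} [AddCommGroup M] [Module R M] [Module k M] [IsScalarTower k R M]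
  [AddCommGroup N] [Module S N] [Module k N] [IsScalarTower k S N]

theorem act_map {P₁ P₂ : Type u} [CommRing P₁] [CommRing P₂] [Algebra k P₁] [Algebra k P₂]
    {M₀ N₀ : Type u} [AddCommGroup M₀] [Module P₁ M₀] [Module k M₀] [IsScalarTower k P₁ M₀]
    [AddCommGroup N₀] [Module P₂ N₀] [Module k N₀] [IsScalarTower k P₂ N₀]
    (f₁ : P₁ →ₐ[k] R) (f₂ : P₂ →ₐ[k] S) (g : M₀ →ₗ[k] M) (h : N₀ →ₗ[k] N)
    (hg : ∀ p m, g (p • m) = f₁ p • g m) (hh : ∀ p n, h (p • n) = f₂ p • h n)
    (c : P₁ ⊗[k] P₂) (u : M₀ ⊗[k] N₀) :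
    TensorProduct.map g h (GrSeg.act k P₁ P₂ M₀ N₀ c u) =
      GrSeg.act k R S M N (Algebra.TensorProduct.map f₁ f₂ c) (TensorProduct.map g h u) := by
  induction c with
  | zero => simp
  | add p q hp hq => simp [hp, hq]
  | tmul p q =>
    induction u with
    | zero => simp
    | add u₁ u₂ h₁ h₂ => rw [map_add, map_add, map_add, map_add, h₁, h₂]
    | tmul m n => simp [GrSeg.act_tmul, hg, hh]

theorem act_self {P₁ P₂ : Type u} [CommRing P₁] [CommRing P₂] [Algebra k P₁] [Algebra k P₂]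
    (c z : P₁ ⊗[k] P₂) : GrSeg.act k P₁ P₂ P₁ P₂ c z = c * z := by
  induction c with
  | zero => simp
  | add p q hp hq => simp [hp, hq, add_mul]
  | tmul p q =>
    induction z with
    | zero => simp
    | add u₁ u₂ h₁ h₂ => rw [map_add, h₁, h₂, mul_add]
    | tmul m n => simp [GrSeg.act_tmul, Algebra.TensorProduct.tmul_mul_tmul]

theorem map_injective' {A₁ A₂ B₁ B₂ : Type u} [AddCommGroup A₁] [Module k A₁] [AddCommGroup A₂]
    [Module k A₂] [AddCommGroup B₁] [Module k B₁] [AddCommGroup B₂] [Module k B₂]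
    {f : A₁ →ₗ[k] B₁} {g : A₂ →ₗ[k] B₂} (hf : Function.Injective f) (hg : Function.Injective g) :
    Function.Injective (TensorProduct.map f g) := by
  rw [← LinearMap.rTensor_comp_lTensor, LinearMap.coe_comp]
  exact (Module.Flat.rTensor_preserves_injective_linearMap _ hf).comp
    (Module.Flat.lTensor_preserves_injective_linearMap _ hg)

set_option maxHeartbeats 800000 in
/-- A tensor product over a field of torsion-free modules over polynomial rings is torsion-free. -/
theorem act_eq_zero (x : Fin r → R) (y : Fin s → S)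
    (hM : ∀ f : MvPolynomial (Fin r) k, f ≠ 0 → ∀ v : M, MvPolynomial.aeval x f • v = 0 → v = 0)
    (hN : ∀ f : MvPolynomial (Fin s) k, f ≠ 0 → ∀ v : N, MvPolynomial.aeval y f • v = 0 → v = 0)
    (f : MvPolynomial (Fin r) k ⊗[k] MvPolynomial (Fin s) k) (hf : f ≠ 0) (v : M ⊗[k] N)
    (hv : GrSeg.act k R S M N
      (Algebra.TensorProduct.map (MvPolynomial.aeval x) (MvPolynomial.aeval y) f) v = 0) :
    v = 0 := by
  classical
  let P₁ := MvPolynomial (Fin r) k
  let P₂ := MvPolynomial (Fin s) k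
  let e := MvPolynomial.tensorEquivSum k (Fin r) (Fin s) k
  haveI : IsDomain (P₁ ⊗[k] P₂) :=
    e.toRingEquiv.toMulEquiv.isDomain (MvPolynomial (Fin r ⊕ Fin s) k)
  letI : Module P₁ M := Module.compHom M (MvPolynomial.aeval (R := k) x).toRingHom
  haveI : IsScalarTower k P₁ M := IsScalarTower.of_algebraMap_smul fun c m => by
    show MvPolynomial.aeval x (algebraMap k P₁ c) • m = c • m
    rw [AlgHom.commutes, algebraMap_smul]
  letI : Module P₂ N := Module.compHom N (MvPolynomial.aeval (R := k) y).toRingHom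
  haveI : IsScalarTower k P₂ N := IsScalarTower.of_algebraMap_smul fun c m => by
    show MvPolynomial.aeval y (algebraMap k P₂ c) • m = c • m
    rw [AlgHom.commutes, algebraMap_smul]
  obtain ⟨T', hT'⟩ := TensorProduct.exists_finset v
  obtain ⟨M₀, hMfg, hMmem⟩ : ∃ M₀ : Submodule P₁ M, M₀.FG ∧ ∀ p ∈ T', p.1 ∈ M₀ :=
    ⟨Submodule.span P₁ ↑(T'.image Prod.fst), ⟨_, rfl⟩,
      fun p hp => Submodule.subset_span (Finset.mem_image_of_mem _ hp)⟩
  obtain ⟨N₀, hNfg, hNmem⟩ : ∃ N₀ : Submodule P₂ N, N₀.FG ∧ ∀ p ∈ T', p.2 ∈ N₀ :=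
    ⟨Submodule.span P₂ ↑(T'.image Prod.snd), ⟨_, rfl⟩,
      fun p hp => Submodule.subset_span (Finset.mem_image_of_mem _ hp)⟩
  haveI : Module.Finite P₁ M₀ := Module.Finite.iff_fg.mpr hMfg
  haveI : Module.Finite P₂ N₀ := Module.Finite.iff_fg.mpr hNfg
  haveI : Module.IsTorsionFree P₁ M₀ := Module.IsTorsionFree.mk fun c hc a b hab => by
    rw [← sub_eq_zero]
    apply Subtype.ext
    refine hM c hc.ne_zero _ ?_
    show MvPolynomial.aeval x c • ((a : M) - b) = 0
    rw [smul_sub, sub_eq_zero]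
    exact congrArg Subtype.val hab
  haveI : Module.IsTorsionFree P₂ N₀ := Module.IsTorsionFree.mk fun c hc a b hab => by
    rw [← sub_eq_zero]
    apply Subtype.ext
    refine hN c hc.ne_zero _ ?_
    show MvPolynomial.aeval y c • ((a : N) - b) = 0
    rw [smul_sub, sub_eq_zero]
    exact congrArg Subtype.val hab
  obtain ⟨a, g, hg⟩ := Groth.Agent.Lib.Dim.FieldExt.exists_injective_pi P₁ M₀
  obtain ⟨b, h, hh⟩ := Groth.Agent.Lib.Dim.FieldExt.exists_injective_pi P₂ N₀
  let ι : M₀ ⊗[k] N₀ →ₗ[k] M ⊗[k] N :=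
    TensorProduct.map (M₀.subtype.restrictScalars k) (N₀.subtype.restrictScalars k)
  have hι : Function.Injective ι :=
    map_injective' (f := M₀.subtype.restrictScalars k) (g := N₀.subtype.restrictScalars k)
      Subtype.val_injective Subtype.val_injective
  obtain ⟨w, rfl⟩ : ∃ w, ι w = v := by
    refine ⟨∑ p ∈ T'.attach, (⟨p.1.1, hMmem _ p.2⟩ : M₀) ⊗ₜ[k] (⟨p.1.2, hNmem _ p.2⟩ : N₀), ?_⟩
    rw [map_sum, hT']
    rw [← Finset.sum_attach T']
    simp [ι]
  have hint : ∀ (c : P₁ ⊗[k] P₂) (u : M₀ ⊗[k] N₀), ι (GrSeg.act k P₁ P₂ M₀ N₀ c u) =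
      GrSeg.act k R S M N
        (Algebra.TensorProduct.map (MvPolynomial.aeval x) (MvPolynomial.aeval y) c) (ι u) :=
    act_map (MvPolynomial.aeval x) (MvPolynomial.aeval y) (M₀.subtype.restrictScalars k)
      (N₀.subtype.restrictScalars k) (fun _ _ => rfl) (fun _ _ => rfl)
  have hw : GrSeg.act k P₁ P₂ M₀ N₀ f w = 0 := hι (by rw [hint, hv, map_zero])
  let J : M₀ ⊗[k] N₀ →ₗ[k] (Fin a → P₁) ⊗[k] (Fin b → P₂) :=
    TensorProduct.map (g.restrictScalars k) (h.restrictScalars k)
  have hJ : Function.Injective J :=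
    map_injective' (f := g.restrictScalars k) (g := h.restrictScalars k) hg hh
  let π : Fin a → Fin b → ((Fin a → P₁) ⊗[k] (Fin b → P₂) →ₗ[k] P₁ ⊗[k] P₂) := fun i j =>
    TensorProduct.map (LinearMap.proj i) (LinearMap.proj j)
  have hπ : ∀ i j (c : P₁ ⊗[k] P₂) (u : M₀ ⊗[k] N₀),
      π i j (J (GrSeg.act k P₁ P₂ M₀ N₀ c u)) = c * π i j (J u) := by
    intro i j c u
    have h1 := act_map (R := P₁) (S := P₂) (M := P₁) (N := P₂) (AlgHom.id k P₁) (AlgHom.id k P₂)
      ((LinearMap.proj i ∘ₗ g).restrictScalars k) ((LinearMap.proj j ∘ₗ h).restrictScalars k)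
      (fun p m => (LinearMap.proj i ∘ₗ g).map_smul p m)
      (fun p m => (LinearMap.proj j ∘ₗ h).map_smul p m) c u
    have h2 : ∀ u, π i j (J u) = TensorProduct.map ((LinearMap.proj i ∘ₗ g).restrictScalars k)
        ((LinearMap.proj j ∘ₗ h).restrictScalars k) u := by
      intro u
      exact (LinearMap.congr_fun (TensorProduct.map_comp (LinearMap.proj i : (Fin a → P₁) →ₗ[k] P₁)
        (LinearMap.proj j : (Fin b → P₂) →ₗ[k] P₂) (g.restrictScalars k) (h.restrictScalars k)) u).symm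
    rw [h2, h2, h1, Algebra.TensorProduct.map_id]
    exact act_self _ _
  have hid : ∀ u : (Fin a → P₁) ⊗[k] (Fin b → P₂), u = ∑ i, ∑ j,
      TensorProduct.map (LinearMap.single k (fun _ : Fin a => P₁) i)
        (LinearMap.single k (fun _ : Fin b => P₂) j) (π i j u) := by
    intro u
    induction u with
    | zero => simp
    | add p q hp hq =>
      conv_lhs => rw [hp, hq]
      simp [Finset.sum_add_distrib]
    | tmul p q =>
      conv_lhs => rw [← Finset.univ_sum_single p, ← Finset.univ_sum_single q]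
      simp [π, TensorProduct.sum_tmul, TensorProduct.tmul_sum]
      rw [Finset.sum_comm]
  have hz : ∀ i j, π i j (J w) = 0 := fun i j => by
    have := hπ i j f w
    rw [hw, map_zero, map_zero] at this
    exact (mul_eq_zero.mp this.symm).resolve_left hf
  have hw0 : w = 0 := hJ (by rw [map_zero, hid (J w)]; simp [hz])
  rw [hw0, map_zero]

set_option maxHeartbeats 1600000 in
theorem supportDim_segre_cm (𝒜 : ℤ → Submodule k R) [GradedAlgebra 𝒜]
    (hposR : ∀ n : ℤ, n < 0 → 𝒜 n = ⊥) (h0R : 𝒜 0 = Submodule.span k {(1 : R)})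
    [Algebra.FiniteType k R]
    (ℬ : ℤ → Submodule k S) [GradedAlgebra ℬ] (hposS : ∀ n : ℤ, n < 0 → ℬ n = ⊥)
    (h0S : ℬ 0 = Submodule.span k {(1 : S)}) [Algebra.FiniteType k S]
    (T : Type u) [CommRing T] [Algebra k T] (𝒯 : ℤ → Submodule k T) [GradedAlgebra 𝒯]
    (ψ : T →ₐ[k] R ⊗[k] S) (hT : GrSeg.IsSegreRing 𝒜 ℬ 𝒯 ψ)
    (ℳ : ℤ → AddSubgroup M) [DirectSum.Decomposition ℳ] [SetLike.GradedSMul 𝒜 ℳ] [Module.Finite R M]
    (𝒩 : ℤ → AddSubgroup N) [DirectSum.Decomposition 𝒩] [SetLike.GradedSMul ℬ 𝒩] [Module.Finite S N]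
    (P : Type u) [AddCommGroup P] [Module T P] [Module k P] [IsScalarTower k T P]
    (𝒬 : ℤ → AddSubgroup P) [DirectSum.Decomposition 𝒬] (φ : P →ₗ[k] M ⊗[k] N)
    (hP : GrSeg.IsSegreMod ψ ℳ 𝒩 𝒬 φ) (r s : ℕ) (h1r : 1 ≤ r) (h1s : 1 ≤ s)
    (hdM : Module.supportDim R M = r) (hdN : Module.supportDim S N = s)
    (hMcm : ∀ (q : Ideal R) [q.IsPrime], Subsingleton (LocalizedModule q.primeCompl M) ∨
      LocCoh.IsCohenMacaulayModule (Localization.AtPrime q) (LocalizedModule q.primeCompl M))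
    (hNcm : ∀ (q : Ideal S) [q.IsPrime], Subsingleton (LocalizedModule q.primeCompl N) ∨
      LocCoh.IsCohenMacaulayModule (Localization.AtPrime q) (LocalizedModule q.primeCompl N)) :
    Module.supportDim T P = ((r + s - 1 : ℕ) : WithBot ℕ∞) ∨ Subsingleton P := by
  classical
  rcases subsingleton_or_nontrivial P with hsub | hnt
  · exact Or.inr hsub
  left
  haveI : IsNoetherianRing R := Algebra.FiniteType.isNoetherianRing k R
  haveI : IsNoetherianRing S := Algebra.FiniteType.isNoetherianRing k S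
  set IR := Module.annihilator R M
  set IS := Module.annihilator S N
  have hdR' : ringKrullDim (R ⧸ IR) = (r : ℕ) := by
    rw [← Module.supportDim_eq_ringKrullDim_quotient_annihilator, hdM]
  have hdS' : ringKrullDim (S ⧸ IS) = (s : ℕ) := by
    rw [← Module.supportDim_eq_ringKrullDim_quotient_annihilator, hdN]
  have hIR : IR.IsHomogeneous 𝒜 := Mod.annihilator_isHomogeneous 𝒜 ℳ
  have hIS : IS.IsHomogeneous ℬ := Mod.annihilator_isHomogeneous ℬ 𝒩
  letI := Quot.gradedAlgebra 𝒜 hIR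
  letI := Quot.gradedAlgebra ℬ hIS
  haveI : Algebra.FiniteType k (R ⧸ IR) :=
    Algebra.FiniteType.of_surjective (Ideal.Quotient.mkₐ k IR) Ideal.Quotient.mk_surjective
  haveI : Algebra.FiniteType k (S ⧸ IS) :=
    Algebra.FiniteType.of_surjective (Ideal.Quotient.mkₐ k IS) Ideal.Quotient.mk_surjective
  have hposR' : ∀ n : ℤ, n < 0 → Quot.quotDeg 𝒜 IR n = ⊥ := fun n hn => by
    rw [Quot.quotDeg, hposR n hn, Submodule.map_bot]
  have h0R' : Quot.quotDeg 𝒜 IR 0 = Submodule.span k {1} := by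
    rw [Quot.quotDeg, h0R, Submodule.map_span, Set.image_singleton]; simp
  have hposS' : ∀ n : ℤ, n < 0 → Quot.quotDeg ℬ IS n = ⊥ := fun n hn => by
    rw [Quot.quotDeg, hposS n hn, Submodule.map_bot]
  have h0S' : Quot.quotDeg ℬ IS 0 = Submodule.span k {1} := by
    rw [Quot.quotDeg, h0S, Submodule.map_span, Set.image_singleton]; simp
  -- parameters of a common degree
  obtain ⟨m, d, x', hm, hd, hx', hx'p⟩ :=
    Sop.exists_common_degree (Quot.quotDeg 𝒜 IR) hposR' h0R' hdR'.le
  obtain ⟨m', e, y', hm', he, hy', hy'p⟩ :=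
    Sop.exists_common_degree (Quot.quotDeg ℬ IS) hposS' h0S' hdS'.le
  set D := d * e
  have hD : 0 < D := Nat.mul_pos hd he
  choose x0 hx0 hx0e using hx'
  choose y0 hy0 hy0e using hy'
  let x : Fin m → R := fun i => x0 i ^ e
  let y : Fin m' → S := fun i => y0 i ^ d
  have hxD : ∀ i, x i ∈ 𝒜 D := fun i => by
    have := SetLike.pow_mem_graded e (hx0 i)
    rwa [nsmul_eq_mul, ← Nat.cast_mul, mul_comm] at this
  have hyD : ∀ i, y i ∈ ℬ D := fun i => by
    have := SetLike.pow_mem_graded d (hy0 i)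
    rwa [nsmul_eq_mul, ← Nat.cast_mul] at this
  let xq : Fin m → R ⧸ IR := fun i => Ideal.Quotient.mk IR (x i)
  let yq : Fin m' → S ⧸ IS := fun i => Ideal.Quotient.mk IS (y i)
  have hxq : xq = fun i => x' i ^ e := funext fun i => by
    show Ideal.Quotient.mk IR (x0 i ^ e) = _
    rw [map_pow, ← hx0e i]; rfl
  have hyq : yq = fun i => y' i ^ d := funext fun i => by
    show Ideal.Quotient.mk IS (y0 i ^ d) = _
    rw [map_pow, ← hy0e i]; rfl
  haveI hxint : Algebra.IsIntegral (Algebra.adjoin k (Set.range xq)) (R ⧸ IR) :=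
    Sop.isIntegral (Quot.quotDeg 𝒜 IR) hposR' h0R' hD (fun i => Quot.mk_mem 𝒜 IR (hxD i))
      (hxq ▸ hx'p.pow _ fun _ => e)
  haveI hyint : Algebra.IsIntegral (Algebra.adjoin k (Set.range yq)) (S ⧸ IS) :=
    Sop.isIntegral (Quot.quotDeg ℬ IS) hposS' h0S' hD (fun i => Quot.mk_mem ℬ IS (hyD i))
      (hyq ▸ hy'p.pow _ fun _ => d)
  obtain ⟨hm1, -⟩ := Sop.algebraicIndependent hxint hdR' hm
  obtain ⟨hm2, -⟩ := Sop.algebraicIndependent hyint hdS' hm'
  subst hm1 hm2
  have hMtf := eq_zero_of_aeval_smul 𝒜 ℳ hposR h0R hdM hMcm hD x hxD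
    fun a => Algebra.IsIntegral.isIntegral a
  have hNtf := eq_zero_of_aeval_smul ℬ 𝒩 hposS h0S hdN hNcm hD y hyD
    fun a => Algebra.IsIntegral.isIntegral a
  obtain ⟨r', rfl⟩ := Nat.exists_eq_add_of_le' h1r
  obtain ⟨s', rfl⟩ := Nat.exists_eq_add_of_le' h1s
  have hseg : ∀ n, (𝒯 n).map ψ.toLinearMap =
      Submodule.span k {x : R ⊗[k] S | ∃ a ∈ 𝒜 n, ∃ b ∈ ℬ n, x = a ⊗ₜ[k] b} := hT.2
  let q := (Mod.toQuot k R S M N).comp ψ
  set J := RingHom.ker q.toRingHom
  have hrange := Dim.phi_range (Quot.quotDeg 𝒜 IR) (Quot.quotDeg ℬ IS) 𝒯 q fun n => by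
    rw [AlgHom.comp_toLinearMap, Submodule.map_comp, hseg n, Submodule.map_span,
      Submodule.span_le]
    rintro _ ⟨_, ⟨a, ha, b, hb, rfl⟩, rfl⟩
    exact Submodule.subset_span ⟨_, Quot.mk_mem 𝒜 IR ha, _, Quot.mk_mem ℬ IS hb,
      by simp [Mod.toQuot, IR, IS]⟩
  have hdimJ : ringKrullDim (T ⧸ J) = ((r' + 1 + (s' + 1) - 1 : ℕ) : WithBot ℕ∞) := by
    rw [← Dim.main_range (Quot.quotDeg 𝒜 IR) hposR' h0R' (Quot.quotDeg ℬ IS) hposS' h0S' q.range
      hrange ?_ (r' + 1) (s' + 1) hdR' hdS' h1r h1s]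
    · exact RingEquiv.ringKrullDim (RingHom.quotientKerEquivRange q.toRingHom)
    · rintro n _ ⟨a, ha, rfl⟩ _ ⟨b, hb, rfl⟩
      have h : a ⊗ₜ[k] b ∈ (𝒯 n).map ψ.toLinearMap := by
        rw [hseg]; exact Submodule.subset_span ⟨a, ha, b, hb, rfl⟩
      obtain ⟨t, _, ht⟩ := Submodule.mem_map.mp h
      refine ⟨t, ?_⟩
      show Mod.toQuot k R S M N (ψ.toLinearMap t) = _
      rw [ht]
      simp [Mod.toQuot, IR, IS]
  -- the monomial algebra inside `T`
  let E := MvPolynomial.tensorEquivSum k (Fin (r' + 1)) (Fin (s' + 1)) k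
  let Φ : MvPolynomial (Fin (r' + 1) ⊕ Fin (s' + 1)) k →ₐ[k] R ⊗[k] S :=
    (Algebra.TensorProduct.map (MvPolynomial.aeval x) (MvPolynomial.aeval y)).comp E.symm.toAlgHom
  have hΦX : ∀ i j, Φ (MvPolynomial.X (Sum.inl i) * MvPolynomial.X (Sum.inr j)) =
      x i ⊗ₜ[k] y j := by
    intro i j
    have h1 : E.symm (MvPolynomial.X (Sum.inl i)) = MvPolynomial.X i ⊗ₜ[k] 1 := by
      rw [AlgEquiv.symm_apply_eq]; simp [E]
    have h2 : E.symm (MvPolynomial.X (Sum.inr j)) = 1 ⊗ₜ[k] MvPolynomial.X j := by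
      rw [AlgEquiv.symm_apply_eq]; simp [E]
    simp [Φ, h1, h2]
  let A₀ := Dim.monA k (r' + 1) (s' + 1)
  have hΦA : ∀ a : A₀, (Φ.comp A₀.val) a ∈ ψ.range := by
    have : A₀.map Φ ≤ ψ.range := by
      rw [show A₀ = Algebra.adjoin k _ from rfl, AlgHom.map_adjoin]
      refine Algebra.adjoin_le ?_
      rintro _ ⟨_, ⟨⟨i, j⟩, rfl⟩, rfl⟩
      have h : x i ⊗ₜ[k] y j ∈ (𝒯 (D : ℤ)).map ψ.toLinearMap := by
        rw [hseg]; exact Submodule.subset_span ⟨_, hxD i, _, hyD j, rfl⟩
      obtain ⟨t, _, ht⟩ := Submodule.mem_map.mp h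
      exact ⟨t, ht.trans (hΦX i j).symm⟩
    exact fun a => this ⟨a.1, a.2, rfl⟩
  let α : A₀ →ₐ[k] T :=
    (AlgEquiv.ofInjective ψ hT.1).symm.toAlgHom.comp ((Φ.comp A₀.val).codRestrict _ hΦA)
  have hα : ∀ a : A₀, ψ (α a) = Φ a.1 := fun a => by
    show ψ ((AlgEquiv.ofInjective ψ hT.1).symm _) = _
    rw [← AlgEquiv.ofInjective_apply ψ hT.1, AlgEquiv.apply_symm_apply]
    rfl
  obtain ⟨v, hv⟩ := exists_ne (0 : P)
  let I := (Submodule.span T {v}).annihilator
  have hJI : J ≤ I := fun t ht => by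
    refine (Submodule.mem_annihilator_span_singleton _ _).mpr (hP.injective ?_)
    rw [hP.map_smul, map_zero]
    exact Mod.act_eq_zero_of_toQuot ht _
  let β : A₀ →ₐ[k] T ⧸ I := (Ideal.Quotient.mkₐ k I).comp α
  have hβ : Function.Injective β := by
    rw [injective_iff_map_eq_zero]
    intro a ha
    have h1 : α a • v = 0 :=
      (Submodule.mem_annihilator_span_singleton _ _).mp (Ideal.Quotient.eq_zero_iff_mem.mp ha)
    have h2 : GrSeg.act k R S M N (Φ a.1) (φ v) = 0 := by
      rw [← hα, ← hP.map_smul, h1, map_zero]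
    by_contra ha0
    refine hv (hP.injective ?_)
    rw [map_zero]
    exact act_eq_zero x y hMtf hNtf (E.symm a.1) (by
      simpa using fun h => ha0 (Subtype.ext h)) _ h2
  letI : Algebra A₀ (T ⧸ I) := β.toRingHom.toAlgebra
  haveI : FaithfulSMul A₀ (T ⧸ I) := (faithfulSMul_iff_algebraMap_injective _ _).mpr hβ
  haveI : Algebra.IsIntegral A₀ (T ⧸ I) := by
    refine ⟨fun z => ?_⟩
    obtain ⟨t, rfl⟩ := Ideal.Quotient.mk_surjective z
    obtain ⟨p, hp, hp0⟩ := Dim.isIntegral_segA (Quot.quotDeg 𝒜 IR) (Quot.quotDeg ℬ IS) xq yq hD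
      (fun i => Quot.mk_mem 𝒜 IR (hxD i)) (fun i => Quot.mk_mem ℬ IS (hyD i))
      (hrange _ ⟨t, rfl⟩) (isIntegral_segC xq yq (q t))
    have hqα : ∀ a, (q.comp α) a ∈ segA (k := k) xq yq := by
      intro a
      have hle : A₀.map ((Mod.toQuot k R S M N).comp Φ) ≤ segA (k := k) xq yq := by
        rw [show A₀ = Algebra.adjoin k _ from rfl, AlgHom.map_adjoin]
        refine Algebra.adjoin_le ?_
        rintro _ ⟨_, ⟨⟨i, j⟩, rfl⟩, rfl⟩
        refine Algebra.subset_adjoin ⟨(i, j), ?_⟩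
        rw [AlgHom.comp_apply, hΦX]
        rfl
      refine hle ⟨a.1, a.2, ?_⟩
      show Mod.toQuot k R S M N (Φ a.1) = Mod.toQuot k R S M N (ψ (α a))
      rw [hα]
    let γ := (q.comp α).codRestrict _ hqα
    have hγ : Function.Surjective γ := by
      have hle : segA (k := k) xq yq ≤ A₀.map ((Mod.toQuot k R S M N).comp Φ) := by
        refine Algebra.adjoin_le ?_
        rintro _ ⟨⟨i, j⟩, rfl⟩
        refine ⟨_, Algebra.subset_adjoin ⟨(i, j), rfl⟩, ?_⟩
        show Mod.toQuot k R S M N (Φ _) = _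
        rw [hΦX]
        rfl
      rintro ⟨b, hb⟩
      obtain ⟨a, ha, rfl⟩ := hle hb
      refine ⟨⟨a, ha⟩, Subtype.ext ?_⟩
      show Mod.toQuot k R S M N (ψ (α ⟨a, ha⟩)) = _
      rw [hα]
      rfl
    choose lift hlift using fun i : ℕ => hγ (p.coeff i)
    obtain ⟨P', hP'm, hP'⟩ : ∃ P' : Polynomial A₀, P'.Monic ∧ P'.map γ.toRingHom = p := by
      refine ⟨Polynomial.X ^ p.natDegree +
        ∑ i ∈ Finset.range p.natDegree, Polynomial.C (lift i) * Polynomial.X ^ i,
        Polynomial.monic_X_pow_add ((Polynomial.degree_sum_le _ _).trans_lt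
          ((Finset.sup_lt_iff (WithBot.bot_lt_coe _)).mpr fun i hi =>
            lt_of_le_of_lt (Polynomial.degree_C_mul_X_pow_le _ _)
              (WithBot.coe_lt_coe.mpr (Finset.mem_range.mp hi)))), ?_⟩
      conv_rhs => rw [hp.as_sum]
      simp [Polynomial.map_sum, hlift]
    refine ⟨P', hP'm, ?_⟩
    have h3 : P'.eval₂ α.toRingHom t ∈ J := by
      show q.toRingHom _ = 0
      rw [Polynomial.hom_eval₂, ← hp0, ← hP', Polynomial.eval₂_map]
      rfl
    show P'.eval₂ ((Ideal.Quotient.mk I).comp α.toRingHom) (Ideal.Quotient.mk I t) = 0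
    rw [← Polynomial.hom_eval₂]
    exact Ideal.Quotient.eq_zero_iff_mem.mpr (hJI h3)
  have hdimI : ringKrullDim (T ⧸ I) = ((r' + 1 + (s' + 1) - 1 : ℕ) : WithBot ℕ∞) := by
    rw [Groth.Agent.Lib.Dim.Integral.ringKrullDim_eq_of_isIntegral (R := A₀) (A := T ⧸ I),
      Dim.monA_dim]
    congr 1
  refine le_antisymm ?_ ?_
  · rw [← hdimJ, Module.supportDim, ringKrullDim_quotient]
    refine Order.krullDim_le_of_strictMono (fun Q => ⟨Q.1, ?_⟩) fun _ _ h => h
    intro t ht
    obtain ⟨u, hu⟩ := Module.mem_support_iff'.mp Q.2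
    by_contra htQ
    refine hu t htQ (hP.injective ?_)
    rw [hP.map_smul, map_zero]
    exact Mod.act_eq_zero_of_toQuot ht _
  · rw [← hdimI, ← Module.supportDim_quotient_eq_ringKrullDim]
    refine Module.supportDim_le_of_injective
      (Submodule.liftQ I (LinearMap.toSpanSingleton T P v) fun t ht =>
        (Submodule.mem_annihilator_span_singleton _ _).mp ht) ?_
    rw [← LinearMap.ker_eq_bot]
    exact Submodule.ker_liftQ_eq_bot _ _ _
      fun t ht => (Submodule.mem_annihilator_span_singleton _ _).mpr ht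

end Main

end Groth.Agent.H84.Segre.CMDim
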