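import Mathlib
import Groth.Prelude.Def_GrSeg
import Groth.Agent.H84.Segre.CMDim
import Groth.Agent.Lib.Depth.Basic
import Groth.Agent.Lib.Excellent.Transport

/-!
# Cohen-Macaulayness of a Segre product with a one-dimensional standard graded ring
-/

set_option autoImplicit false

universe u

namespace Groth.Agent.H84.Segre.Dim1

open DirectSum TensorProduct RingTheory.Sequence
open Groth.Agent.Lib.Depth

variable {k : Type u} [Field k]

section Depth

/-- A regular `x` and a socle element of `A/xA` bound the depth of `A` by one. -/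
theorem depth_le_one {A : Type u} [CommRing A] [IsLocalRing A] (x z : A)
    (hx : x ∈ IsLocalRing.maximalIdeal A) (hxr : ∀ a, x * a = 0 → a = 0)
    (hz : ∀ a, z ≠ x * a) (hm : ∀ r ∈ IsLocalRing.maximalIdeal A, ∃ a, r * z = x * a) :
    LocCoh.depth A A ≤ 1 := by
  show LocCoh.idealDepth (IsLocalRing.maximalIdeal A) A ≤ 1
  by_contra hc
  rw [not_le] at hc
  have h2 : ((2 : ℕ) : ℕ∞) ≤ LocCoh.idealDepth (IsLocalRing.maximalIdeal A) A := by
    have := Order.add_one_le_of_lt hc
    rw [one_add_one_eq_two] at this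
    exact this
  have hI : IsLocalRing.maximalIdeal A • (⊤ : Submodule A A) ≠ ⊤ := by
    rw [smul_eq_mul, Ideal.mul_top]; exact (IsLocalRing.maximalIdeal.isMaximal A).ne_top
  obtain ⟨rs, hl, hmem, hreg⟩ := (Basic.le_idealDepth_iff_of_ne_top hI 2).mp h2
  obtain ⟨x', r, rfl⟩ := List.length_eq_two.mp hl
  rw [isWeaklyRegular_cons_iff, isWeaklyRegular_singleton_iff] at hreg
  -- move `z` from `x` to `x'`
  obtain ⟨y, hy⟩ := hm x' (hmem x' (by simp))
  have hy' : ∀ a, y ≠ x' * a := by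
    intro a ha
    refine hz a (hreg.1 ?_)
    show x' * z = x' * (x * a)
    rw [hy, ha]; ring
  obtain ⟨w, hw⟩ := hm r (hmem r (by simp))
  have hry : r * y = x' * w := by
    refine sub_eq_zero.mp (hxr _ ?_)
    calc x * (r * y - x' * w) = r * (x * y) - x' * (x * w) := by ring
      _ = r * (x' * z) - x' * (r * z) := by rw [hy, hw]
      _ = 0 := by ring
  have h0 : (Submodule.Quotient.mk y : QuotSMulTop x' A) = 0 := by
    refine hreg.2 ?_
    show r • (Submodule.Quotient.mk y : QuotSMulTop x' A) = r • 0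
    rw [smul_zero, ← Submodule.Quotient.mk_smul, Submodule.Quotient.mk_eq_zero, smul_eq_mul, hry]
    exact Submodule.smul_mem_pointwise_smul w x' ⊤ Submodule.mem_top
  rw [Submodule.Quotient.mk_eq_zero] at h0
  obtain ⟨a, -, ha⟩ := (Submodule.mem_smul_pointwise_iff_exists _ _ _).mp h0
  exact hy' a ha.symm

end Depth

variable {R : Type u} [CommRing R] [Algebra k R] (𝒜 : ℤ → Submodule k R) [GradedAlgebra 𝒜]

/-- A graded Noetherian algebra with `R₀ = k` is of finite type. -/
theorem finiteType [IsNoetherianRing R] (hpos : ∀ n : ℤ, n < 0 → 𝒜 n = ⊥)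
    (h0 : 𝒜 0 = Submodule.span k {(1 : R)}) : Algebra.FiniteType k R := by
  classical
  obtain ⟨t, ht, hspan⟩ :=
    (Submodule.fg_span_iff_fg_span_finset_subset (R := R) {z : R | ∃ n : ℤ, 0 < n ∧ z ∈ 𝒜 n}).mp
      (IsNoetherian.noetherian _)
  set C := Algebra.adjoin k (t : Set R)
  have key : ∀ n : ℕ, ∀ a ∈ 𝒜 n, a ∈ C := by
    intro n
    induction n using Nat.strong_induction_on with
    | _ n IH =>
    intro a ha
    rcases Nat.eq_zero_or_pos n with rfl | hn
    · obtain ⟨c, rfl⟩ := Submodule.mem_span_singleton.mp (h0.le ha)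
      exact Subalgebra.smul_mem _ (one_mem _) c
    have hmem : a ∈ Submodule.span R (t : Set R) := by
      rw [← hspan]
      exact Submodule.subset_span ⟨n, by exact_mod_cast hn, ha⟩
    obtain ⟨c, hc, hsum⟩ := Submodule.mem_span_set.mp hmem
    rw [← decompose_of_mem_same 𝒜 ha, ← hsum, Finsupp.sum, decompose_sum,
      DFinsupp.finsetSum_apply, Submodule.coe_sum]
    refine Subalgebra.sum_mem _ fun x hx => ?_
    obtain ⟨d, hd, hxd⟩ := ht (hc hx)
    have h2 := coe_decompose_mul_add_of_right_mem 𝒜 (a := c x) (i := (n : ℤ) - d) hxd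
    rw [sub_add_cancel] at h2
    rw [smul_eq_mul, h2]
    refine Subalgebra.mul_mem _ ?_ (Algebra.subset_adjoin (hc hx))
    rcases lt_or_ge ((n : ℤ) - d) 0 with h | h
    · rw [Sop.coe_decompose_neg 𝒜 hpos h]; exact zero_mem _
    · obtain ⟨e, he⟩ := Int.eq_ofNat_of_zero_le h
      have hlt : e < n := by omega
      exact IH e hlt _ (he ▸ (decompose 𝒜 (c x) ((n : ℤ) - d)).2)
  refine ⟨⟨t, eq_top_iff.mpr fun a _ => ?_⟩⟩
  rw [← sum_support_decompose 𝒜 a]
  refine Subalgebra.sum_mem _ fun i _ => ?_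
  rcases lt_or_ge i 0 with h | h
  · rw [Sop.coe_decompose_neg 𝒜 hpos h]; exact zero_mem _
  · obtain ⟨e, rfl⟩ := Int.eq_ofNat_of_zero_le h
    exact key e _ (decompose 𝒜 a (e : ℤ)).2

/-- The height of the irrelevant ideal is the dimension. -/
theorem height_irr [Nontrivial R] [Algebra.FiniteType k R] (hpos : ∀ n : ℤ, n < 0 → 𝒜 n = ⊥)
    (h0 : 𝒜 0 = Submodule.span k {(1 : R)}) :
    haveI := CMDim.irr_isMaximal 𝒜 hpos h0
    ((CMDim.irr 𝒜).height : WithBot ℕ∞) = ringKrullDim R := by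
  haveI := CMDim.irr_isMaximal 𝒜 hpos h0
  refine le_antisymm (Ideal.height_le_ringKrullDim_of_ne_top (CMDim.irr_isMaximal 𝒜 hpos h0).ne_top) ?_
  rw [Groth.Agent.Lib.Dim.Local.height_maximal_eq_dimAt (k := k)]
  obtain ⟨q, hq, hdim, -⟩ := Groth.Agent.Lib.Dim.Local.exists_ringKrullDim_eq_dimQ k (A := R)
  haveI := hq.1.1
  rw [hdim]
  exact_mod_cast Groth.Agent.Lib.Dim.Local.dimQ_le_dimAt_of_le k
    (CMDim.le_irr 𝒜 hq.1.1.ne_top
      (Sop.minimalPrimes_isHomogeneous 𝒜 (Ideal.IsHomogeneous.bot 𝒜) hq) hpos h0)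

theorem cm_localizedModule_self {A : Type u} [CommRing A] [LocCoh.IsCohenMacaulayRing A]
    (q : Ideal A) [q.IsPrime] :
    LocCoh.IsCohenMacaulayModule (Localization.AtPrime q) (LocalizedModule q.primeCompl A) := by
  haveI := LocCoh.IsCohenMacaulayRing.isCohenMacaulayLocalRing_localization (R := A) q
  exact (CM.isCohenMacaulayModule_congr
    ((IsLocalizedModule.linearEquiv q.primeCompl (Algebra.linearMap A (Localization.AtPrime q))
      (LocalizedModule.mkLinearMap q.primeCompl A)).extendScalarsOfIsLocalization q.primeCompl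
        (Localization.AtPrime q))).mp (CM.isCohenMacaulayModule_self (R := Localization.AtPrime q))

/-- A Cohen-Macaulay graded algebra has homogeneous parameters, each of them regular. -/
theorem exists_regular_params [Algebra.FiniteType k R] [LocCoh.IsCohenMacaulayRing R]
    (hpos : ∀ n : ℤ, n < 0 → 𝒜 n = ⊥) (h0 : 𝒜 0 = Submodule.span k {(1 : R)}) (r : ℕ)
    (hr : ringKrullDim R = (r : ℕ)) :
    ∃ (D : ℕ) (x : Fin r → R), 0 < D ∧ (∀ i, x i ∈ 𝒜 D) ∧ (∀ i a, x i * a = 0 → a = 0) ∧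
      Sop.IsParams 𝒜 x := by
  classical
  obtain ⟨m, D, x, hm, hD, hxD, hxp⟩ := Sop.exists_common_degree 𝒜 hpos h0 hr.le
  have hint := Sop.isIntegral 𝒜 hpos h0 hD hxD hxp
  obtain ⟨rfl, -⟩ := Sop.algebraicIndependent hint hr hm
  let ℳ : ℤ → AddSubgroup R := fun n => (𝒜 n).toAddSubgroup
  letI : DirectSum.Decomposition ℳ :=
    { decompose' := (DirectSum.Decomposition.decompose' : R → ⨁ i, 𝒜 i)
      left_inv := DirectSum.Decomposition.left_inv (ℳ := 𝒜)
      right_inv := DirectSum.Decomposition.right_inv (ℳ := 𝒜) }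
  haveI : SetLike.GradedSMul 𝒜 ℳ := ⟨fun {i j a b} ha hb => SetLike.mul_mem_graded (A := 𝒜) ha hb⟩
  have hdim : Module.supportDim R R = (m : WithBot ℕ∞) := by
    rw [Module.supportDim_self_eq_ringKrullDim, hr]
  let π : R →ₐ[k] R ⧸ Module.annihilator R R := Ideal.Quotient.mkₐ k _
  have hintq : ∀ a : R ⧸ Module.annihilator R R, IsIntegral (Algebra.adjoin k
      (Set.range fun i => Ideal.Quotient.mk (Module.annihilator R R) (x i))) a := by
    intro a
    obtain ⟨a, rfl⟩ := Ideal.Quotient.mk_surjective a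
    let φ : Algebra.adjoin k (Set.range x) →ₐ[k] Algebra.adjoin k
        (Set.range fun i => Ideal.Quotient.mk (Module.annihilator R R) (x i)) :=
      (π.comp (Algebra.adjoin k _).val).codRestrict _ fun b => by
        have : (Algebra.adjoin k (Set.range x)).map π ≤ Algebra.adjoin k
            (Set.range fun i => Ideal.Quotient.mk (Module.annihilator R R) (x i)) := by
          rw [AlgHom.map_adjoin, ← Set.range_comp]; exact le_of_eq rfl
        exact this ⟨b.1, b.2, rfl⟩
    exact IsIntegral.map_of_comp_eq φ.toRingHom π.toRingHom (by ext; rfl)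
      (hint.isIntegral a)
  refine ⟨D, x, hD, hxD, fun i a ha => ?_, hxp⟩
  refine CMDim.eq_zero_of_aeval_smul 𝒜 ℳ hpos h0 hdim
    (fun q _ => Or.inr (cm_localizedModule_self q)) hD x hxD hintq (MvPolynomial.X i)
    (MvPolynomial.X_ne_zero _) a ?_
  simpa using ha

/-- `R₁ = k x` forces `Rₙ = k xⁿ` in a standard graded algebra. -/
theorem eq_span_pow (hpos : ∀ n : ℤ, n < 0 → 𝒜 n = ⊥) (h0 : 𝒜 0 = Submodule.span k {(1 : R)})
    (hstd : Ideal.span (⋃ n ∈ Set.Ioi (0 : ℤ), (𝒜 n : Set R)) =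
      Ideal.span ((𝒜 1 : Submodule k R) : Set R)) (x : R) (hx : 𝒜 1 ≤ Submodule.span k {x}) :
    ∀ n : ℕ, 𝒜 n ≤ Submodule.span k {x ^ n} := by
  intro n
  induction n with
  | zero => simpa using h0.le
  | succ n ih =>
    intro a ha
    refine Submodule.span_le.mpr ?_ (Mod.exists_sum_mul_of_std 𝒜 hstd (n := ((n + 1 : ℕ) : ℤ))
      (by push_cast; omega) ha)
    rintro _ ⟨y, hy, b, hb, rfl⟩
    rw [show ((n + 1 : ℕ) : ℤ) - 1 = (n : ℤ) by push_cast; ring] at hb
    obtain ⟨c, rfl⟩ := Submodule.mem_span_singleton.mp (hx hy)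
    obtain ⟨c', rfl⟩ := Submodule.mem_span_singleton.mp (ih hb)
    refine Submodule.mem_span_singleton.mpr ⟨c * c', ?_⟩
    rw [smul_mul_smul_comm, pow_succ']

/-- `R` is the polynomial ring as soon as `R₁` is a line through a regular element. -/
theorem polynomial_of_line (hpos : ∀ n : ℤ, n < 0 → 𝒜 n = ⊥)
    (h0 : 𝒜 0 = Submodule.span k {(1 : R)}) [Nontrivial R]
    (hstd : Ideal.span (⋃ n ∈ Set.Ioi (0 : ℤ), (𝒜 n : Set R)) =
      Ideal.span ((𝒜 1 : Submodule k R) : Set R)) (x : R) (hx1 : x ∈ 𝒜 1)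
    (hx : 𝒜 1 ≤ Submodule.span k {x}) (hne : ∀ n : ℕ, x ^ n ≠ 0) :
    Function.Bijective (Polynomial.aeval (R := k) x) := by
  classical
  constructor
  · rw [injective_iff_map_eq_zero]
    intro p hp
    ext n
    have hmem : ∀ i : ℕ, x ^ i ∈ 𝒜 i := fun i => by
      simpa using SetLike.pow_mem_graded i hx1
    have h := congrArg (GradedAlgebra.proj 𝒜 (n : ℤ)) hp
    rw [Polynomial.aeval_eq_sum_range' (p := p)
      (show p.natDegree < p.natDegree + n + 1 by omega), map_sum, map_zero,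
      Finset.sum_eq_single n] at h
    · rw [map_smul, GradedAlgebra.proj_apply, decompose_of_mem_same 𝒜 (hmem n)] at h
      rw [Polynomial.coeff_zero]
      exact (smul_eq_zero.mp h).resolve_right (hne n)
    · intro i _ hi
      rw [map_smul, GradedAlgebra.proj_apply,
        decompose_of_mem_ne 𝒜 (hmem i) (by exact_mod_cast hi), smul_zero]
    · intro hn
      exact absurd (Finset.mem_range.mpr (by omega)) hn
  · intro a
    suffices h : a ∈ (Polynomial.aeval (R := k) x).range from h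
    rw [← sum_support_decompose 𝒜 a]
    refine Subalgebra.sum_mem _ fun i _ => ?_
    rcases lt_or_ge i 0 with h | h
    · rw [Sop.coe_decompose_neg 𝒜 hpos h]; exact zero_mem _
    · obtain ⟨e, rfl⟩ := Int.eq_ofNat_of_zero_le h
      obtain ⟨c, hc⟩ := Submodule.mem_span_singleton.mp
        (eq_span_pow 𝒜 hpos h0 hstd x hx e (decompose 𝒜 a (e : ℤ)).2)
      exact ⟨Polynomial.C c * Polynomial.X ^ e, by rw [← hc]; simp [Algebra.smul_def]⟩

theorem eq_bot_of_one_eq_bot (hstd : Ideal.span (⋃ n ∈ Set.Ioi (0 : ℤ), (𝒜 n : Set R)) =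
      Ideal.span ((𝒜 1 : Submodule k R) : Set R)) (h1 : 𝒜 1 = ⊥) (n : ℕ) (hn : 0 < n) :
    𝒜 n = ⊥ := by
  refine (Submodule.eq_bot_iff _).mpr fun a ha => ?_
  have := Mod.exists_sum_mul_of_std 𝒜 hstd (n := (n : ℤ)) (by exact_mod_cast hn) ha
  refine (Submodule.mem_bot k).mp (Submodule.span_le.mpr ?_ this)
  rintro _ ⟨y, hy, b, -, rfl⟩
  rw [h1, Submodule.mem_bot] at hy
  simp [hy]

variable {S : Type u} [CommRing S] [Algebra k S] (ℬ : ℤ → Submodule k S) [GradedAlgebra ℬ]
  {T : Type u} [CommRing T] [Algebra k T] (𝒯 : ℤ → Submodule k T) [GradedAlgebra 𝒯]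
  (ψ : T →ₐ[k] R ⊗[k] S)

/-- The diagonal projection lands in the image of `T`. -/
theorem diag_mem_range (hdegT : ∀ n : ℤ, (𝒯 n).map ψ.toLinearMap =
      Submodule.span k {x : R ⊗[k] S | ∃ a ∈ 𝒜 n, ∃ b ∈ ℬ n, x = a ⊗ₜ[k] b}) (v : R ⊗[k] S) :
    Dim.diag 𝒜 ℬ v ∈ ψ.range := by
  classical
  induction v with
  | zero => simp [Dim.diag]
  | add a b ha hb => rw [Dim.diag_add]; exact add_mem ha hb
  | tmul a b =>
    rw [← sum_support_decompose 𝒜 a, ← sum_support_decompose ℬ b, TensorProduct.sum_tmul,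
      Dim.diag_sum]
    refine Subalgebra.sum_mem _ fun i _ => ?_
    rw [TensorProduct.tmul_sum, Dim.diag_sum]
    refine Subalgebra.sum_mem _ fun j _ => ?_
    rw [Dim.diag, Dim.phi_tmul 𝒜 ℬ (decompose 𝒜 a i).2 (decompose ℬ b j).2,
      AddMonoidAlgebra.coeff_single]
    by_cases hij : i = j
    · subst hij
      rw [sub_self, Finsupp.single_eq_same]
      have h : ((decompose 𝒜 a i : R)) ⊗ₜ[k] ((decompose ℬ b i : S)) ∈ (𝒯 i).map ψ.toLinearMap := by
        rw [hdegT]
        exact Submodule.subset_span ⟨_, (decompose 𝒜 a i).2, _, (decompose ℬ b i).2, rfl⟩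
      obtain ⟨t, -, ht⟩ := Submodule.mem_map.mp h
      exact ⟨t, ht⟩
    · rw [Finsupp.single_eq_of_ne (by omega)]
      exact zero_mem _

/-- A degree `D` element off the line `k f` obstructs Cohen-Macaulayness of `T`. -/
theorem not_isCohenMacaulayRing [Algebra.FiniteType k R] [Algebra.FiniteType k S]
    (hposR : ∀ n : ℤ, n < 0 → 𝒜 n = ⊥) (h0R : 𝒜 0 = Submodule.span k {(1 : R)})
    (hposS : ∀ n : ℤ, n < 0 → ℬ n = ⊥) (h0S : ℬ 0 = Submodule.span k {(1 : S)})
    (hψ : Function.Injective ψ)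
    (hdegT : ∀ n : ℤ, (𝒯 n).map ψ.toLinearMap =
      Submodule.span k {x : R ⊗[k] S | ∃ a ∈ 𝒜 n, ∃ b ∈ ℬ n, x = a ⊗ₜ[k] b})
    {s : ℕ} (hr : ringKrullDim R = 1) (hs : ringKrullDim S = s) (h2s : 2 ≤ s)
    {D : ℕ} (hD : 0 < D) {f g : R} {σ : S} (hfD : f ∈ 𝒜 D) (hgD : g ∈ 𝒜 D) (hσD : σ ∈ ℬ D)
    (hf : ∀ a, f * a = 0 → a = 0) (hσ : ∀ a, σ * a = 0 → a = 0)
    (hrad : CMDim.irr 𝒜 ≤ (Ideal.span {f}).radical)
    (hgf : g ∉ Submodule.span k {f}) : ¬ LocCoh.IsCohenMacaulayRing T := by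
  classical
  intro hCM
  haveI := hCM
  haveI : IsNoetherianRing R := Algebra.FiniteType.isNoetherianRing k R
  have hdim : ringKrullDim T = ((1 + s - 1 : ℕ) : WithBot ℕ∞) :=
    Dim.main 𝒜 hposR h0R ℬ hposS h0S 𝒯 ψ hψ hdegT 1 s (by exact_mod_cast hr) hs le_rfl (by omega)
  haveI : Nontrivial T := by
    by_contra hn
    rw [not_nontrivial_iff_subsingleton] at hn
    rw [ringKrullDim_eq_bot_of_subsingleton] at hdim
    exact WithBot.bot_ne_coe hdim
  have hposT : ∀ n : ℤ, n < 0 → 𝒯 n = ⊥ := by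
    intro n hn
    refine (Submodule.eq_bot_iff _).mpr fun t ht => hψ ?_
    have h : ψ.toLinearMap t ∈ (𝒯 n).map ψ.toLinearMap := Submodule.mem_map_of_mem ht
    rw [hdegT] at h
    rw [map_zero]
    refine (Submodule.mem_bot k).mp (Submodule.span_le.mpr ?_ h)
    rintro _ ⟨a, ha, b, -, rfl⟩
    rw [hposR n hn, Submodule.mem_bot] at ha
    simp [ha]
  have h0T : 𝒯 0 = Submodule.span k {(1 : T)} := by
    refine le_antisymm (fun t ht => ?_) (by
      rw [Submodule.span_le, Set.singleton_subset_iff]; exact SetLike.one_mem_graded 𝒯)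
    have h : ψ.toLinearMap t ∈ (𝒯 0).map ψ.toLinearMap := Submodule.mem_map_of_mem ht
    rw [hdegT] at h
    have h' : ψ t ∈ Submodule.span k {(1 : R ⊗[k] S)} := by
      refine Submodule.span_le.mpr ?_ h
      rintro _ ⟨a, ha, b, hb, rfl⟩
      obtain ⟨c, rfl⟩ := Submodule.mem_span_singleton.mp (h0R.le ha)
      obtain ⟨c', rfl⟩ := Submodule.mem_span_singleton.mp (h0S.le hb)
      refine Submodule.mem_span_singleton.mpr ⟨c * c', ?_⟩
      simp [Algebra.TensorProduct.one_def, TensorProduct.smul_tmul', smul_smul, mul_comm]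
    obtain ⟨c, hc⟩ := Submodule.mem_span_singleton.mp h'
    exact Submodule.mem_span_singleton.mpr ⟨c, hψ (by rw [← hc, map_smul, map_one])⟩
  haveI : Algebra.FiniteType k T := finiteType 𝒯 hposT h0T
  haveI := CMDim.irr_isMaximal 𝒯 hposT h0T
  set m := CMDim.irr 𝒯
  have hdiagT : ∀ t, Dim.phi 𝒜 ℬ (ψ t) = AddMonoidAlgebra.single 0 (ψ t) := fun t =>
    Dim.phi_range 𝒜 ℬ 𝒯 ψ (fun n => (hdegT n).le) _ ⟨t, rfl⟩
  have hpre : ∀ (n : ℤ) (a : R) (b : S), a ∈ 𝒜 n → b ∈ ℬ n →
      ∃ t ∈ 𝒯 n, ψ t = a ⊗ₜ[k] b := by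
    intro n a b ha hb
    have h : a ⊗ₜ[k] b ∈ (𝒯 n).map ψ.toLinearMap := by
      rw [hdegT]; exact Submodule.subset_span ⟨a, ha, b, hb, rfl⟩
    obtain ⟨t, ht, e⟩ := Submodule.mem_map.mp h
    exact ⟨t, ht, e⟩
  obtain ⟨x, hxT, hx⟩ := hpre D f σ hfD hσD
  obtain ⟨z, hzT, hz⟩ := hpre D g σ hgD hσD
  have hinjf : Function.Injective (LinearMap.mulLeft k (f ⊗ₜ[k] σ)) := by
    have e : LinearMap.mulLeft k (f ⊗ₜ[k] σ) =
        TensorProduct.map (LinearMap.mulLeft k f) (LinearMap.mulLeft k σ) := by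
      refine TensorProduct.ext' fun a b => ?_
      simp [Algebra.TensorProduct.tmul_mul_tmul]
    rw [e]
    exact CMDim.map_injective' ((injective_iff_map_eq_zero _).mpr hf)
      ((injective_iff_map_eq_zero _).mpr hσ)
  have hxr : ∀ a, x * a = 0 → a = 0 := fun a ha => hψ (by
    rw [map_zero]
    refine hinjf ?_
    show f ⊗ₜ[k] σ * ψ a = f ⊗ₜ[k] σ * 0
    rw [← hx, ← map_mul, ha, map_zero, mul_zero])
  have hσ0 : σ ≠ 0 := by
    intro h
    haveI : Nontrivial S := by
      by_contra hn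
      rw [not_nontrivial_iff_subsingleton] at hn
      rw [ringKrullDim_eq_bot_of_subsingleton] at hs
      exact WithBot.bot_ne_coe hs
    exact one_ne_zero (hσ 1 (by rw [h, zero_mul]))
  have hzx : ∀ t, z ≠ x * t := by
    intro t ht
    have h1 : ((decompose 𝒯 (x * t) (D : ℤ) : 𝒯 _) : T) = z := by
      rw [← ht]; exact decompose_of_mem_same 𝒯 hzT
    rw [mul_comm] at h1
    have h2 := coe_decompose_mul_add_of_right_mem 𝒯 (a := t) (i := (0 : ℤ)) hxT
    rw [zero_add] at h2
    rw [h2] at h1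
    obtain ⟨c, hc⟩ := Submodule.mem_span_singleton.mp (h0T.le (decompose 𝒯 t (0 : ℤ)).2)
    rw [← hc, smul_mul_assoc, one_mul] at h1
    have h3 : (c • f - g) ⊗ₜ[k] σ = (0 : R ⊗[k] S) := by
      rw [TensorProduct.sub_tmul, sub_eq_zero, ← hz, ← h1, map_smul, hx, TensorProduct.smul_tmul']
    refine hgf (Submodule.mem_span_singleton.mpr ⟨c, sub_eq_zero.mp ?_⟩)
    have hinj : Function.Injective (TensorProduct.map (LinearMap.id : R →ₗ[k] R)
        (LinearMap.toSpanSingleton k S σ)) :=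
      CMDim.map_injective' Function.injective_id (fun a b hab => by
        by_contra hne
        exact hσ0 ((smul_eq_zero.mp (show (a - b) • σ = 0 by
          rw [sub_smul, sub_eq_zero]; exact hab)).resolve_left (sub_ne_zero.mpr hne)))
    have h4 := @hinj ((c • f - g) ⊗ₜ[k] (1 : k)) 0 (by simpa using h3)
    simpa using congrArg (TensorProduct.rid k R) h4
  obtain ⟨N, hN⟩ := Ideal.exists_pow_le_of_le_radical_of_fg hrad (IsNoetherian.noetherian _)
  -- powers of irrelevant elements push `z` into `x T`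
  let K : Ideal T := Submodule.comap (LinearMap.mulRight T z) (Ideal.span {x})
  have hmK : m ≤ K.radical := by
    refine Ideal.span_le.mpr ?_
    rintro t ⟨n, hn, ht⟩
    refine ⟨N, ?_⟩
    let inc : R →ₐ[k] R ⊗[k] S := Algebra.TensorProduct.includeLeft
    have hψt : ψ t ∈ (CMDim.irr 𝒜).map inc.toRingHom := by
      have h : ψ.toLinearMap t ∈ (𝒯 n).map ψ.toLinearMap := Submodule.mem_map_of_mem ht
      rw [hdegT] at h
      refine (Submodule.span_le (p := ((CMDim.irr 𝒜).map inc.toRingHom).restrictScalars k)).mpr ?_ h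
      rintro _ ⟨a, ha, b, -, rfl⟩
      have hab : a ⊗ₜ[k] b = inc a * ((1 : R) ⊗ₜ[k] b) := by
        simp [inc, Algebra.TensorProduct.tmul_mul_tmul]
      show a ⊗ₜ[k] b ∈ (CMDim.irr 𝒜).map inc.toRingHom
      rw [hab]
      exact Ideal.mul_mem_right _ _ (Ideal.mem_map_of_mem _ (Ideal.subset_span ⟨n, hn, ha⟩))
    have h2 : ψ t ^ N ∈ Ideal.span {f ⊗ₜ[k] (1 : S)} := by
      have := Ideal.pow_mem_pow hψt N
      rw [← Ideal.map_pow] at this
      have h3 := Ideal.map_mono (f := inc.toRingHom) hN this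
      rwa [Ideal.map_span, Set.image_singleton] at h3
    obtain ⟨v, hv⟩ := Ideal.mem_span_singleton'.mp h2
    obtain ⟨w, hw⟩ := diag_mem_range 𝒜 ℬ 𝒯 ψ hdegT (v * (g ⊗ₜ[k] (1 : S)))
    show t ^ N * z ∈ Ideal.span {x}
    refine Ideal.mem_span_singleton.mpr ⟨w, hψ ?_⟩
    have e : ψ (t ^ N * z) = v * (g ⊗ₜ[k] (1 : S)) * (f ⊗ₜ[k] σ) := by
      rw [map_mul, map_pow, ← hv, hz, mul_assoc, mul_assoc,
        Algebra.TensorProduct.tmul_mul_tmul, Algebra.TensorProduct.tmul_mul_tmul, one_mul,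
        mul_comm f g]
    have hfix : Dim.phi 𝒜 ℬ (f ⊗ₜ[k] σ) = AddMonoidAlgebra.single 0 (f ⊗ₜ[k] σ) := by
      rw [← hx]; exact hdiagT x
    replace hw : ψ w = Dim.diag 𝒜 ℬ (v * (g ⊗ₜ[k] (1 : S))) := hw
    rw [← Dim.diag_self 𝒜 ℬ (hdiagT (t ^ N * z)), e, Dim.diag_mul 𝒜 ℬ hfix, map_mul, hx, hw]
    ring
  obtain ⟨M, hM⟩ := Ideal.exists_pow_le_of_le_radical_of_fg hmK (IsNoetherian.noetherian _)
  -- a socle element
  obtain ⟨z', hz'x, hz'm⟩ : ∃ z', z' ∉ Ideal.span {x} ∧ ∀ r ∈ m, r * z' ∈ Ideal.span {x} := by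
    have hz0 : z ∉ Ideal.span {x} := fun h => by
      obtain ⟨c, hc⟩ := Ideal.mem_span_singleton.mp h
      exact hzx c hc
    have key : ∀ (n : ℕ) (z : T), z ∉ Ideal.span {x} → (∀ r ∈ m ^ n, r * z ∈ Ideal.span {x}) →
        ∃ z', z' ∉ Ideal.span {x} ∧ ∀ r ∈ m, r * z' ∈ Ideal.span {x} := by
      intro n
      induction n with
      | zero => intro z hz h; exact absurd (by simpa using h 1 (by simp)) hz
      | succ n ih =>
        intro z hz h
        by_cases hall : ∀ r ∈ m ^ n, r * z ∈ Ideal.span {x}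
        · exact ih z hz hall
        push Not at hall
        obtain ⟨r, hr, hrz⟩ := hall
        refine ⟨r * z, hrz, fun r' hr' => ?_⟩
        rw [← mul_assoc]
        exact h _ (by rw [pow_succ', Ideal.mul_comm]; exact mul_comm r' r ▸ Ideal.mul_mem_mul hr hr')
    exact key M z hz0 fun r hr => hM hr
  -- at the irrelevant ideal
  haveI := LocCoh.IsCohenMacaulayRing.isCohenMacaulayLocalRing_localization (R := T) m
  set Tm := Localization.AtPrime m
  have hxm : x ∈ m := Ideal.subset_span ⟨D, by exact_mod_cast hD, hxT⟩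
  have hdepth : LocCoh.depth Tm Tm ≤ 1 := by
    refine depth_le_one (algebraMap T Tm x) (algebraMap T Tm z') ?_ ?_ ?_ ?_
    · rw [← IsLocalization.AtPrime.map_eq_maximalIdeal m Tm]
      exact Ideal.mem_map_of_mem _ hxm
    · intro a ha
      obtain ⟨a, u, rfl⟩ := IsLocalization.exists_mk'_eq m.primeCompl a
      rw [← IsLocalization.mk'_one (M := m.primeCompl) Tm x, ← IsLocalization.mk'_mul,
        IsLocalization.mk'_eq_zero_iff] at ha
      obtain ⟨w, hw⟩ := ha
      rw [IsLocalization.mk'_eq_zero_iff]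
      exact ⟨w, hxr _ (by rw [← hw]; ring)⟩
    · intro a ha
      obtain ⟨a, u, rfl⟩ := IsLocalization.exists_mk'_eq m.primeCompl a
      rw [← IsLocalization.mk'_one (M := m.primeCompl) Tm x,
        ← IsLocalization.mk'_one (M := m.primeCompl) Tm z', ← IsLocalization.mk'_mul,
        IsLocalization.mk'_eq_iff_eq, IsLocalization.eq_iff_exists m.primeCompl] at ha
      obtain ⟨w, hw⟩ := ha
      have h1 : ((w : T) * (u : T)) * z' ∈ Ideal.span {x} := by
        refine Ideal.mem_span_singleton.mpr ⟨(w : T) * a, ?_⟩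
        simp only [one_mul, Submonoid.coe_one, Submonoid.coe_mul] at hw
        linear_combination hw
      have hwu : (w : T) * (u : T) ∉ m := fun h =>
        ((inferInstance : m.IsPrime).mem_or_mem h).elim w.2 u.2
      obtain ⟨c, i, hi, hone⟩ := Ideal.IsMaximal.exists_inv ‹m.IsMaximal› hwu
      refine hz'x ?_
      have : z' = c * ((w : T) * u * z') + i * z' := by linear_combination (-z') * hone
      rw [this]
      exact add_mem (Ideal.mul_mem_left _ _ h1) (hz'm i hi)
    · intro r hr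
      rw [← IsLocalization.AtPrime.map_eq_maximalIdeal m Tm] at hr
      have hle : m.map (algebraMap T Tm) ≤
          Submodule.comap (LinearMap.mulRight Tm (algebraMap T Tm z'))
            (Ideal.span {algebraMap T Tm x}) := by
        refine Ideal.map_le_iff_le_comap.mpr fun r hr => ?_
        show algebraMap T Tm r * algebraMap T Tm z' ∈ Ideal.span {algebraMap T Tm x}
        rw [← map_mul, ← Set.image_singleton, ← Ideal.map_span]
        exact Ideal.mem_map_of_mem _ (hz'm r hr)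
      exact Ideal.mem_span_singleton.mp (hle hr)
  have h1 : ringKrullDim Tm = ringKrullDim T := by
    rw [IsLocalization.AtPrime.ringKrullDim_eq_height m, height_irr 𝒯 hposT h0T]
  rw [CM.ringKrullDim_eq_depth, hdim] at h1
  have h2 : ((1 + s - 1 : ℕ) : WithBot ℕ∞) ≤ ((1 : ℕ) : WithBot ℕ∞) :=
    h1.symm.le.trans (WithBot.coe_le_coe.mpr hdepth)
  have : 1 + s - 1 ≤ 1 := by exact_mod_cast h2
  omega

theorem main [Algebra.FiniteType k R] [Algebra.FiniteType k S]
    (hposR : ∀ n : ℤ, n < 0 → 𝒜 n = ⊥) (h0R : 𝒜 0 = Submodule.span k {(1 : R)})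
    (hposS : ∀ n : ℤ, n < 0 → ℬ n = ⊥) (h0S : ℬ 0 = Submodule.span k {(1 : S)})
    (hψ : Function.Injective ψ)
    (hdegT : ∀ n : ℤ, (𝒯 n).map ψ.toLinearMap =
      Submodule.span k {x : R ⊗[k] S | ∃ a ∈ 𝒜 n, ∃ b ∈ ℬ n, x = a ⊗ₜ[k] b})
    [LocCoh.IsCohenMacaulayRing R] [LocCoh.IsCohenMacaulayRing S]
    (hstd : Ideal.span (⋃ n ∈ Set.Ioi (0 : ℤ), (𝒜 n : Set R)) =
      Ideal.span ((𝒜 1 : Submodule k R) : Set R))
    (hr : ringKrullDim R = 1) (hs : 2 ≤ ringKrullDim S) :
    LocCoh.IsCohenMacaulayRing T ↔ Nonempty (R ≃ₐ[k] Polynomial k) := by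
  classical
  obtain ⟨s, hS, h2s⟩ : ∃ s : ℕ, ringKrullDim S = s ∧ 2 ≤ s := by
    haveI : Nontrivial S := by
      by_contra hn
      rw [not_nontrivial_iff_subsingleton] at hn
      rw [ringKrullDim_eq_bot_of_subsingleton] at hs
      exact (WithBot.bot_lt_coe _).not_ge hs
    obtain ⟨P, -, h, -⟩ := Groth.Agent.Lib.Dim.Local.exists_ringKrullDim_eq_dimQ k (A := S)
    refine ⟨_, h, ?_⟩
    rw [h] at hs
    exact_mod_cast hs
  haveI : Nontrivial R := by
    by_contra hn
    rw [not_nontrivial_iff_subsingleton] at hn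
    rw [ringKrullDim_eq_bot_of_subsingleton] at hr
    exact WithBot.bot_ne_coe hr
  constructor
  · intro hCM
    by_contra hpoly
    obtain ⟨D, f, hD, hfD, hf, hrad⟩ : ∃ (D : ℕ) (f : R), 0 < D ∧ f ∈ 𝒜 D ∧
        (∀ a, f * a = 0 → a = 0) ∧ CMDim.irr 𝒜 ≤ (Ideal.span {f}).radical := by
      obtain ⟨D, x, hD, hxD, hx, hxp⟩ :=
        exists_regular_params 𝒜 hposR h0R 1 (by exact_mod_cast hr)
      refine ⟨D, x 0, hD, hxD 0, hx 0, Ideal.span_le.mpr ?_⟩
      rintro z ⟨n, hn, hz⟩
      obtain ⟨e, rfl⟩ := Int.eq_ofNat_of_zero_le hn.le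
      have := hxp e (by exact_mod_cast hn) z hz
      rwa [show Set.range x = {x 0} from Set.range_unique] at this
    obtain ⟨E, y, hE, hyE, hy, -⟩ := exists_regular_params ℬ hposS h0S s hS
    obtain ⟨g, hgD, hgf⟩ : ∃ g ∈ 𝒜 D, g ∉ Submodule.span k {f} := by
      by_contra hline
      push Not at hline
      -- a regular linear form
      obtain ⟨x, hx1, b, hb, hxb⟩ : ∃ x ∈ 𝒜 1, ∃ b ∈ 𝒜 ((D : ℤ) - 1), x * b ≠ 0 := by
        by_contra h
        push Not at h
        have hmem := Mod.exists_sum_mul_of_std 𝒜 hstd (n := (D : ℤ)) (by exact_mod_cast hD) hfD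
        have hf0 : f = 0 := (Submodule.mem_bot k).mp (Submodule.span_le.mpr (by
          rintro _ ⟨x, hx, b, hb, rfl⟩
          exact (Submodule.mem_bot k).mpr (h x hx b hb)) hmem)
        exact one_ne_zero (hf 1 (by rw [hf0, zero_mul]))
      obtain ⟨c, hc⟩ := Submodule.mem_span_singleton.mp (hline (x * b) (by
        have := SetLike.mul_mem_graded (A := 𝒜) hx1 hb
        rwa [add_sub_cancel] at this))
      have hc0 : c ≠ 0 := fun h => hxb (by rw [← hc, h, zero_smul])
      have hxr : ∀ a, x * a = 0 → a = 0 := fun a ha => by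
        refine hf a ?_
        have h1 : (c • f) * a = 0 := by
          rw [hc, mul_assoc, mul_comm b, ← mul_assoc, ha, zero_mul]
        rw [smul_mul_assoc] at h1
        exact (smul_eq_zero.mp h1).resolve_left hc0
      have hxn : ∀ (n : ℕ) (a : R), x ^ n * a = 0 → a = 0 := by
        intro n
        induction n with
        | zero => intro a ha; simpa using ha
        | succ n ih =>
          intro a ha
          rw [pow_succ, mul_assoc] at ha
          exact hxr a (ih _ ha)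
      have hpow : ∀ n : ℕ, x ^ n ≠ 0 := fun n h =>
        one_ne_zero (hxn n 1 (by rw [h, zero_mul]))
      have hxD : ∀ n : ℕ, x ^ n ∈ 𝒜 n := fun n => by
        simpa using SetLike.pow_mem_graded n hx1
      obtain ⟨d, hd⟩ := Submodule.mem_span_singleton.mp (hline (x ^ D) (hxD D))
      have hd0 : d ≠ 0 := fun h => hpow D (by rw [← hd, h, zero_smul])
      have hline1 : 𝒜 1 ≤ Submodule.span k {x} := by
        intro y hy
        have hyD : y * x ^ (D - 1) ∈ 𝒜 D := by
          have := SetLike.mul_mem_graded (A := 𝒜) hy (hxD (D - 1))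
          rwa [show (1 : ℤ) + ((D - 1 : ℕ) : ℤ) = D by omega] at this
        obtain ⟨e, he⟩ := Submodule.mem_span_singleton.mp (hline _ hyD)
        refine Submodule.mem_span_singleton.mpr ⟨e / d, ?_⟩
        refine (sub_eq_zero.mp (hxn (D - 1) _ ?_))
        have hfd : f = d⁻¹ • x ^ D := by rw [← hd, smul_smul, inv_mul_cancel₀ hd0, one_smul]
        rw [mul_sub, mul_comm _ y, ← he, hfd, smul_smul, mul_smul_comm, ← pow_succ,
          show D - 1 + 1 = D by omega, div_eq_mul_inv, sub_self]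
      exact hpoly ⟨(AlgEquiv.ofBijective _
        (polynomial_of_line 𝒜 hposR h0R hstd x hx1 hline1 hpow)).symm⟩
    -- a common degree
    have hfE : f ^ E ∈ 𝒜 ((D * E : ℕ) : ℤ) := by
      have := SetLike.pow_mem_graded E hfD
      rwa [nsmul_eq_mul, ← Nat.cast_mul, mul_comm] at this
    have hyD : y ⟨0, by omega⟩ ^ D ∈ ℬ ((D * E : ℕ) : ℤ) := by
      have := SetLike.pow_mem_graded D (hyE ⟨0, by omega⟩)
      rwa [nsmul_eq_mul, ← Nat.cast_mul] at this
    have hfn : ∀ (n : ℕ) (a : R), f ^ n * a = 0 → a = 0 := by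
      intro n
      induction n with
      | zero => intro a ha; simpa using ha
      | succ n ih =>
        intro a ha
        rw [pow_succ, mul_assoc] at ha
        exact hf a (ih _ ha)
    have hyn : ∀ (n : ℕ) (a : S), y ⟨0, by omega⟩ ^ n * a = 0 → a = 0 := by
      intro n
      induction n with
      | zero => intro a ha; simpa using ha
      | succ n ih =>
        intro a ha
        rw [pow_succ, mul_assoc] at ha
        exact hy _ a (ih _ ha)
    refine not_isCohenMacaulayRing 𝒜 ℬ 𝒯 ψ hposR h0R hposS h0S hψ hdegT hr hS h2s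
      (Nat.mul_pos hD hE) hfE (g := f ^ (E - 1) * g) ?_ hyD (hfn E) (hyn D) ?_ ?_ hCM
    · have h1 : f ^ (E - 1) ∈ 𝒜 (((E - 1) * D : ℕ) : ℤ) := by
        have := SetLike.pow_mem_graded (E - 1) hfD
        rwa [nsmul_eq_mul, ← Nat.cast_mul] at this
      have h2 := SetLike.mul_mem_graded (A := 𝒜) h1 hgD
      rwa [show (((E - 1) * D : ℕ) : ℤ) + (D : ℤ) = ((D * E : ℕ) : ℤ) by
        rw [← Nat.cast_add]; congr 1
        rw [← Nat.succ_mul, show (E - 1).succ = E by omega, mul_comm]] at h2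
    · refine hrad.trans ?_
      have hle : Ideal.span {f} ≤ (Ideal.span {f ^ E}).radical :=
        Ideal.span_le.mpr (Set.singleton_subset_iff.mpr ⟨E, Ideal.subset_span rfl⟩)
      exact Ideal.radical_idem (Ideal.span {f ^ E}) ▸ Ideal.radical_mono hle
    · intro h
      obtain ⟨c, hc⟩ := Submodule.mem_span_singleton.mp h
      refine hgf (Submodule.mem_span_singleton.mpr ⟨c, sub_eq_zero.mp (hfn (E - 1) _ ?_)⟩)
      rw [mul_sub, mul_smul_comm, ← pow_succ, show E - 1 + 1 = E by omega, hc, sub_self]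
  · rintro ⟨e⟩
    haveI : IsDomain R := e.toRingEquiv.toMulEquiv.isDomain (Polynomial k)
    haveI : IsPrincipalIdealRing R :=
      IsPrincipalIdealRing.of_surjective e.symm.toRingEquiv.toRingHom e.symm.surjective
    obtain ⟨h', hh'⟩ := (IsPrincipalIdealRing.principal (CMDim.irr 𝒜)).principal
    set x : R := ((decompose 𝒜 h' (1 : ℤ) : 𝒜 1) : R)
    have hh'0 : ((decompose 𝒜 h' (0 : ℤ) : 𝒜 0) : R) = 0 :=
      CMDim.irr_component_zero 𝒜 hposR (hh' ▸ Submodule.mem_span_singleton_self h')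
    have hline : 𝒜 1 ≤ Submodule.span k {x} := by
      intro y hy
      have hymem : y ∈ CMDim.irr 𝒜 := Ideal.subset_span ⟨1, one_pos, hy⟩
      rw [hh'] at hymem
      obtain ⟨r, hr'⟩ := Submodule.mem_span_singleton.mp hymem
      have h1 : ((decompose 𝒜 y (1 : ℤ) : 𝒜 1) : R) = y := decompose_of_mem_same 𝒜 hy
      rw [← hr', ← sum_support_decompose 𝒜 h', smul_eq_mul, Finset.mul_sum, decompose_sum,
        DFinsupp.finsetSum_apply, Submodule.coe_sum] at h1
      rw [← hr', ← sum_support_decompose 𝒜 h', smul_eq_mul, Finset.mul_sum, ← h1]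
      refine Submodule.sum_mem _ fun i _ => ?_
      have h2 := coe_decompose_mul_add_of_right_mem 𝒜 (a := r) (i := 1 - i) (decompose 𝒜 h' i).2
      rw [sub_add_cancel] at h2
      rw [h2]
      rcases lt_trichotomy i 1 with hi | hi | hi
      · rcases eq_or_lt_of_le (show i ≤ 0 by omega) with hi0 | hi0
        · subst hi0; rw [hh'0, mul_zero]; exact zero_mem _
        · rw [Sop.coe_decompose_neg 𝒜 hposR hi0 h', mul_zero]; exact zero_mem _
      · subst hi
        rw [sub_self]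
        obtain ⟨c, hc⟩ := Submodule.mem_span_singleton.mp (h0R.le (decompose 𝒜 r (0 : ℤ)).2)
        refine Submodule.mem_span_singleton.mpr ⟨c, ?_⟩
        rw [← hc, smul_mul_assoc, one_mul]
      · rw [Sop.coe_decompose_neg 𝒜 hposR (by omega) r, zero_mul]; exact zero_mem _
    have hx0 : x ≠ 0 := by
      intro hx0
      have h1 : 𝒜 1 = ⊥ := by
        rw [eq_bot_iff]; exact hline.trans (by simp [hx0])
      have hbot : CMDim.irr 𝒜 = ⊥ := by
        refine (Submodule.eq_bot_iff _).mpr fun a ha => ?_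
        refine (Submodule.mem_bot R).mp (Ideal.span_le.mpr ?_ ha)
        rintro z ⟨n, hn, hz⟩
        obtain ⟨e', rfl⟩ := Int.eq_ofNat_of_zero_le hn.le
        rw [eq_bot_of_one_eq_bot 𝒜 hstd h1 e' (by exact_mod_cast hn), Submodule.mem_bot] at hz
        simp [hz]
      have hmax := CMDim.irr_isMaximal 𝒜 hposR h0R
      rw [hbot] at hmax
      have hfield : IsField R := by
        by_contra h
        exact Ring.ne_bot_of_isMaximal_of_not_isField hmax h rfl
      rw [ringKrullDim_eq_zero_of_isField hfield] at hr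
      exact zero_ne_one hr
    have hbij := polynomial_of_line 𝒜 hposR h0R hstd x (decompose 𝒜 h' (1 : ℤ)).2 hline
      fun n => pow_ne_zero n hx0
    let ev : R →ₐ[k] k :=
      (Polynomial.aeval (R := k) (1 : k)).comp (AlgEquiv.ofBijective _ hbij).symm.toAlgHom
    have hev : ∀ n : ℕ, ev (x ^ n) = 1 := by
      intro n
      have : (AlgEquiv.ofBijective _ hbij).symm (x ^ n) = Polynomial.X ^ n := by
        rw [AlgEquiv.symm_apply_eq]; simp
      simp [ev, this]
    let τ : T →ₐ[k] S :=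
      ((Algebra.TensorProduct.lid k S).toAlgHom.comp
        (Algebra.TensorProduct.map ev (AlgHom.id k S))).comp ψ
    have hτmem : ∀ (n : ℤ) (t : T), t ∈ 𝒯 n → τ t ∈ ℬ n ∧
        (0 ≤ n → ψ t = (x ^ n.toNat) ⊗ₜ[k] τ t) ∧ (n < 0 → t = 0) := by
      intro n t ht
      have h : ψ.toLinearMap t ∈ (𝒯 n).map ψ.toLinearMap := Submodule.mem_map_of_mem ht
      rw [hdegT] at h
      rcases lt_or_ge n 0 with hn | hn
      · have ht0 : t = 0 := hψ (by
          rw [map_zero]
          refine (Submodule.mem_bot k).mp (Submodule.span_le.mpr ?_ h)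
          rintro _ ⟨a, ha, b, -, rfl⟩
          rw [hposR n hn, Submodule.mem_bot] at ha
          simp [ha])
        exact ⟨by simp [ht0], fun h0 => absurd h0 (by omega), fun _ => ht0⟩
      · obtain ⟨m, rfl⟩ := Int.eq_ofNat_of_zero_le hn
        obtain ⟨b, hb, hbe⟩ : ∃ b ∈ ℬ m, ψ t = (x ^ m) ⊗ₜ[k] b := by
          refine Submodule.span_induction (p := fun v _ => ∃ b ∈ ℬ (m : ℤ), v = (x ^ m) ⊗ₜ[k] b)
            ?_ ⟨0, zero_mem _, by simp⟩ ?_ ?_ h
          · rintro _ ⟨a, ha, b, hb, rfl⟩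
            obtain ⟨c, rfl⟩ := Submodule.mem_span_singleton.mp
              (eq_span_pow 𝒜 hposR h0R hstd x hline m ha)
            exact ⟨c • b, Submodule.smul_mem _ _ hb, TensorProduct.smul_tmul _ _ _⟩
          · rintro u v _ _ ⟨b, hb, rfl⟩ ⟨b', hb', rfl⟩
            exact ⟨b + b', add_mem hb hb', (TensorProduct.tmul_add _ _ _).symm⟩
          · rintro c u _ ⟨b, hb, rfl⟩
            exact ⟨c • b, Submodule.smul_mem _ _ hb, (TensorProduct.tmul_smul _ _ _).symm⟩
        have hτt : τ t = b := by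
          simp [τ, hbe, hev]
        exact ⟨hτt ▸ hb, fun _ => by rw [Int.toNat_natCast, hτt, hbe],
          fun h' => absurd h' (by omega)⟩
    have hτdec : ∀ (t : T) (n : ℤ),
        ((decompose ℬ (τ t) n : ℬ n) : S) = τ ((decompose 𝒯 t n : 𝒯 n) : T) := by
      intro t n
      conv_lhs => rw [← sum_support_decompose 𝒯 t, map_sum, decompose_sum, DFinsupp.finsetSum_apply,
        Submodule.coe_sum]
      rw [Finset.sum_eq_single n]
      · exact decompose_of_mem_same ℬ (hτmem n _ (decompose 𝒯 t n).2).1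
      · intro i _ hi
        exact decompose_of_mem_ne ℬ (hτmem i _ (decompose 𝒯 t i).2).1 hi
      · intro hn
        rw [DFinsupp.notMem_support_iff.mp hn]
        simp
    have hτ : Function.Bijective τ := by
      constructor
      · rw [injective_iff_map_eq_zero]
        intro t ht
        rw [← sum_support_decompose 𝒯 t]
        refine Finset.sum_eq_zero fun n _ => ?_
        have h0 : τ ((decompose 𝒯 t n : 𝒯 n) : T) = 0 := by
          rw [← hτdec, ht]; simp
        rcases lt_or_ge n 0 with hn | hn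
        · exact (hτmem n _ (decompose 𝒯 t n).2).2.2 hn
        · refine hψ ?_
          rw [(hτmem n _ (decompose 𝒯 t n).2).2.1 hn, h0, TensorProduct.tmul_zero, map_zero]
      · intro b
        suffices h : b ∈ τ.range from h
        rw [← sum_support_decompose ℬ b]
        refine Subalgebra.sum_mem _ fun n _ => ?_
        rcases lt_or_ge n 0 with hn | hn
        · rw [Sop.coe_decompose_neg ℬ hposS hn]; exact zero_mem _
        · obtain ⟨m, rfl⟩ := Int.eq_ofNat_of_zero_le hn
          have hmem : (x ^ m) ⊗ₜ[k] ((decompose ℬ b (m : ℤ) : S)) ∈ (𝒯 (m : ℤ)).map ψ.toLinearMap := by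
            rw [hdegT]
            refine Submodule.subset_span ⟨_, ?_, _, (decompose ℬ b (m : ℤ)).2, rfl⟩
            simpa using SetLike.pow_mem_graded m (decompose 𝒜 h' (1 : ℤ)).2
          obtain ⟨t, -, ht⟩ := Submodule.mem_map.mp hmem
          refine ⟨t, ?_⟩
          show τ t = _
          simp [τ, show ψ t = _ from ht, hev]
    exact Groth.Agent.Lib.Excellent.Transport.isoInvariant_isCohenMacaulayRing _ _
      (AlgEquiv.ofBijective τ hτ).toRingEquiv.symm ‹_›

end Groth.Agent.H84.Segre.Dim1
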