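import Mathlib
import Groth.Prelude.Def_GrSeg
import Groth.Agent.H84.Segre.CMDim
import Groth.Agent.Lib.Depth.Span
import Groth.Agent.Lib.Depth.Local

/-!
# Homogeneous bases of graded Cohen-Macaulay modules over a system of parameters
-/

set_option autoImplicit false

universe u

namespace Groth.Agent.H84.Segre.FreeBasis

open DirectSum RingTheory.Sequence
open Groth.Agent.Lib.Depth

variable {k : Type u} [Field k] {R : Type u} [CommRing R] [Algebra k R]
  (𝒜 : ℤ → Submodule k R) [GradedAlgebra 𝒜]
  {M : Type u} [AddCommGroup M] [Module R M]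
  (ℳ : ℤ → AddSubgroup M) [DirectSum.Decomposition ℳ] [SetLike.GradedSMul 𝒜 ℳ]

include 𝒜 in
theorem decompose_smul_shift {d : ℤ} {a : R} (ha : a ∈ 𝒜 d) (w : M) (n : ℤ) :
    ((decompose ℳ (a • w) n : ℳ n) : M) = a • ((decompose ℳ w (n - d) : ℳ (n - d)) : M) := by
  classical
  induction w using DirectSum.Decomposition.inductionOn ℳ with
  | zero => simp
  | add x y hx hy =>
    simp [smul_add, decompose_add, hx, hy]
  | @homogeneous i x =>
    have hm : a • (x : M) ∈ ℳ (d + i) := SetLike.GradedSMul.smul_mem ha x.2
    by_cases h : n = d + i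
    · subst h
      rw [decompose_of_mem_same ℳ hm, show d + i - d = i by ring, decompose_of_mem_same ℳ x.2]
    · rw [decompose_of_mem_ne ℳ hm (Ne.symm h), decompose_of_mem_ne ℳ x.2 (by omega), smul_zero]

variable {r : ℕ} (y : Fin r → R)

/-- `(y_i : i < j) M`. -/
def Z (j : ℕ) : Submodule R M :=
  Submodule.span R {z | ∃ i : Fin r, i.val < j ∧ ∃ w : M, z = y i • w}

theorem smul_mem_Z {j : ℕ} {i : Fin r} (hi : i.val < j) (w : M) : y i • w ∈ Z y j (M := M) :=
  Submodule.subset_span ⟨i, hi, w, rfl⟩

theorem Z_mono {i j : ℕ} (h : i ≤ j) : Z y i (M := M) ≤ Z y j :=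
  Submodule.span_mono fun _ ⟨l, hl, hw⟩ => ⟨l, lt_of_lt_of_le hl h, hw⟩

variable {D : ℕ}

include 𝒜 in
theorem Z_component (hy : ∀ i, y i ∈ 𝒜 D) {j : ℕ} {z : M} (hz : z ∈ Z y j (M := M)) (n : ℤ) :
    ((decompose ℳ z n : ℳ n) : M) ∈ Z y j (M := M) := by
  classical
  suffices h : ∀ (c : R) (n : ℤ), ((decompose ℳ (c • z) n : ℳ n) : M) ∈ Z y j (M := M) by
    simpa using h 1 n
  clear n
  induction hz using Submodule.span_induction with
  | mem x hx =>
    obtain ⟨i, hi, w, rfl⟩ := hx
    intro c n
    rw [smul_comm, decompose_smul_shift 𝒜 ℳ (hy i)]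
    exact smul_mem_Z y hi _
  | zero => intro c n; simp
  | add a b _ _ ha hb =>
    intro c n
    rw [smul_add, decompose_add, DFinsupp.add_apply, AddSubgroup.coe_add]
    exact add_mem (ha c n) (hb c n)
  | smul a x _ hx => intro c n; rw [smul_smul]; exact hx _ n

/-- The weight of a monomial in `k[y]`. -/
def wt (D : ℕ) (γ : Fin r →₀ ℕ) : ℤ := ((∑ i, γ i : ℕ) : ℤ) * D

theorem monomial_mem (hy : ∀ i, y i ∈ 𝒜 D) (γ : Fin r →₀ ℕ) :
    MvPolynomial.aeval y (MvPolynomial.monomial γ (1 : k)) ∈ 𝒜 (wt D γ) := by
  rw [MvPolynomial.aeval_monomial, map_one, one_mul, Finsupp.prod_fintype _ _ fun i => pow_zero _]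
  have h := SetLike.prod_mem_graded (A := 𝒜) (fun i => γ i • (D : ℤ)) (fun i => y i ^ γ i)
    (F := Finset.univ) fun i _ => SetLike.pow_mem_graded (γ i) (hy i)
  have hsum : ∑ i, γ i • (D : ℤ) = wt D γ := by
    rw [← Finset.sum_smul, nsmul_eq_mul, wt]
  rwa [hsum] at h

theorem monomial_smul_mem_Z {j : ℕ} {γ : Fin r →₀ ℕ} {i : Fin r} (hi : i.val < j) (hγ : γ i ≠ 0)
    (w : M) : MvPolynomial.aeval (R := k) y (MvPolynomial.monomial γ (1 : k)) • w ∈
      Z y j (M := M) := by
  have h : MvPolynomial.monomial γ (1 : k) =
      MvPolynomial.X i * MvPolynomial.monomial (γ - Finsupp.single i 1) 1 := by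
    rw [MvPolynomial.X, MvPolynomial.monomial_mul, one_mul, add_tsub_cancel_of_le]
    exact Finsupp.single_le_iff.mpr (Nat.one_le_iff_ne_zero.mpr hγ)
  rw [h, map_mul, MvPolynomial.aeval_X, mul_smul]
  exact smul_mem_Z y hi _

variable [Module k M] [IsScalarTower k R M]

/-- The candidate basis vectors. -/
noncomputable def vec {ι : Type u} (b : ι → M) (p : ι × (Fin r →₀ ℕ)) : M :=
  MvPolynomial.aeval (R := k) y (MvPolynomial.monomial p.2 (1 : k)) • b p.1

variable (k) in
/-- The polynomial combination of the `b`. -/
noncomputable def comb {ι : Type u} [Fintype ι] (b : ι → M)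
    (P : ι → MvPolynomial (Fin r) k) : M :=
  ∑ l, MvPolynomial.aeval y (P l) • b l

theorem comb_eq {ι : Type u} [Fintype ι] (b : ι → M) (P : ι → MvPolynomial (Fin r) k) :
    comb k y b P = ∑ l, ∑ γ ∈ (P l).support, (P l).coeff γ • vec (k := k) y b (l, γ) := by
  refine Finset.sum_congr rfl fun l _ => ?_
  conv_lhs => rw [(P l).as_sum, map_sum, Finset.sum_smul]
  refine Finset.sum_congr rfl fun γ _ => ?_
  rw [vec, ← smul_assoc, ← map_smul, MvPolynomial.smul_monomial, smul_eq_mul, mul_one]

include 𝒜 in
/-- A homogeneous family which is a basis modulo a regular sequence is a basis. -/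
theorem vec_basis {ι : Type u} [Fintype ι] (hD : 0 < D) (hy : ∀ i, y i ∈ 𝒜 D)
    (hreg : ∀ (j : Fin r) (z : M), y j • z ∈ Z y j.val (M := M) → z ∈ Z y j.val (M := M))
    (e : ι → ℤ) (b : ι → M) (he : ∀ l, b l ∈ ℳ (e l)) (lo : ℤ) (hlo : ∀ n < lo, ℳ n = ⊥)
    (hind : ∀ c : ι → k, ∑ l, c l • b l ∈ Z y r (M := M) → ∀ l, c l = 0)
    (hspan : ∀ v : M, ∃ c : ι → k, v - ∑ l, c l • b l ∈ Z y r (M := M)) :
    LinearIndependent k (vec (k := k) y b) ∧ Submodule.span k (Set.range (vec (k := k) y b)) = ⊤ := by
  classical
  constructor
  · -- independence, by descending induction along the sequence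
    have key : ∀ m : ℕ, m ≤ r → ∀ P : ι → MvPolynomial (Fin r) k,
        comb k y b P ∈ Z y (r - m) (M := M) →
        ∀ l γ, (∀ i : Fin r, i.val < r - m → γ i = 0) → (P l).coeff γ = 0 := by
      intro m
      induction m with
      | zero =>
        intro _ P hP l γ hγ
        have hγ0 : γ = 0 := Finsupp.ext fun i => hγ i (by simp [i.2])
        subst hγ0
        refine hind (fun l => (P l).coeff 0) ?_ l
        have hdiff : comb k y b P - ∑ l, (P l).coeff 0 • b l ∈ Z y r (M := M) := by
          rw [comb_eq, ← Finset.sum_sub_distrib]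
          refine Submodule.sum_mem _ fun l _ => ?_
          by_cases h0 : (0 : Fin r →₀ ℕ) ∈ (P l).support
          · rw [← Finset.add_sum_erase _ _ h0]
            have hv0 : vec (k := k) y b (l, 0) = b l := by simp [vec]
            rw [hv0, add_sub_cancel_left]
            refine Submodule.sum_mem _ fun γ hγ => ?_
            obtain ⟨i, hi⟩ := Finsupp.ne_iff.mp (Finset.ne_of_mem_erase hγ)
            exact Submodule.smul_of_tower_mem _ _ (monomial_smul_mem_Z y i.2 (by simpa using hi) _)
          · rw [MvPolynomial.notMem_support_iff.mp h0, zero_smul, sub_zero]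
            refine Submodule.sum_mem _ fun γ hγ => ?_
            obtain ⟨i, hi⟩ := Finsupp.ne_iff.mp (show γ ≠ 0 from fun h => h0 (h ▸ hγ))
            exact Submodule.smul_of_tower_mem _ _ (monomial_smul_mem_Z y i.2 (by simpa using hi) _)
        have := sub_mem (by simpa using hP) hdiff
        simpa using this
      | succ m ih =>
        intro hm
        set j : Fin r := ⟨r - (m + 1), by omega⟩
        suffices h : ∀ (d : ℕ) (P : ι → MvPolynomial (Fin r) k),
            comb k y b P ∈ Z y j.val (M := M) →
            ∀ l γ, (∀ i : Fin r, i.val < j.val → γ i = 0) → γ j = d → (P l).coeff γ = 0 by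
          intro P hP l γ hγ
          exact h _ P hP l γ hγ rfl
        intro d
        induction d with
        | zero =>
          intro P hP l γ hγ hd
          refine ih (by omega) P ?_ l γ fun i hi => ?_
          · exact Z_mono y (by simp [j]; omega) hP
          · rcases lt_or_eq_of_le (show i.val ≤ j.val by simp [j]; omega) with h | h
            · exact hγ i h
            · rwa [Fin.ext h]
        | succ d ihd =>
          intro P hP l γ hγ hd
          let Q : ι → MvPolynomial (Fin r) k := fun l =>
            MvPolynomial.divMonomial (P l) (Finsupp.single j 1)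
          have hres : comb k y b P - y j • comb k y b Q ∈ Z y j.val (M := M) := by
            -- coefficients of the remainder without `y_j` vanish
            have hA : ∀ (l : ι) (γ : Fin r →₀ ℕ), γ j = 0 → (P l).coeff γ ≠ 0 →
                ∃ i : Fin r, i.val < j.val ∧ γ i ≠ 0 := by
              intro l γ h0 hne
              by_contra hc
              push Not at hc
              refine hne (ih (by omega) P (Z_mono y (by simp [j]; omega) hP) l γ fun i hi => ?_)
              rcases lt_or_eq_of_le (show i.val ≤ j.val by simp [j]; omega) with h | h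
              · exact hc i h
              · rw [Fin.ext h]; exact h0
            rw [comb, comb, Finset.smul_sum, ← Finset.sum_sub_distrib]
            refine Submodule.sum_mem _ fun l _ => ?_
            have hsplit : MvPolynomial.X j * Q l + MvPolynomial.modMonomial (P l)
                (Finsupp.single j 1) = P l := by
              have := MvPolynomial.divMonomial_add_modMonomial (P l) (Finsupp.single j 1)
              rwa [← MvPolynomial.X] at this
            conv in MvPolynomial.aeval y (P l) => rw [← hsplit]
            rw [map_add, map_mul, MvPolynomial.aeval_X, add_smul, mul_smul, add_sub_cancel_left,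
              (MvPolynomial.modMonomial (P l) _).as_sum, map_sum, Finset.sum_smul]
            refine Submodule.sum_mem _ fun γ hγ => ?_
            rw [MvPolynomial.mem_support_iff] at hγ
            have hj0 : γ j = 0 := by
              by_contra hne
              exact hγ (MvPolynomial.coeff_modMonomial_of_le _
                (Finsupp.single_le_iff.mpr (Nat.one_le_iff_ne_zero.mpr hne)))
            rw [MvPolynomial.coeff_modMonomial_of_not_le _ (fun hle => by
              have := Finsupp.single_le_iff.mp hle; omega)] at hγ ⊢
            obtain ⟨i, hi, hγi⟩ := hA l γ hj0 hγ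
            rw [← mul_one ((P l).coeff γ), ← smul_eq_mul, ← MvPolynomial.smul_monomial, map_smul,
              smul_assoc]
            exact Submodule.smul_of_tower_mem _ _ (monomial_smul_mem_Z y hi hγi _)
          have hQ : comb k y b Q ∈ Z y j.val (M := M) :=
            hreg j _ (by simpa using sub_mem hP hres)
          have hle : Finsupp.single j 1 ≤ γ := Finsupp.single_le_iff.mpr (by omega)
          have := ihd Q hQ l (γ - Finsupp.single j 1) (fun i hi => by
              simp [hγ i hi]) (by simp [hd])
          rwa [MvPolynomial.coeff_divMonomial, add_tsub_cancel_of_le hle] at this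
    rw [linearIndependent_iff]
    intro f hf
    let P : ι → MvPolynomial (Fin r) k := fun l =>
      ∑ p ∈ f.support with p.1 = l, MvPolynomial.monomial p.2 (f p)
    have hP : comb k y b P = 0 := by
      rw [← hf, comb, Finsupp.linearCombination_apply, Finsupp.sum,
        ← Finset.sum_fiberwise f.support Prod.fst]
      refine Finset.sum_congr rfl fun l _ => ?_
      simp only [P, map_sum, Finset.sum_smul]
      refine Finset.sum_congr rfl fun p hp => ?_
      obtain rfl := (Finset.mem_filter.mp hp).2
      rw [vec, ← smul_assoc, ← map_smul, MvPolynomial.smul_monomial, smul_eq_mul, mul_one]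
    refine Finsupp.ext fun p => ?_
    have := key r le_rfl P (by rw [hP]; exact zero_mem _) p.1 p.2 (fun i hi => by omega)
    simp only [P, MvPolynomial.coeff_sum, MvPolynomial.coeff_monomial] at this
    rw [Finset.sum_eq_single p] at this
    · simpa using this
    · intro q hq hne
      rw [if_neg]
      intro h
      exact hne (Prod.ext (Finset.mem_filter.mp hq).2 h)
    · intro hp
      rw [if_pos rfl]
      by_contra h
      exact hp (Finset.mem_filter.mpr ⟨Finsupp.mem_support_iff.mpr h, rfl⟩)
  · -- generation, by induction on the degree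
    set W := Submodule.span k (Set.range (vec (k := k) y b))
    have hW : ∀ (i : Fin r), ∀ w ∈ W, y i • w ∈ W := by
      intro i w hw
      induction hw using Submodule.span_induction with
      | zero => simp
      | add a c _ _ ha hc => rw [smul_add]; exact add_mem ha hc
      | smul c a _ ha => rw [smul_comm]; exact W.smul_mem c ha
      | mem a ha =>
        obtain ⟨⟨l, γ⟩, rfl⟩ := ha
        refine Submodule.subset_span ⟨(l, Finsupp.single i 1 + γ), ?_⟩
        rw [vec, vec, ← mul_smul]
        congr 1
        rw [← one_mul (1 : k), ← MvPolynomial.monomial_mul, map_mul, one_mul]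
        simp [MvPolynomial.aeval_monomial]
    have hdeg : ∀ m : ℕ, ∀ n : ℤ, n < lo + m → ∀ v ∈ ℳ n, v ∈ W := by
      intro m
      induction m with
      | zero =>
        intro n hn v hv
        rw [hlo n (by simpa using hn), AddSubgroup.mem_bot] at hv
        simp [hv]
      | succ m ih =>
        intro n hn v hv
        obtain ⟨c, hc⟩ := hspan v
        have hcomp : ∀ z ∈ Z y r (M := M), ∀ n : ℤ, n < lo + (m + 1 : ℕ) →
            ((decompose ℳ z n : ℳ n) : M) ∈ W := by
          intro z hz
          suffices h : ∀ (a : R) (n : ℤ), n < lo + (m + 1 : ℕ) →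
              ((decompose ℳ (a • z) n : ℳ n) : M) ∈ W by
            intro n hn; simpa using h 1 n hn
          induction hz using Submodule.span_induction with
          | zero => intro a n _; simp
          | add p q _ _ hp hq =>
            intro a n hn
            rw [smul_add, decompose_add, DFinsupp.add_apply, AddSubgroup.coe_add]
            exact add_mem (hp a n hn) (hq a n hn)
          | smul c x _ hx => intro a n hn; rw [smul_smul]; exact hx _ n hn
          | mem x hx =>
            obtain ⟨i, -, w, rfl⟩ := hx
            intro a n hn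
            rw [smul_comm, decompose_smul_shift 𝒜 ℳ (hy i)]
            exact hW i _ (ih (n - D) (by push_cast at hn; omega) _ (decompose ℳ (a • w) _).2)
        have h1 : ((decompose ℳ (v - ∑ l, c l • b l) n : ℳ n) : M) ∈ W := hcomp _ hc n hn
        rw [decompose_sub, DFinsupp.sub_apply, AddSubgroup.coe_sub, decompose_of_mem_same ℳ hv,
          decompose_sum, DFinsupp.finsetSum_apply, AddSubgroup.val_finsetSum] at h1
        have h2 : ∑ l, ((decompose ℳ (c l • b l) n : ℳ n) : M) ∈ W := by
          refine Submodule.sum_mem _ fun l _ => ?_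
          have hmem : c l • b l ∈ ℳ (e l) := by
            rw [← algebraMap_smul R]
            simpa using SetLike.GradedSMul.smul_mem (A := 𝒜) (B := ℳ)
              (SetLike.algebraMap_mem_graded 𝒜 (c l)) (he l)
          by_cases hn' : n = e l
          · subst hn'
            rw [decompose_of_mem_same ℳ hmem]
            exact W.smul_mem _ (Submodule.subset_span ⟨(l, 0), by simp [vec]⟩)
          · rw [decompose_of_mem_ne ℳ hmem (Ne.symm hn')]
            exact zero_mem _
        simpa using add_mem h1 h2
    refine eq_top_iff.mpr fun v _ => ?_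
    rw [← sum_support_decompose ℳ v]
    exact Submodule.sum_mem _ fun n _ =>
      hdeg (n - lo + 1).toNat n (by omega) _ (decompose ℳ v n).2

end Groth.Agent.H84.Segre.FreeBasis
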