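import Mathlib
import Groth.Prelude.Def_GrSeg
import Groth.Agent.H84.Segre.FreeBasis
import Groth.Agent.H84.Segre.CMDim

/-!
# Free bases of graded Cohen-Macaulay modules over systems of parameters
-/

set_option autoImplicit false
set_option linter.style.haveILetI false
set_option linter.unusedSectionVars false

universe u

namespace Groth.Agent.H84.Segre.CMBasis

open DirectSum RingTheory.Sequence IsLocalRing
open Groth.Agent.Lib.Depth LocCoh
open Groth.Agent.H84.Segre.CMDim (irr)
open Groth.Agent.H84.Segre.FreeBasis (Z)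

variable {k : Type u} [Field k] {R : Type u} [CommRing R] [Algebra k R]
  (𝒜 : ℤ → Submodule k R) [GradedAlgebra 𝒜]
  {M : Type u} [AddCommGroup M] [Module R M]
  (ℳ : ℤ → AddSubgroup M) [DirectSum.Decomposition ℳ] [SetLike.GradedSMul 𝒜 ℳ]

variable {r : ℕ} (y : Fin r → R) {D : ℕ}

/-- Modulo the parameters everything is integral over the ground field. -/
theorem isIntegral_quotient
    (hint : ∀ a : R ⧸ Module.annihilator R M, IsIntegral
      (Algebra.adjoin k (Set.range fun i => Ideal.Quotient.mk (Module.annihilator R M) (y i))) a)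
    (J : Ideal R) (hJy : ∀ i, y i ∈ J) (hJann : Module.annihilator R M ≤ J) :
    Algebra.IsIntegral k (R ⧸ J) := by
  refine ⟨fun z => ?_⟩
  obtain ⟨z, rfl⟩ := Ideal.Quotient.mk_surjective z
  let π : (R ⧸ Module.annihilator R M) →ₐ[k] R ⧸ J := Ideal.Quotient.factorₐ k hJann
  have hle : (Algebra.adjoin k (Set.range fun i =>
      Ideal.Quotient.mk (Module.annihilator R M) (y i))).map π ≤ ⊥ := by
    rw [AlgHom.map_adjoin, Algebra.adjoin_le_iff]
    rintro _ ⟨_, ⟨i, rfl⟩, rfl⟩
    have : π (Ideal.Quotient.mk (Module.annihilator R M) (y i)) = 0 :=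
      Ideal.Quotient.eq_zero_iff_mem.mpr (hJy i)
    rw [this]
    exact zero_mem _
  let χ : Algebra.adjoin k (Set.range fun i => Ideal.Quotient.mk (Module.annihilator R M) (y i))
      →ₐ[k] (⊥ : Subalgebra k (R ⧸ J)) :=
    (π.comp (Algebra.adjoin k _).val).codRestrict _ fun a => hle ⟨a.1, a.2, rfl⟩
  have h1 : IsIntegral (⊥ : Subalgebra k (R ⧸ J)) (π (Ideal.Quotient.mk _ z)) :=
    IsIntegral.map_of_comp_eq χ.toRingHom π.toRingHom (by ext; rfl) (hint _)
  haveI : Algebra.IsIntegral k (⊥ : Subalgebra k (R ⧸ J)) := by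
    refine ⟨fun a => ?_⟩
    obtain ⟨c, hc⟩ := Algebra.mem_bot.mp a.2
    rw [show a = algebraMap k _ c from Subtype.ext hc.symm]
    exact isIntegral_algebraMap
  exact isIntegral_trans (R := k) _ h1

variable [Algebra.FiniteType k R] [Module.Finite R M]

include ℳ in
/-- The only point of the support on which all parameters vanish. -/
theorem eq_irr (hpos : ∀ n : ℤ, n < 0 → 𝒜 n = ⊥) (h0 : 𝒜 0 = Submodule.span k {(1 : R)})
    (hy : ∀ i, y i ∈ 𝒜 D)
    (hint : ∀ a : R ⧸ Module.annihilator R M, IsIntegral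
      (Algebra.adjoin k (Set.range fun i => Ideal.Quotient.mk (Module.annihilator R M) (y i))) a)
    (Q : Ideal R) [Q.IsPrime] (hQy : ∀ i, y i ∈ Q) (hQ : Module.annihilator R M ≤ Q) :
    Q = irr 𝒜 := by
  classical
  set J := Ideal.span (Set.range y) ⊔ Module.annihilator R M
  have hJ : J.IsHomogeneous 𝒜 :=
    (Ideal.homogeneous_span 𝒜 _ (by rintro _ ⟨i, rfl⟩; exact ⟨D, hy i⟩)).sup
      (Mod.annihilator_isHomogeneous 𝒜 ℳ)
  obtain ⟨q0, hq0, hle⟩ := Ideal.exists_minimalPrimes_le (J := Q) (I := J)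
    (sup_le (Ideal.span_le.mpr (by rintro _ ⟨i, rfl⟩; exact hQy i)) hQ)
  haveI := hq0.1.1
  haveI := isIntegral_quotient y hint q0
    (fun i => hq0.1.2 (Ideal.mem_sup_left (Ideal.subset_span ⟨i, rfl⟩)))
    (le_sup_right.trans hq0.1.2)
  have hmax : q0.IsMaximal := Ideal.Quotient.maximal_of_isField _
    (isField_of_isIntegral_of_isField' (Field.toIsField k))
  haveI : Nontrivial R := (subsingleton_or_nontrivial R).resolve_left fun h =>
    hmax.ne_top (Ideal.eq_top_iff_one _ |>.mpr (Subsingleton.elim (0 : R) 1 ▸ q0.zero_mem))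
  have h1 : q0 = irr 𝒜 := hmax.eq_of_le (CMDim.irr_isMaximal 𝒜 hpos h0).ne_top
    (CMDim.le_irr 𝒜 hmax.ne_top (Sop.minimalPrimes_isHomogeneous 𝒜 hJ hq0) hpos h0)
  exact h1 ▸ (hmax.eq_of_le (Ideal.IsPrime.ne_top ‹_›) hle).symm

include ℳ in
/-- The depth of a graded Cohen-Macaulay module at the irrelevant ideal. -/
theorem depth_irr [(irr 𝒜).IsMaximal] (hpos : ∀ n : ℤ, n < 0 → 𝒜 n = ⊥)
    (h0 : 𝒜 0 = Submodule.span k {(1 : R)}) (hdim : Module.supportDim R M = r)
    (hcm : ∀ (q : Ideal R) [q.IsPrime], Subsingleton (LocalizedModule q.primeCompl M) ∨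
      LocCoh.IsCohenMacaulayModule (Localization.AtPrime q) (LocalizedModule q.primeCompl M)) :
    (⟨irr 𝒜, inferInstance⟩ : PrimeSpectrum R) ∈ Module.support R M ∧
      depth (Localization.AtPrime (irr 𝒜)) (LocalizedModule (irr 𝒜).primeCompl M) = (r : ℕ∞) := by
  classical
  haveI : IsNoetherianRing R := Algebra.FiniteType.isNoetherianRing k R
  haveI : Nontrivial M := by
    by_contra hc
    haveI := not_nontrivial_iff_subsingleton.mp hc
    rw [Module.supportDim_eq_bot_of_subsingleton] at hdim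
    exact WithBot.coe_ne_bot hdim.symm
  set m := irr 𝒜
  set Rm := Localization.AtPrime m
  set Mm := LocalizedModule m.primeCompl M
  haveI : IsNoetherianRing Rm := IsLocalization.isNoetherianRing m.primeCompl _ inferInstance
  haveI : Module.Finite Rm Mm := Module.Finite.of_isLocalizedModule m.primeCompl
    (LocalizedModule.mkLinearMap m.primeCompl M)
  -- a homogeneous associated prime
  obtain ⟨v, hv⟩ := exists_ne (0 : M)
  obtain ⟨g, hg⟩ : ∃ g, ((decompose ℳ v g : ℳ g) : M) ≠ 0 := by
    by_contra! hc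
    exact hv (by rw [← sum_support_decompose ℳ v]; exact Finset.sum_eq_zero fun g _ => hc g)
  obtain ⟨d, c, hc, hcx, hprime⟩ :=
    Groth.Agent.Lib.Graded.Ass.exists_prime_ann 𝒜 ℳ (decompose ℳ v g).2 hg
  set q := (Submodule.span R {c • ((decompose ℳ v g : ℳ g) : M)}).annihilator
  have hqh : q.IsHomogeneous 𝒜 := Groth.Agent.Lib.Graded.Ass.isHomogeneous_ann 𝒜 ℳ
    (SetLike.GradedSMul.smul_mem hc (decompose ℳ v g).2)
  have hqa : q ∈ associatedPrimes R M := by
    show IsAssociatedPrime q M
    rw [isAssociatedPrime_iff]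
    refine ⟨hprime, c • ((decompose ℳ v g : ℳ g) : M), ?_⟩
    ext z
    simp [q, Submodule.mem_annihilator_span_singleton, Submodule.mem_colon_singleton]
  have hqm : q ≤ m := CMDim.le_irr 𝒜 hprime.ne_top hqh hpos h0
  have hdisj : Disjoint (m.primeCompl : Set R) (q : Set R) :=
    Set.disjoint_left.mpr fun x hx hxp => hx (hqm hxp)
  have hass : q.map (algebraMap R Rm) ∈ associatedPrimes Rm Mm := by
    rw [← Module.associatedPrimes.preimage_comap_associatedPrimes_eq_associatedPrimes_of_isLocalizedModule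
      m.primeCompl Rm (LocalizedModule.mkLinearMap m.primeCompl M)]
    show (q.map (algebraMap R Rm)).comap (algebraMap R Rm) ∈ associatedPrimes R M
    rwa [show (q.map (algebraMap R Rm)).comap (algebraMap R Rm) =
      (q.map (algebraMap R Rm)).under R from rfl,
      IsLocalization.under_map_of_isPrime_disjoint m.primeCompl Rm hprime hdisj]
  have hannm : Module.annihilator R M ≤ m := fun t ht => hqm
    ((Submodule.mem_annihilator_span_singleton _ _).mpr (Module.mem_annihilator.mp ht _))
  have hsupp : (⟨m, inferInstance⟩ : PrimeSpectrum R) ∈ Module.support R M := by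
    rw [Module.support_eq_zeroLocus]; exact hannm
  haveI : Nontrivial Mm := Module.mem_support_iff.mp hsupp
  have hcm' := (hcm m).resolve_left (not_subsingleton Mm)
  have hdepth : depth Rm Mm = (r : ℕ∞) := by
    have h1 := CM.ringKrullDim_quotient_eq hcm' hass
    rw [CMDim.ringKrullDim_quotient_atPrime (k := k) q m hqm,
      CMDim.dim_quotient_eq 𝒜 ℳ hpos h0 hdim hcm q hqa hqh, hcm'] at h1
    exact_mod_cast h1.symm
  exact ⟨hsupp, hdepth⟩

include ℳ in
/-- A homogeneous system of parameters of a module of maximal depth is a regular sequence. -/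
theorem regular_of_depth [Nontrivial M] (hpos : ∀ n : ℤ, n < 0 → 𝒜 n = ⊥)
    (h0 : 𝒜 0 = Submodule.span k {(1 : R)}) (hdep : (r : ℕ∞) ≤ idealDepth (irr 𝒜) M)
    (hD : 0 < D) (hy : ∀ i, y i ∈ 𝒜 D)
    (hint : ∀ a : R ⧸ Module.annihilator R M, IsIntegral
      (Algebra.adjoin k (Set.range fun i => Ideal.Quotient.mk (Module.annihilator R M) (y i))) a)
    (j : Fin r) (z : M) (hz : y j • z ∈ Z y j.val (M := M)) : z ∈ Z y j.val (M := M) := by
  classical
  haveI : IsNoetherianRing R := Algebra.FiniteType.isNoetherianRing k R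
  haveI : Nontrivial R := Module.nontrivial R M
  haveI := CMDim.irr_isMaximal 𝒜 hpos h0
  set m := irr 𝒜
  set Rm := Localization.AtPrime m
  set Mm := LocalizedModule m.primeCompl M
  haveI : IsNoetherianRing Rm := IsLocalization.isNoetherianRing m.primeCompl _ inferInstance
  haveI : Module.Finite Rm Mm := Module.Finite.of_isLocalizedModule m.primeCompl
    (LocalizedModule.mkLinearMap m.primeCompl M)
  have hannm : Module.annihilator R M ≤ m := CMDim.le_irr 𝒜
    (fun h => not_subsingleton M (Module.annihilator_eq_top_iff.mp h))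
    (Mod.annihilator_isHomogeneous 𝒜 ℳ) hpos h0
  have hsupp : (⟨m, inferInstance⟩ : PrimeSpectrum R) ∈ Module.support R M := by
    rw [Module.support_eq_zeroLocus]; exact hannm
  have hdepth : (r : ℕ∞) ≤ depth Rm Mm :=
    hdep.trans (Local.idealDepth_le_depth_localization m M m le_rfl)
  haveI : Nontrivial Mm := Module.mem_support_iff.mp hsupp
  have hym : ∀ i, y i ∈ m := fun i =>
    Ideal.subset_span ⟨D, by exact_mod_cast hD, hy i⟩
  -- the depth in the ideal of parameters
  set ys := List.ofFn y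
  have hI : (r : ℕ∞) ≤ idealDepth (Ideal.ofList ys) M := by
    rw [Local.idealDepth_eq_iInf]
    refine le_iInf₂ fun Q hQ => ?_
    by_cases hQs : Q ∈ Module.support R M
    · have : Q = ⟨m, inferInstance⟩ := PrimeSpectrum.ext (eq_irr 𝒜 ℳ y hpos h0 hy hint Q.asIdeal
        (fun i => hQ (Ideal.subset_span (by simp [ys])))
        (Module.annihilator_le_of_mem_support hQs))
      subst this
      exact hdepth
    · haveI := Module.notMem_support_iff.mp hQs
      rw [depth, Basic.idealDepth_subsingleton (M := LocalizedModule Q.asIdeal.primeCompl M)]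
      exact le_top
  set ysm := ys.map (algebraMap R Rm)
  have hI' : (ysm.length : ℕ∞) ≤ idealDepth (Ideal.ofList ysm) Mm := by
    rcases (Basic.le_idealDepth_iff r).mp hI with h | ⟨rs, hl, hmem, hreg⟩
    · refine absurd h (Local.smul_top_ne_top_of_mem_support hsupp (Ideal.span_le.mpr ?_))
      intro a ha
      obtain ⟨i, rfl⟩ := List.mem_ofFn.mp ha
      exact hym i
    · rw [show ysm.length = (rs.map (algebraMap R Rm)).length by simp [ysm, ys, hl]]
      refine Basic.length_le_idealDepth (hreg.of_isLocalizedModule Rm m.primeCompl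
        (LocalizedModule.mkLinearMap m.primeCompl M)) ?_
      intro a ha
      obtain ⟨b, hb, rfl⟩ := List.mem_map.mp ha
      rw [← Ideal.map_ofList]
      exact Ideal.mem_map_of_mem _ (hmem b hb)
  have hregm : IsWeaklyRegular Mm ysm := by
    refine Span.isWeaklyRegular_of_idealDepth_eq ysm Mm ?_ hI'
    intro a ha
    obtain ⟨b, hb, rfl⟩ := List.mem_map.mp ha
    obtain ⟨i, rfl⟩ := List.mem_ofFn.mp hb
    exact (IsLocalization.AtPrime.to_map_mem_maximal_iff Rm m _).mpr (hym i)
  -- clear the denominator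
  obtain ⟨u, hu, huz⟩ : ∃ u, u ∉ m ∧ u • z ∈ Z y j.val (M := M) := by
    have hj : j.val < ysm.length := by simp [ysm, ys]
    have hr' := hregm.regular_mod_prev j.val hj
    set f := LocalizedModule.mkLinearMap m.primeCompl M
    set J := Ideal.ofList (ysm.take j.val)
    have hget : ysm[j.val] = algebraMap R Rm (y j) := by simp [ysm, ys]
    rw [hget] at hr'
    have hZ : ∀ w ∈ Z y j.val (M := M), f w ∈ J • (⊤ : Submodule Rm Mm) := by
      intro w hw
      induction hw using Submodule.span_induction with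
      | zero => rw [map_zero]; exact zero_mem _
      | add a b _ _ ha hb => rw [map_add]; exact add_mem ha hb
      | smul a x _ hx =>
        rw [map_smul, ← algebraMap_smul Rm]
        exact Submodule.smul_mem _ _ hx
      | mem x hx =>
        obtain ⟨i, hi, w, rfl⟩ := hx
        rw [map_smul, ← algebraMap_smul Rm]
        refine Submodule.smul_mem_smul (Ideal.subset_span ?_) trivial
        refine List.mem_take_iff_getElem.mpr ⟨i.val, ?_, ?_⟩
        · simp [ysm, ys, hi]
        · simp [ysm, ys]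
    have hfz : f z ∈ J • (⊤ : Submodule Rm Mm) := by
      rw [← Submodule.Quotient.mk_eq_zero]
      refine hr'.right_eq_zero_of_smul ?_
      rw [← Submodule.Quotient.mk_smul, Submodule.Quotient.mk_eq_zero, algebraMap_smul,
        ← map_smul]
      exact hZ _ hz
    have hle : J • (⊤ : Submodule Rm Mm) ≤
        Submodule.localized' Rm m.primeCompl f (Z y j.val (M := M)) := by
      refine Submodule.smul_le.mpr fun a ha w _ => ?_
      induction ha using Submodule.span_induction with
      | zero => rw [zero_smul]; exact zero_mem _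
      | add a b _ _ ha hb => rw [add_smul]; exact add_mem ha hb
      | smul a x _ hx => rw [smul_assoc]; exact Submodule.smul_mem _ _ hx
      | mem x hx =>
        obtain ⟨i, hi, rfl⟩ := List.mem_take_iff_getElem.mp hx
        obtain ⟨⟨w0, s⟩, hw0⟩ := IsLocalizedModule.mk'_surjective m.primeCompl f w
        simp only [Function.uncurry_apply_pair] at hw0
        have hi' : i < r := by simp [ysm, ys] at hi; omega
        refine ⟨y ⟨i, hi'⟩ • w0, FreeBasis.smul_mem_Z y (by simp at hi ⊢; omega) w0, s, ?_⟩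
        rw [IsLocalizedModule.mk'_smul, hw0, ← algebraMap_smul Rm]
        simp [ysm, ys]
    obtain ⟨w, hw, s, hs⟩ := hle hfz
    rw [IsLocalizedModule.mk'_eq_iff] at hs
    obtain ⟨e, he⟩ := (IsLocalizedModule.eq_iff_exists m.primeCompl f).mp
      (show f w = f ((s : R) • z) by rw [hs, map_smul]; rfl)
    refine ⟨(e : R) * s, (e * s).2, ?_⟩
    rw [mul_smul]
    have : (e : R) • w = (e : R) • ((s : R) • z) := he
    rw [← this]
    exact Submodule.smul_mem _ _ hw
  -- descend to the components
  obtain ⟨a, ha⟩ := Submodule.mem_span_singleton.mp (h0.le (decompose 𝒜 u 0).2)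
  have ha0 : a ≠ 0 := by
    intro ha0
    refine hu ?_
    rw [← sum_support_decompose 𝒜 u]
    refine Ideal.sum_mem _ fun i _ => ?_
    rcases lt_trichotomy i 0 with h | h | h
    · rw [Sop.coe_decompose_neg 𝒜 hpos h u]; exact Ideal.zero_mem _
    · subst h; rw [← ha, ha0, zero_smul]; exact Ideal.zero_mem _
    · exact Ideal.subset_span ⟨i, h, (decompose 𝒜 u i).2⟩
  suffices h : ∀ n : ℤ, ((decompose ℳ z n : ℳ n) : M) ∈ Z y j.val (M := M) by
    rw [← sum_support_decompose ℳ z]
    exact Submodule.sum_mem _ fun n _ => h n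
  obtain ⟨b, hb⟩ : ∃ b : ℤ, ∀ n < b, ((decompose ℳ z n : ℳ n) : M) = 0 := by
    rcases (decompose ℳ z).support.eq_empty_or_nonempty with he | hne
    · exact ⟨0, fun n _ => by simpa using Finset.ext_iff.mp he n⟩
    · refine ⟨(decompose ℳ z).support.min' hne, fun n hn => ?_⟩
      by_contra hc
      exact absurd (Finset.min'_le _ n (DFinsupp.mem_support_iff.mpr (by simpa using hc))) (not_le.mpr hn)
  suffices h : ∀ (l : ℕ) (n : ℤ), n < b + l → ((decompose ℳ z n : ℳ n) : M) ∈ Z y j.val (M := M)
    from fun n => h (n - b + 1).toNat n (by omega)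
  intro l
  induction l with
  | zero => intro n hn; rw [hb n (by simpa using hn)]; exact zero_mem _
  | succ l ih =>
    intro n hn
    have h1 := FreeBasis.Z_component 𝒜 ℳ y hy huz n
    have h2 : ((decompose ℳ (u • z) n : ℳ n) : M) =
        ∑ i ∈ (decompose 𝒜 u).support, ((decompose 𝒜 u i : 𝒜 i) : R) •
          ((decompose ℳ z (n - i) : ℳ (n - i)) : M) := by
      conv_lhs => rw [← sum_support_decompose 𝒜 u, Finset.sum_smul, decompose_sum,
        DFinsupp.finsetSum_apply, AddSubgroup.val_finsetSum]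
      exact Finset.sum_congr rfl fun i _ =>
        FreeBasis.decompose_smul_shift 𝒜 ℳ (decompose 𝒜 u i).2 z n
    have h0m : (0 : ℤ) ∈ (decompose 𝒜 u).support := by
      rw [DFinsupp.mem_support_iff]
      intro h
      rw [h, ZeroMemClass.coe_zero, Algebra.smul_def, mul_one] at ha
      exact ha0 ((algebraMap k R).injective (by rw [ha, map_zero]))
    rw [h2, ← Finset.add_sum_erase _ _ h0m] at h1
    have h3 : ∑ i ∈ (decompose 𝒜 u).support.erase 0, ((decompose 𝒜 u i : 𝒜 i) : R) •
        ((decompose ℳ z (n - i) : ℳ (n - i)) : M) ∈ Z y j.val (M := M) := by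
      refine Submodule.sum_mem _ fun i hi => ?_
      rcases lt_trichotomy i 0 with h | h | h
      · rw [Sop.coe_decompose_neg 𝒜 hpos h u, zero_smul]; exact zero_mem _
      · exact absurd h (Finset.ne_of_mem_erase hi)
      · exact Submodule.smul_mem _ _ (ih (n - i) (by push_cast at hn; omega))
    have h4 := (Submodule.add_mem_iff_left _ h3).mp h1
    rw [sub_zero, ← ha, Algebra.smul_def, mul_one] at h4
    have h5 := Submodule.smul_mem _ (algebraMap k R a⁻¹) h4
    rwa [smul_smul, ← map_mul, inv_mul_cancel₀ ha0, map_one, one_smul] at h5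

variable [Module k M] [IsScalarTower k R M]

include ℳ in
/-- Homogeneous bases over a system of parameters, for modules of maximal depth. -/
theorem exists_basis_of_depth [Nontrivial M] (hpos : ∀ n : ℤ, n < 0 → 𝒜 n = ⊥)
    (h0 : 𝒜 0 = Submodule.span k {(1 : R)}) (hdep : (r : ℕ∞) ≤ idealDepth (irr 𝒜) M)
    (hD : 0 < D) (hy : ∀ i, y i ∈ 𝒜 D)
    (hint : ∀ a : R ⧸ Module.annihilator R M, IsIntegral
      (Algebra.adjoin k (Set.range fun i => Ideal.Quotient.mk (Module.annihilator R M) (y i))) a) :
    ∃ (ι : Type u) (_ : Fintype ι) (e : ι → ℤ) (b : ι → M), (∀ l, b l ∈ ℳ (e l)) ∧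
      LinearIndependent k (FreeBasis.vec (k := k) y b) ∧
      Submodule.span k (Set.range (FreeBasis.vec (k := k) y b)) = ⊤ := by
  classical
  haveI : IsNoetherianRing R := Algebra.FiniteType.isNoetherianRing k R
  obtain ⟨p, g, eg, hg, hge⟩ := Mod.exists_homogeneous_gens (R := R) ℳ
  -- a lower bound on the degrees
  obtain ⟨lo, hlo⟩ : ∃ lo : ℤ, ∀ i, lo ≤ eg i := by
    obtain ⟨lo, hlo⟩ := (Finset.univ.image eg).bddBelow
    exact ⟨lo, fun i => hlo (by simp)⟩
  have hlo' : ∀ n < lo, ℳ n = ⊥ := by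
    intro n hn
    rw [eq_bot_iff]
    intro x hx
    obtain ⟨c, hc⟩ := (Submodule.mem_span_range_iff_exists_fun R).mp
      (show x ∈ Submodule.span R (Set.range g) by rw [hg]; trivial)
    rw [AddSubgroup.mem_bot, ← decompose_of_mem_same ℳ hx, ← hc, decompose_sum,
      DFinsupp.finsetSum_apply, AddSubgroup.val_finsetSum]
    refine Finset.sum_eq_zero fun i _ => ?_
    conv_lhs => rw [← sum_support_decompose 𝒜 (c i), Finset.sum_smul, decompose_sum,
      DFinsupp.finsetSum_apply, AddSubgroup.val_finsetSum]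
    refine Finset.sum_eq_zero fun d _ => ?_
    have := hlo i
    rw [FreeBasis.decompose_smul_shift 𝒜 ℳ (decompose 𝒜 (c i) d).2]
    rcases lt_or_ge d 0 with h | h
    · rw [Sop.coe_decompose_neg 𝒜 hpos h, zero_smul]
    · rw [decompose_of_mem_ne ℳ (hge i) (by omega), smul_zero]
  -- a finite homogeneous spanning family modulo the parameters
  set Zr := Z y r (M := M)
  set J := Ideal.span (Set.range y) ⊔ Module.annihilator R M
  haveI := isIntegral_quotient y hint J
    (fun i => Ideal.mem_sup_left (Ideal.subset_span ⟨i, rfl⟩)) le_sup_right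
  haveI : Algebra.FiniteType k (R ⧸ J) :=
    Algebra.FiniteType.of_surjective (Ideal.Quotient.mkₐ k J) Ideal.Quotient.mk_surjective
  haveI : Module.Finite k (R ⧸ J) := Algebra.IsIntegral.finite
  obtain ⟨G, hG⟩ := (Module.finite_def.mp (inferInstance : Module.Finite k (R ⧸ J)))
  choose lift hlift using fun c : R ⧸ J => Ideal.Quotient.mk_surjective c
  let H : Finset (ℤ × M) := Finset.univ.biUnion fun i : Fin p => G.biUnion fun c =>
    (decompose 𝒜 (lift c)).support.image fun d =>
      (d + eg i, ((decompose 𝒜 (lift c) d : 𝒜 d) : R) • g i)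
  have hH : ∀ w ∈ H, w.2 ∈ ℳ w.1 := by
    intro w hw
    simp only [H, Finset.mem_biUnion, Finset.mem_image] at hw
    obtain ⟨i, -, c, -, d, -, rfl⟩ := hw
    exact SetLike.GradedSMul.smul_mem (decompose 𝒜 (lift c) d).2 (hge i)
  set S : Submodule k (M ⧸ Zr) := Submodule.span k
    (Set.range fun w : H => Submodule.Quotient.mk (p := Zr) w.1.2)
  have hJZ : ∀ a ∈ J, ∀ w : M, a • w ∈ Zr := by
    intro a ha w
    obtain ⟨a1, h1, a2, h2, rfl⟩ := Submodule.mem_sup.mp ha
    rw [add_smul, Module.mem_annihilator.mp h2 w, add_zero]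
    clear ha
    induction h1 using Submodule.span_induction with
    | zero => rw [zero_smul]; exact zero_mem _
    | add u v _ _ hu hv => rw [add_smul]; exact add_mem hu hv
    | smul c x _ hx => rw [smul_assoc]; exact Submodule.smul_mem _ _ hx
    | mem x hx => obtain ⟨i, rfl⟩ := hx; exact FreeBasis.smul_mem_Z y i.2 w
  have hS : S = ⊤ := by
    rw [eq_top_iff]
    rintro v -
    obtain ⟨v, rfl⟩ := Submodule.Quotient.mk_surjective _ v
    obtain ⟨a, ha⟩ := (Submodule.mem_span_range_iff_exists_fun R).mp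
      (show v ∈ Submodule.span R (Set.range g) by rw [hg]; trivial)
    rw [← ha, ← Submodule.mkQ_apply, map_sum]
    refine Submodule.sum_mem _ fun i _ => ?_
    obtain ⟨c, hc⟩ := (Submodule.mem_span_set').mp
      (show Ideal.Quotient.mk J (a i) ∈ Submodule.span k (G : Set (R ⧸ J)) by rw [hG]; trivial)
    obtain ⟨cs, cv, hcv⟩ := hc
    have hdiff : a i - ∑ t, cs t • lift (cv t) ∈ J := by
      rw [← Ideal.Quotient.eq_zero_iff_mem, map_sub, map_sum, sub_eq_zero]
      conv_lhs => rw [← hcv]
      refine Finset.sum_congr rfl fun t _ => ?_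
      rw [← Ideal.Quotient.mkₐ_eq_mk k, map_smul, Ideal.Quotient.mkₐ_eq_mk, hlift]
    have h2 := (Submodule.Quotient.mk_eq_zero Zr).mpr (hJZ _ hdiff (g i))
    rw [sub_smul, Submodule.Quotient.mk_sub, sub_eq_zero, Finset.sum_smul] at h2
    rw [Submodule.mkQ_apply, h2, ← Submodule.mkQ_apply, map_sum]
    refine Submodule.sum_mem _ fun t _ => ?_
    rw [smul_assoc, Submodule.mkQ_apply, Submodule.Quotient.mk_smul]
    refine S.smul_mem _ ?_
    rw [← sum_support_decompose 𝒜 (lift (cv t)), Finset.sum_smul, ← Submodule.mkQ_apply, map_sum]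
    refine Submodule.sum_mem _ fun d hd => Submodule.subset_span ?_
    refine ⟨⟨(d + eg i, ((decompose 𝒜 (lift (cv t).1) d : 𝒜 d) : R) • g i), ?_⟩, rfl⟩
    simp only [H, Finset.mem_biUnion, Finset.mem_image]
    exact ⟨i, Finset.mem_univ i, _, (cv t).2, d, hd, rfl⟩
  obtain ⟨B, hBsub, hBspan, hBind⟩ :=
    exists_linearIndependent k (Set.range fun w : H => Submodule.Quotient.mk (p := Zr) w.1.2)
  choose pre hpre using fun x : B => hBsub x.2
  haveI : Fintype B := ((Set.finite_range _).subset hBsub).fintype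
  let b : B → M := fun x => (pre x).1.2
  refine ⟨B, inferInstance, fun x => (pre x).1.1, b, fun x => hH _ (pre x).2, ?_⟩
  refine FreeBasis.vec_basis 𝒜 ℳ y hD hy (regular_of_depth 𝒜 ℳ y hpos h0 hdep hD hy hint)
    (fun x => (pre x).1.1) b (fun x => hH _ (pre x).2) lo hlo' ?_ ?_
  · intro c hc
    refine Fintype.linearIndependent_iff.mp hBind c ?_
    rw [← (Submodule.Quotient.mk_eq_zero Zr).mpr hc, ← Submodule.mkQ_apply, map_sum]
    refine Finset.sum_congr rfl fun x _ => ?_
    rw [Submodule.mkQ_apply, Submodule.Quotient.mk_smul]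
    exact congrArg _ (hpre x).symm
  · intro v
    obtain ⟨c, hc⟩ := (Submodule.mem_span_range_iff_exists_fun k).mp
      (show Submodule.Quotient.mk (p := Zr) v ∈ Submodule.span k
          (Set.range ((↑) : B → M ⧸ Zr)) by
        rw [Subtype.range_coe, hBspan]
        show _ ∈ S
        rw [hS]; trivial)
    refine ⟨c, ?_⟩
    rw [← Submodule.Quotient.mk_eq_zero, Submodule.Quotient.mk_sub, sub_eq_zero,
      ← Submodule.mkQ_apply _ (∑ l, _), map_sum, ← hc]
    refine Finset.sum_congr rfl fun x _ => ?_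
    rw [Submodule.mkQ_apply, Submodule.Quotient.mk_smul]
    exact congrArg _ (hpre x).symm

include ℳ in
/-- Homogeneous bases over a system of parameters. -/
theorem exists_basis (hpos : ∀ n : ℤ, n < 0 → 𝒜 n = ⊥)
    (h0 : 𝒜 0 = Submodule.span k {(1 : R)}) (hdim : Module.supportDim R M = r)
    (hcm : ∀ (q : Ideal R) [q.IsPrime], Subsingleton (LocalizedModule q.primeCompl M) ∨
      LocCoh.IsCohenMacaulayModule (Localization.AtPrime q) (LocalizedModule q.primeCompl M))
    (hD : 0 < D) (hy : ∀ i, y i ∈ 𝒜 D)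
    (hint : ∀ a : R ⧸ Module.annihilator R M, IsIntegral
      (Algebra.adjoin k (Set.range fun i => Ideal.Quotient.mk (Module.annihilator R M) (y i))) a) :
    ∃ (ι : Type u) (_ : Fintype ι) (e : ι → ℤ) (b : ι → M), (∀ l, b l ∈ ℳ (e l)) ∧
      LinearIndependent k (FreeBasis.vec (k := k) y b) ∧
      Submodule.span k (Set.range (FreeBasis.vec (k := k) y b)) = ⊤ := by
  classical
  haveI : IsNoetherianRing R := Algebra.FiniteType.isNoetherianRing k R
  haveI : Nontrivial M := by
    by_contra hc
    haveI := not_nontrivial_iff_subsingleton.mp hc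
    rw [Module.supportDim_eq_bot_of_subsingleton] at hdim
    exact WithBot.coe_ne_bot hdim.symm
  haveI : Nontrivial R := Module.nontrivial R M
  haveI := CMDim.irr_isMaximal 𝒜 hpos h0
  refine exists_basis_of_depth 𝒜 ℳ y hpos h0 ?_ hD hy hint
  rw [Local.idealDepth_eq_iInf]
  refine le_iInf₂ fun p hp => ?_
  obtain ⟨-, hdepth⟩ := depth_irr 𝒜 ℳ hpos h0 hdim hcm
  have : p = ⟨irr 𝒜, inferInstance⟩ := PrimeSpectrum.ext
    ((inferInstance : (irr 𝒜).IsMaximal).eq_of_le p.2.ne_top hp).symm
  subst this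
  exact hdepth.ge

end Groth.Agent.H84.Segre.CMBasis
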