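import Mathlib
import Groth.Prelude.Def_GrSeg
import Groth.Agent.H84.Segre.CMBasis
import Groth.Agent.H83.Segre.Basic

/-!
# Monomial bases of Segre products
-/

set_option autoImplicit false
set_option linter.style.haveILetI false
set_option linter.unusedSectionVars false

universe u

namespace Groth.Agent.H84.Segre.DiagBasis

open DirectSum TensorProduct
open Groth.Agent.H84.Segre.FreeBasis (vec wt)

section Params

variable {k : Type u} [Field k] {R : Type u} [CommRing R] [Algebra k R]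
  (𝒜 : ℤ → Submodule k R) [GradedAlgebra 𝒜] [Algebra.FiniteType k R]
  {M : Type u} [AddCommGroup M] [Module R M]
  (ℳ : ℤ → AddSubgroup M) [DirectSum.Decomposition ℳ] [SetLike.GradedSMul 𝒜 ℳ] [Module.Finite R M]

include ℳ in
/-- Homogeneous parameters for a module, as many as its dimension. -/
theorem exists_params (hpos : ∀ n : ℤ, n < 0 → 𝒜 n = ⊥)
    (h0 : 𝒜 0 = Submodule.span k {(1 : R)}) {r : ℕ} (hdim : Module.supportDim R M = r) :
    ∃ (d : ℕ) (x : Fin r → R), 0 < d ∧ (∀ i, x i ∈ 𝒜 d) ∧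
      ∀ e : ℕ, 0 < e → ∀ a : R ⧸ Module.annihilator R M, IsIntegral (Algebra.adjoin k
        (Set.range fun i => Ideal.Quotient.mk (Module.annihilator R M) (x i ^ e))) a := by
  classical
  haveI : IsNoetherianRing R := Algebra.FiniteType.isNoetherianRing k R
  set IR := Module.annihilator R M
  have hdR : ringKrullDim (R ⧸ IR) = (r : ℕ) := by
    rw [← Module.supportDim_eq_ringKrullDim_quotient_annihilator, hdim]
  have hIR : IR.IsHomogeneous 𝒜 := Mod.annihilator_isHomogeneous 𝒜 ℳ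
  letI := Quot.gradedAlgebra 𝒜 hIR
  haveI : Algebra.FiniteType k (R ⧸ IR) :=
    Algebra.FiniteType.of_surjective (Ideal.Quotient.mkₐ k IR) Ideal.Quotient.mk_surjective
  have hpos' : ∀ n : ℤ, n < 0 → Quot.quotDeg 𝒜 IR n = ⊥ := fun n hn => by
    rw [Quot.quotDeg, hpos n hn, Submodule.map_bot]
  have h0' : Quot.quotDeg 𝒜 IR 0 = Submodule.span k {1} := by
    rw [Quot.quotDeg, h0, Submodule.map_span, Set.image_singleton]; simp
  obtain ⟨m, d, x', hm, hd, hx', hx'p⟩ :=
    Sop.exists_common_degree (Quot.quotDeg 𝒜 IR) hpos' h0' hdR.le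
  choose x hx hxe using hx'
  have hpow : ∀ e : ℕ, 0 < e → Algebra.IsIntegral
      (Algebra.adjoin k (Set.range fun i => Ideal.Quotient.mk IR (x i ^ e))) (R ⧸ IR) := by
    intro e he
    have hxq : (fun i => Ideal.Quotient.mk IR (x i ^ e)) = fun i => x' i ^ e := funext fun i => by
      rw [map_pow, ← hxe i]; rfl
    refine Sop.isIntegral (Quot.quotDeg 𝒜 IR) hpos' h0' (Nat.mul_pos hd he)
      (fun i => Quot.mk_mem 𝒜 IR ?_) (hxq ▸ hx'p.pow _ fun _ => e)
    have := SetLike.pow_mem_graded e (hx i)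
    rwa [nsmul_eq_mul, ← Nat.cast_mul, mul_comm] at this
  obtain ⟨hmr, -⟩ := Sop.algebraicIndependent (hpow 1 one_pos) hdR hm
  subst hmr
  exact ⟨d, x, hd, hx, fun e he a => (hpow e he).isIntegral a⟩

end Params

section Vec

variable {k : Type u} [Field k] {R : Type u} [CommRing R] [Algebra k R]
  {M : Type u} [AddCommGroup M] [Module R M] [Module k M] [IsScalarTower k R M]
  {r : ℕ} (y : Fin r → R) {ι : Type u} (b : ι → M)

theorem monomial_smul_vec (γ : Fin r →₀ ℕ) (p : ι × (Fin r →₀ ℕ)) :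
    MvPolynomial.aeval (R := k) y (MvPolynomial.monomial γ (1 : k)) • vec (k := k) y b p =
      vec (k := k) y b (p.1, γ + p.2) := by
  rw [vec, vec, ← mul_smul, ← map_mul, MvPolynomial.monomial_mul, one_mul]

theorem smul_vec (i : Fin r) (p : ι × (Fin r →₀ ℕ)) :
    y i • vec (k := k) y b p = vec (k := k) y b (p.1, Finsupp.single i 1 + p.2) := by
  rw [← monomial_smul_vec, ← MvPolynomial.X, MvPolynomial.aeval_X]

theorem vec_zero (l : ι) : vec (k := k) y b (l, 0) = b l := by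
  simp [vec]

variable (𝒜 : ℤ → Submodule k R) [GradedAlgebra 𝒜]
  (ℳ : ℤ → AddSubgroup M) [DirectSum.Decomposition ℳ] [SetLike.GradedSMul 𝒜 ℳ]

/-- The degree of a basis vector. -/
def deg (D : ℕ) (e : ι → ℤ) (p : ι × (Fin r →₀ ℕ)) : ℤ := e p.1 + wt D p.2

include 𝒜 in
theorem vec_mem {D : ℕ} (hy : ∀ i, y i ∈ 𝒜 D) {e : ι → ℤ} (he : ∀ l, b l ∈ ℳ (e l))
    (p : ι × (Fin r →₀ ℕ)) : vec (k := k) y b p ∈ ℳ (deg D e p) := by
  rw [deg, add_comm]
  exact SetLike.GradedSMul.smul_mem (FreeBasis.monomial_mem 𝒜 y hy p.2) (he p.1)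

include 𝒜 in
theorem mem_span_vec {D : ℕ} (hy : ∀ i, y i ∈ 𝒜 D) {e : ι → ℤ} (he : ∀ l, b l ∈ ℳ (e l))
    (hsp : Submodule.span k (Set.range (vec (k := k) y b)) = ⊤) {n : ℤ} {m : M} (hm : m ∈ ℳ n) :
    m ∈ Submodule.span k (vec (k := k) y b '' {p | deg D e p = n}) := by
  classical
  obtain ⟨c, hc⟩ := Finsupp.mem_span_range_iff_exists_finsupp.mp
    (show m ∈ Submodule.span k (Set.range (vec (k := k) y b)) by rw [hsp]; trivial)
  rw [← decompose_of_mem_same ℳ hm, ← hc, Finsupp.sum, decompose_sum,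
    DFinsupp.finsetSum_apply, AddSubgroup.val_finsetSum]
  refine Submodule.sum_mem _ fun p _ => ?_
  have hmem : c p • vec (k := k) y b p ∈ ℳ (deg D e p) := by
    rw [← algebraMap_smul R]
    simpa using SetLike.GradedSMul.smul_mem (A := 𝒜) (B := ℳ)
      (SetLike.algebraMap_mem_graded 𝒜 (c p)) (vec_mem y b 𝒜 ℳ hy he p)
  by_cases h : deg D e p = n
  · rw [decompose_of_mem_same ℳ (h ▸ hmem)]
    exact Submodule.smul_mem _ _ (Submodule.subset_span ⟨p, h, rfl⟩)
  · rw [decompose_of_mem_ne ℳ hmem h]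
    exact zero_mem _

end Vec

/-- The data of a Segre product with a one-dimensional first factor. -/
structure Setup (k : Type u) [Field k] (R : Type u) [CommRing R] [Algebra k R]
    (𝒜 : ℤ → Submodule k R) [GradedAlgebra 𝒜]
    (S : Type u) [CommRing S] [Algebra k S] (ℬ : ℤ → Submodule k S) [GradedAlgebra ℬ]
    (T : Type u) [CommRing T] [Algebra k T] (𝒯 : ℤ → Submodule k T) [GradedAlgebra 𝒯]
    (ψ : T →ₐ[k] R ⊗[k] S)
    (M : Type u) [AddCommGroup M] [Module R M] [Module k M] [IsScalarTower k R M]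
    (ℳ : ℤ → AddSubgroup M)
    (N : Type u) [AddCommGroup N] [Module S N] [Module k N] [IsScalarTower k S N]
    (𝒩 : ℤ → AddSubgroup N) (s : ℕ) where
  /-- the common degree of the parameters -/
  D : ℕ
  hD : 0 < D
  /-- the parameter of `M` -/
  x : Fin 1 → R
  hx : ∀ i, x i ∈ 𝒜 D
  /-- the parameters of `N` -/
  y : Fin s → S
  hy : ∀ i, y i ∈ ℬ D
  L : Type u
  [finL : Fintype L]
  e : L → ℤ
  a : L → M
  ha : ∀ l, a l ∈ ℳ (e l)
  hMli : LinearIndependent k (vec (k := k) x a)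
  hMsp : Submodule.span k (Set.range (vec (k := k) x a)) = ⊤
  Q : Type u
  [finQ : Fintype Q]
  g : Q → ℤ
  b : Q → N
  hb : ∀ q, b q ∈ 𝒩 (g q)
  hNli : LinearIndependent k (vec (k := k) y b)
  hNsp : Submodule.span k (Set.range (vec (k := k) y b)) = ⊤
  /-- the elements `x ⊗ y_i` of the Segre product -/
  z : Fin s → T
  hz : ∀ i, z i ∈ 𝒯 D
  hψz : ∀ i, ψ (z i) = x 0 ⊗ₜ[k] y i

attribute [instance] Setup.finL Setup.finQ

variable {k : Type u} [Field k] {R : Type u} [CommRing R] [Algebra k R]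
  {𝒜 : ℤ → Submodule k R} [GradedAlgebra 𝒜]
  {S : Type u} [CommRing S] [Algebra k S] {ℬ : ℤ → Submodule k S} [GradedAlgebra ℬ]
  {T : Type u} [CommRing T] [Algebra k T] {𝒯 : ℤ → Submodule k T} [GradedAlgebra 𝒯]
  {ψ : T →ₐ[k] R ⊗[k] S}
  {M : Type u} [AddCommGroup M] [Module R M] [Module k M] [IsScalarTower k R M]
  {ℳ : ℤ → AddSubgroup M} [DirectSum.Decomposition ℳ] [SetLike.GradedSMul 𝒜 ℳ]
  {N : Type u} [AddCommGroup N] [Module S N] [Module k N] [IsScalarTower k S N]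
  {𝒩 : ℤ → AddSubgroup N} [DirectSum.Decomposition 𝒩] [SetLike.GradedSMul ℬ 𝒩]

theorem exists_setup [Algebra.FiniteType k R] [Module.Finite R M] [Algebra.FiniteType k S]
    [Module.Finite S N]
    (hposR : ∀ n : ℤ, n < 0 → 𝒜 n = ⊥) (h0R : 𝒜 0 = Submodule.span k {(1 : R)})
    (hposS : ∀ n : ℤ, n < 0 → ℬ n = ⊥) (h0S : ℬ 0 = Submodule.span k {(1 : S)})
    (hT : GrSeg.IsSegreRing 𝒜 ℬ 𝒯 ψ) {s : ℕ}
    (hdM : Module.supportDim R M = 1) (hdN : Module.supportDim S N = s)
    (hMcm : ∀ (q : Ideal R) [q.IsPrime], Subsingleton (LocalizedModule q.primeCompl M) ∨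
      LocCoh.IsCohenMacaulayModule (Localization.AtPrime q) (LocalizedModule q.primeCompl M))
    (hNcm : ∀ (q : Ideal S) [q.IsPrime], Subsingleton (LocalizedModule q.primeCompl N) ∨
      LocCoh.IsCohenMacaulayModule (Localization.AtPrime q) (LocalizedModule q.primeCompl N)) :
    Nonempty (Setup k R 𝒜 S ℬ T 𝒯 ψ M ℳ N 𝒩 s) := by
  classical
  have hdM' : Module.supportDim R M = ((1 : ℕ) : WithBot ℕ∞) := by rw [hdM, Nat.cast_one]
  obtain ⟨d1, x0, hd1, hx0, hxi⟩ := exists_params 𝒜 ℳ hposR h0R hdM'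
  obtain ⟨d2, y0, hd2, hy0, hyi⟩ := exists_params ℬ 𝒩 hposS h0S hdN
  have hD : 0 < d1 * d2 := Nat.mul_pos hd1 hd2
  let x : Fin 1 → R := fun i => x0 i ^ d2
  let y : Fin s → S := fun i => y0 i ^ d1
  have hx : ∀ i, x i ∈ 𝒜 ((d1 * d2 : ℕ) : ℤ) := fun i => by
    have := SetLike.pow_mem_graded d2 (hx0 i)
    rwa [nsmul_eq_mul, ← Nat.cast_mul, mul_comm] at this
  have hy : ∀ i, y i ∈ ℬ ((d1 * d2 : ℕ) : ℤ) := fun i => by
    have := SetLike.pow_mem_graded d1 (hy0 i)
    rwa [nsmul_eq_mul, ← Nat.cast_mul] at this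
  obtain ⟨L, hL, e, a, ha, hMli, hMsp⟩ :=
    CMBasis.exists_basis 𝒜 ℳ x hposR h0R hdM' hMcm hD hx (hxi d2 hd2)
  obtain ⟨Q, hQ, g, b, hb, hNli, hNsp⟩ :=
    CMBasis.exists_basis ℬ 𝒩 y hposS h0S hdN hNcm hD hy (hyi d1 hd1)
  choose z hz hψz using fun i => H83.Segre.exists_ring_elem hT
    (H83.Segre.tmul_mem_segrePiece (k := k) (hx 0) (hy i))
  exact ⟨{ D := d1 * d2, hD := hD, x := x, hx := hx, y := y, hy := hy, L := L, e := e, a := a,
           ha := ha, hMli := hMli, hMsp := hMsp, Q := Q, g := g, b := b, hb := hb, hNli := hNli,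
           hNsp := hNsp, z := z, hz := hz, hψz := hψz }⟩

namespace Setup

variable {s : ℕ} (X : Setup k R 𝒜 S ℬ T 𝒯 ψ M ℳ N 𝒩 s)

/-- Indices of the basis of `M ⊗ N`. -/
abbrev Idx : Type u := (X.L × (Fin 1 →₀ ℕ)) × (X.Q × (Fin s →₀ ℕ))

/-- The basis of `M ⊗ N`. -/
noncomputable def β : Module.Basis X.Idx k (M ⊗[k] N) :=
  (Module.Basis.mk X.hMli X.hMsp.ge).tensorProduct (Module.Basis.mk X.hNli X.hNsp.ge)

theorem β_apply (p : X.Idx) :
    X.β p = vec (k := k) X.x X.a p.1 ⊗ₜ[k] vec (k := k) X.y X.b p.2 := by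
  simp [β, Module.Basis.tensorProduct_apply']

/-- The diagonal indices of degree `n`. -/
def IdxAt (n : ℤ) : Set X.Idx :=
  {p | deg X.D X.e p.1 = n ∧ deg X.D X.g p.2 = n}

theorem segrePiece_eq (n : ℤ) :
    GrSeg.segrePiece k ℳ 𝒩 n = Submodule.span k (X.β '' X.IdxAt n) := by
  refine le_antisymm (Submodule.span_le.mpr ?_) (Submodule.span_le.mpr ?_)
  · rintro _ ⟨m, hm, w, hw, rfl⟩
    have h1 := mem_span_vec X.x X.a 𝒜 ℳ X.hx X.ha X.hMsp hm
    have h2 := mem_span_vec X.y X.b ℬ 𝒩 X.hy X.hb X.hNsp hw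
    clear hm hw
    induction h1 using Submodule.span_induction with
    | zero => rw [zero_tmul]; exact zero_mem _
    | add u v _ _ hu hv => rw [add_tmul]; exact add_mem hu hv
    | smul c u _ hu => rw [← smul_tmul']; exact Submodule.smul_mem _ c hu
    | mem u hu =>
      obtain ⟨p, hp, rfl⟩ := hu
      induction h2 using Submodule.span_induction with
      | zero => rw [tmul_zero]; exact zero_mem _
      | add v w _ _ hv hw => rw [tmul_add]; exact add_mem hv hw
      | smul c v _ hv => rw [tmul_smul]; exact Submodule.smul_mem _ c hv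
      | mem v hv =>
        obtain ⟨p', hp', rfl⟩ := hv
        exact Submodule.subset_span ⟨(p, p'), ⟨hp, hp'⟩, X.β_apply _⟩
  · rintro _ ⟨p, hp, rfl⟩
    rw [X.β_apply]
    exact Submodule.subset_span ⟨_, hp.1 ▸ vec_mem X.x X.a 𝒜 ℳ X.hx X.ha p.1, _,
      hp.2 ▸ vec_mem X.y X.b ℬ 𝒩 X.hy X.hb p.2, rfl⟩

/-- Diagonal indices. -/
abbrev Diag : Type u := {p : X.Idx // deg X.D X.e p.1 = deg X.D X.g p.2}

variable {P : Type u} [AddCommGroup P] [Module T P] [Module k P] [IsScalarTower k T P]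
  {𝒬 : ℤ → AddSubgroup P} [DirectSum.Decomposition 𝒬] {φ : P →ₗ[k] M ⊗[k] N}

theorem exists_vp (hP : GrSeg.IsSegreMod ψ ℳ 𝒩 𝒬 φ) :
    ∃ vp : Module.Basis X.Diag k P, ∀ p : X.Diag, φ (vp p) = X.β p.1 := by
  classical
  have hmem : ∀ p : X.Diag, ∃ v : P, φ v = X.β p.1 := by
    intro p
    obtain ⟨v, -, hv⟩ := H83.Segre.exists_mod_elem hP (w := X.β p.1) (n := deg X.D X.e p.1.1) (by
      rw [X.segrePiece_eq]
      exact Submodule.subset_span ⟨p.1, ⟨rfl, p.2.symm⟩, rfl⟩)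
    exact ⟨v, hv⟩
  choose v hv using hmem
  have hli : LinearIndependent k v := by
    refine LinearIndependent.of_comp φ ?_
    have : φ ∘ v = X.β ∘ Subtype.val := funext hv
    rw [this]
    exact X.β.linearIndependent.comp _ Subtype.val_injective
  have hsp : ⊤ ≤ Submodule.span k (Set.range v) := by
    intro w hw
    clear hw
    induction w using DirectSum.Decomposition.inductionOn 𝒬 with
    | zero => exact zero_mem _
    | add u u' hu hu' => exact add_mem hu hu'
    | @homogeneous n u =>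
      have h := H83.Segre.mod_mem_segre hP u.2
      rw [X.segrePiece_eq] at h
      have h2 : φ (u : P) ∈ (Submodule.span k (Set.range v)).map φ := by
        refine Submodule.span_le.mpr ?_ h
        rintro _ ⟨p, hp, rfl⟩
        exact ⟨v ⟨p, hp.1.trans hp.2.symm⟩, Submodule.subset_span ⟨_, rfl⟩, hv _⟩
      obtain ⟨w, hw, he⟩ := h2
      exact hP.injective he ▸ hw
  exact ⟨Module.Basis.mk hli hsp, fun p => by rw [Module.Basis.mk_apply, hv]⟩

/-- The action of the monomial algebra on the basis. -/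
theorem act_monomial (γ : Fin s →₀ ℕ) (p : X.Idx) :
    GrSeg.act k R S M N (ψ (MvPolynomial.aeval (R := k) X.z (MvPolynomial.monomial γ (1 : k)))) (X.β p) =
      X.β ((p.1.1, Finsupp.single 0 (∑ i, γ i) + p.1.2), (p.2.1, γ + p.2.2)) := by
  induction γ using Finsupp.induction_linear generalizing p with
  | zero => simp [Mod.act_one]
  | add γ δ hγ hδ =>
    rw [← one_mul (1 : k), ← MvPolynomial.monomial_mul, map_mul, map_mul, Mod.act_mul, hδ, hγ]
    congr 1
    simp only [Finsupp.add_apply, Finset.sum_add_distrib, Finsupp.single_add, add_assoc]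
  | single i n =>
    induction n generalizing p with
    | zero => simp [Mod.act_one]
    | succ n ih =>
      rw [Finsupp.single_add, ← one_mul (1 : k), ← MvPolynomial.monomial_mul, map_mul, map_mul,
        Mod.act_mul, show MvPolynomial.monomial (Finsupp.single i 1) (1 : k) = MvPolynomial.X i
          from rfl, MvPolynomial.aeval_X, X.hψz, X.β_apply p, GrSeg.act_tmul, smul_vec, smul_vec,
        ← X.β_apply ((p.1.1, Finsupp.single 0 1 + p.1.2), (p.2.1, Finsupp.single i 1 + p.2.2)), ih]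
      congr 1
      simp only [Finsupp.add_apply, Finset.sum_add_distrib, Finsupp.single_add, add_assoc]
      congr 2
      simp [Finsupp.single_apply]

end Setup

end Groth.Agent.H84.Segre.DiagBasis
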