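import Mathlib
import Groth.Prelude.Def_CAlg
import Groth.Agent.Lib.Depth.CM
import Groth.Agent.Lib.Depth.Local

/-!
# A module which is finite free over a Cohen-Macaulay subring is Cohen-Macaulay
-/

set_option autoImplicit false
set_option linter.style.haveILetI false

universe u

namespace Groth.Agent.H84.Segre.FreeCM

open RingTheory.Sequence IsLocalRing TensorProduct
open Groth.Agent.Lib.Depth LocCoh

/-- A weakly regular sequence stays weakly regular on a flat module. -/
theorem isWeaklyRegular_flat {A : Type u} [CommRing A] {P : Type u} [AddCommGroup P] [Module A P]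
    [Module.Flat A P] {rs : List A} (h : IsWeaklyRegular A rs) : IsWeaklyRegular P rs := by
  refine ⟨fun i hi => ?_⟩
  set J := Ideal.ofList (rs.take i)
  have h1 : IsSMulRegular (A ⧸ J) rs[i] := by
    have hJ : (J • ⊤ : Submodule A A) = J := by simp
    exact ((Submodule.quotEquivOfEq _ _ hJ).isSMulRegular_congr _).mp (h.regular_mod_prev i hi)
  have h2 : IsSMulRegular ((A ⧸ J) ⊗[A] P) rs[i] := IsSMulRegular.rTensor (M' := A ⧸ J) (M := P) h1
  exact ((TensorProduct.quotTensorEquivQuotSMul P J).isSMulRegular_congr _).mp h2

variable {A : Type u} [CommRing A] {T : Type u} [CommRing T] [Algebra A T]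
  {P : Type u} [AddCommGroup P] [Module T P] [Module A P] [IsScalarTower A T P]

/-- Primes of the support contract injectively. -/
theorem under_lt_under [Module.Finite A P] {Q Q' : Ideal T} [Q.IsPrime]
    (hQ : Module.annihilator T P ≤ Q) (hlt : Q < Q') : Q.under A < Q'.under A := by
  obtain ⟨x, hx', hx⟩ := SetLike.exists_of_lt hlt
  obtain ⟨p, hp, hp0⟩ :=
    LinearMap.exists_monic_and_aeval_eq_zero A (Algebra.lsmul A A P x : Module.End A P)
  replace hp0 : Algebra.lsmul A A P (Polynomial.aeval x p) = (0 : Module.End A P) :=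
    (Polynomial.aeval_algHom_apply (Algebra.lsmul A A P) x p).symm.trans hp0
  have hann : Polynomial.eval₂ (algebraMap A T) x p ∈ Module.annihilator T P :=
    Module.mem_annihilator.mpr fun v => by
      have := congrArg (fun f : Module.End A P => f v) hp0
      exact this
  haveI : (Q.comap (algebraMap A T)).IsPrime := Ideal.IsPrime.comap _
  refine Ideal.comap_lt_comap_of_root_mem_sdiff hlt.le ⟨hx', hx⟩ ?_ (hQ hann)
  exact (hp.map _).ne_zero

variable [IsNoetherianRing T] [Module.Finite T P]

/-- The main criterion. -/
theorem cm [LocCoh.IsCohenMacaulayRing A] [Module.Flat A P] [Module.Finite A P]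
    (q : Ideal T) [q.IsPrime] :
    Subsingleton (LocalizedModule q.primeCompl P) ∨
      LocCoh.IsCohenMacaulayModule (Localization.AtPrime q) (LocalizedModule q.primeCompl P) := by
  classical
  by_cases hq : (⟨q, ‹_›⟩ : PrimeSpectrum T) ∈ Module.support T P
  swap
  · exact Or.inl (Module.notMem_support_iff.mp hq)
  right
  set Tq := Localization.AtPrime q
  set Pq := LocalizedModule q.primeCompl P
  haveI : Nontrivial Pq := Module.mem_support_iff.mp hq
  haveI : IsNoetherianRing Tq := IsLocalization.isNoetherianRing q.primeCompl _ inferInstance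
  haveI : Module.Finite Tq Pq := Module.Finite.of_isLocalizedModule q.primeCompl
    (LocalizedModule.mkLinearMap q.primeCompl P)
  refine CM.isCohenMacaulayModule_iff_le.mpr ?_
  set p := q.under A
  haveI hpp : p.IsPrime := Ideal.IsPrime.under A q
  -- the height of the contraction bounds the dimension
  have hdim : Module.supportDim Tq Pq ≤ (p.height : WithBot ℕ∞) := by
    rw [← IsLocalization.AtPrime.ringKrullDim_eq_height p (Localization.AtPrime p)]
    have hmem : ∀ Q : Module.support Tq Pq, Module.annihilator T P ≤
        Q.1.asIdeal.comap (algebraMap T Tq) := by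
      intro Q t ht
      refine Module.annihilator_le_of_mem_support Q.2 (Module.mem_annihilator.mpr fun z => ?_)
      induction z using LocalizedModule.induction_on with
      | h m s =>
        rw [algebraMap_smul, LocalizedModule.smul'_mk, Module.mem_annihilator.mp ht m,
          LocalizedModule.zero_mk]
    have hle : ∀ Q : PrimeSpectrum Tq, (Q.asIdeal.comap (algebraMap T Tq)).under A ≤ p := by
      intro Q
      refine Ideal.comap_mono ?_
      calc Q.asIdeal.comap (algebraMap T Tq) ≤ (maximalIdeal Tq).comap (algebraMap T Tq) :=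
            Ideal.comap_mono (le_maximalIdeal Q.2.ne_top)
        _ = q := IsLocalization.AtPrime.under_maximalIdeal Tq q
    let e := IsLocalization.AtPrime.primeSpectrumOrderIso (Localization.AtPrime p) p
    refine Order.krullDim_le_of_strictMono (fun Q : Module.support Tq Pq => e.symm
      ⟨⟨(Q.1.asIdeal.comap (algebraMap T Tq)).under A, inferInstance⟩, hle Q.1⟩) ?_
    intro Q Q' h
    refine e.symm.strictMono ?_
    refine under_lt_under (hmem Q) ?_
    exact (IsLocalization.orderEmbedding q.primeCompl Tq).strictMono
      (show Q.1.asIdeal < Q'.1.asIdeal from h)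
  refine hdim.trans (WithBot.coe_le_coe.mpr ?_)
  -- a regular sequence of that length
  have hA : p.height ≤ idealDepth p A := by
    rw [Local.idealDepth_eq_iInf]
    refine le_iInf₂ fun p' hp' => ?_
    haveI := LocCoh.IsCohenMacaulayRing.isCohenMacaulayLocalRing_localization p'.asIdeal
    have h1 := CM.ringKrullDim_eq_depth (R := Localization.AtPrime p'.asIdeal)
    rw [IsLocalization.AtPrime.ringKrullDim_eq_height p'.asIdeal] at h1
    rw [depth, Basic.idealDepth_congr _ (LinearEquiv.refl _ _ :
      LocalizedModule p'.asIdeal.primeCompl A ≃ₗ[Localization.AtPrime p'.asIdeal]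
        Localization.AtPrime p'.asIdeal)]
    exact (Ideal.height_mono hp').trans (WithBot.coe_le_coe.mp h1.le)
  obtain ⟨n, hn⟩ := ENat.ne_top_iff_exists.mp (Ideal.height_ne_top hpp.ne_top)
  have hptop : p • (⊤ : Submodule A A) ≠ ⊤ := by simpa using hpp.ne_top
  obtain ⟨rs, hl, hmem, hreg⟩ :=
    (Basic.le_idealDepth_iff_of_ne_top hptop n).mp (hn.le.trans hA)
  have hP : IsWeaklyRegular P (rs.map (algebraMap A T)) :=
    (isWeaklyRegular_map_algebraMap_iff T P rs).mpr (isWeaklyRegular_flat hreg)
  have hQ : IsWeaklyRegular Pq ((rs.map (algebraMap A T)).map (algebraMap T Tq)) :=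
    hP.of_isLocalizedModule Tq q.primeCompl (LocalizedModule.mkLinearMap q.primeCompl P)
  rw [← hn, ← hl, show rs.length = ((rs.map (algebraMap A T)).map (algebraMap T Tq)).length by simp]
  refine Basic.length_le_idealDepth hQ ?_
  simp only [List.mem_map]
  rintro _ ⟨_, ⟨a, ha, rfl⟩, rfl⟩
  exact (IsLocalization.AtPrime.to_map_mem_maximal_iff Tq q _).mpr (hmem a ha)

end Groth.Agent.H84.Segre.FreeCM
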