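import Mathlib
import Groth.Prelude.Def_GrSeg
import Groth.Agent.H84.Segre.DiagBasis
import Groth.Agent.H84.Segre.FreeCM
import Groth.Agent.H84.Segre.Dim1
import Groth.Agent.H83.Elem.SegreNoeth
import Groth.Agent.H18.CMPoly
import Groth.Agent.S18646
import Groth.Agent.S19747

/-!
# Segre products with a one-dimensional Cohen-Macaulay factor
-/

set_option autoImplicit false
set_option linter.style.haveILetI false
set_option linter.unusedSectionVars false

universe u

namespace Groth.Agent.H84.Segre.DimOne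

open DirectSum TensorProduct
open scoped Pointwise
open Groth.Agent.Lib.Depth LocCoh IsLocalRing
open Groth.Agent.H84.Segre.DiagBasis (Setup deg)
open Groth.Agent.H84.Segre.FreeBasis (vec wt)
open Groth.Agent.H84.Segre.CMDim (irr)

variable {k : Type u} [Field k] {R : Type u} [CommRing R] [Algebra k R]
  {𝒜 : ℤ → Submodule k R} [GradedAlgebra 𝒜]
  {S : Type u} [CommRing S] [Algebra k S] {ℬ : ℤ → Submodule k S} [GradedAlgebra ℬ]
  {T : Type u} [CommRing T] [Algebra k T] {𝒯 : ℤ → Submodule k T} [GradedAlgebra 𝒯]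
  {ψ : T →ₐ[k] R ⊗[k] S}
  {M : Type u} [AddCommGroup M] [Module R M] [Module k M] [IsScalarTower k R M]
  {ℳ : ℤ → AddSubgroup M} [DirectSum.Decomposition ℳ] [SetLike.GradedSMul 𝒜 ℳ]
  {N : Type u} [AddCommGroup N] [Module S N] [Module k N] [IsScalarTower k S N]
  {𝒩 : ℤ → AddSubgroup N} [DirectSum.Decomposition 𝒩] [SetLike.GradedSMul ℬ 𝒩]
  {P : Type u} [AddCommGroup P] [Module T P] [Module k P] [IsScalarTower k T P]
  {𝒬 : ℤ → AddSubgroup P} [DirectSum.Decomposition 𝒬] {φ : P →ₗ[k] M ⊗[k] N}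

/-- The degree condition: congruent generators have ordered degrees. -/
def Good {s : ℕ} (X : Setup k R 𝒜 S ℬ T 𝒯 ψ M ℳ N 𝒩 s) : Prop :=
  ∀ l q, (X.D : ℤ) ∣ X.g q - X.e l → X.e l ≤ X.g q

theorem wt_fin_one (D : ℕ) (α : Fin 1 →₀ ℕ) : wt D α = (α 0 : ℤ) * D := by
  simp [wt]

/-- Under the degree condition the Segre product is free over `k[z]`, hence Cohen-Macaulay. -/
theorem cm_of_good [IsNoetherianRing T] [Module.Finite T P] {s : ℕ} (hs : 1 ≤ s)
    (X : Setup k R 𝒜 S ℬ T 𝒯 ψ M ℳ N 𝒩 s) (hP : GrSeg.IsSegreMod ψ ℳ 𝒩 𝒬 φ)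
    (hgood : Good X ∨ s = 1) (p : Ideal T) [p.IsPrime] :
    Subsingleton (LocalizedModule p.primeCompl P) ∨
      LocCoh.IsCohenMacaulayModule (Localization.AtPrime p) (LocalizedModule p.primeCompl P) := by
  classical
  obtain ⟨vp, hvp⟩ := X.exists_vp hP
  let i0 : Fin s := ⟨0, hs⟩
  let Gen : Type u := {c : X.L × X.Q // (X.D : ℤ) ∣ X.g c.2 - X.e c.1}
  let α0 : Gen → ℕ := fun c => ((X.g c.1.2 - X.e c.1.1) / X.D).toNat
  let γ0 : Gen → ℕ := fun c => ((X.e c.1.1 - X.g c.1.2) / X.D).toNat
  have hdiv : ∀ c : Gen, ((α0 c : ℤ) - γ0 c) * X.D = X.g c.1.2 - X.e c.1.1 := by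
    intro c
    obtain ⟨m, hm⟩ := c.2
    have h1 : (X.g c.1.2 - X.e c.1.1) / (X.D : ℤ) = m := by
      rw [hm, Int.mul_ediv_cancel_left _ (by have := X.hD; omega)]
    have h2 : (X.e c.1.1 - X.g c.1.2) / (X.D : ℤ) = -m := by
      rw [← neg_sub, hm, ← mul_neg, Int.mul_ediv_cancel_left _ (by have := X.hD; omega)]
    simp only [α0, γ0, h1, h2]
    rw [show ((m.toNat : ℤ) - ((-m).toNat : ℤ)) = m by omega, hm, mul_comm]
  have hsum : ∀ (n : ℕ) (δ : Fin s →₀ ℕ),
      ∑ i, (Finsupp.single i0 n + δ) i = n + ∑ i, δ i := by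
    intro n δ
    simp [Finset.sum_add_distrib, Finsupp.single_apply]
  let σ : Gen × (Fin s →₀ ℕ) → X.Diag := fun c =>
    ⟨((c.1.1.1, Finsupp.single 0 (α0 c.1 + ∑ i, c.2 i)),
      (c.1.1.2, Finsupp.single i0 (γ0 c.1) + c.2)), by
      show deg X.D X.e _ = deg X.D X.g _
      rw [deg, deg, wt_fin_one]
      simp only [wt, hsum, Finsupp.single_eq_same]
      have := hdiv c.1
      push_cast
      linear_combination this⟩
  have hσ : Function.Bijective σ := by
    constructor
    · rintro ⟨c, δ⟩ ⟨c', δ'⟩ h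
      simp only [σ, Subtype.mk.injEq, Prod.mk.injEq] at h
      obtain ⟨⟨hl, -⟩, hq, hδ⟩ := h
      obtain rfl : c = c' := Subtype.ext (Prod.ext hl hq)
      exact Prod.ext rfl (add_left_cancel hδ)
    · rintro ⟨⟨⟨l, α⟩, ⟨q, γ⟩⟩, h⟩
      have h' : X.e l + (α 0 : ℤ) * X.D = X.g q + ((∑ i, γ i : ℕ) : ℤ) * X.D := by
        have h2 : deg X.D X.e (l, α) = deg X.D X.g (q, γ) := h
        rwa [deg, deg, wt_fin_one] at h2
      have hd : (X.D : ℤ) ∣ X.g q - X.e l :=
        ⟨(α 0 : ℤ) - ((∑ i, γ i : ℕ) : ℤ), by linear_combination -h'⟩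
      set c : Gen := ⟨(l, q), hd⟩
      have hc := hdiv c
      have hD0 : (X.D : ℤ) ≠ 0 := by have := X.hD; omega
      have he : (α0 c : ℤ) - γ0 c = (α 0 : ℤ) - ((∑ i, γ i : ℕ) : ℤ) := by
        refine mul_right_cancel₀ hD0 (hc.trans ?_)
        show X.g q - X.e l = _
        linear_combination -h'
      have hor : α0 c = 0 ∨ γ0 c = 0 := by
        simp only [α0, γ0]
        obtain ⟨m, hm⟩ := c.2
        rw [← neg_sub (X.g c.1.2), hm, ← mul_neg, Int.mul_ediv_cancel_left _ hD0,
          Int.mul_ediv_cancel_left _ hD0]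
        omega
      have hle : Finsupp.single i0 (γ0 c) ≤ γ := by
        rw [Finsupp.single_le_iff]
        rcases hgood with hg | h1
        · have hzero : γ0 c = 0 := by
            have hq := hg l q hd
            simp only [γ0]
            rw [Int.toNat_eq_zero]
            exact Int.ediv_nonpos_of_nonpos_of_neg (by show X.e l - X.g q ≤ 0; omega)
              (by positivity)
          omega
        · subst h1
          have : ∑ i, γ i = γ i0 := by simp [Subsingleton.elim i0 0]
          omega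
      refine ⟨(c, γ - Finsupp.single i0 (γ0 c)), Subtype.ext ?_⟩
      have hs2 : γ0 c + ∑ i, (γ - Finsupp.single i0 (γ0 c)) i = ∑ i, γ i := by
        rw [← hsum, add_tsub_cancel_of_le hle]
      simp only [σ, Prod.mk.injEq]
      refine ⟨⟨rfl, ?_⟩, rfl, add_tsub_cancel_of_le hle⟩
      refine Finsupp.ext fun i => ?_
      obtain rfl := Subsingleton.elim i 0
      simp only [Finsupp.single_eq_same]
      omega
  let A : Type u := MvPolynomial (Fin s) k
  let g : A →ₐ[k] T := MvPolynomial.aeval X.z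
  letI : Algebra A T := g.toRingHom.toAlgebra
  letI : Module A P := Module.compHom P g.toRingHom
  haveI : IsScalarTower A T P := ⟨fun a t v => by
    show (g a * t) • v = g a • (t • v)
    rw [mul_smul]⟩
  haveI : IsScalarTower k A P := ⟨fun c a v => by
    show g (c • a) • v = c • (g a • v)
    rw [map_smul, smul_assoc]⟩
  let gen : Gen → P := fun c => vp (σ (c, 0))
  let lc : (Gen →₀ A) →ₗ[A] P := Finsupp.linearCombination A gen
  let b1 : Module.Basis ((_ : Gen) × (Fin s →₀ ℕ)) k (Gen →₀ A) :=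
    Finsupp.basis fun _ => MvPolynomial.basisMonomials (Fin s) k
  let e : ((_ : Gen) × (Fin s →₀ ℕ)) ≃ X.Diag :=
    (Equiv.sigmaEquivProd _ _).trans (Equiv.ofBijective σ hσ)
  have hlc : lc.restrictScalars k = (b1.equiv vp e).toLinearMap := by
    refine b1.ext fun c => ?_
    rw [LinearEquiv.coe_coe, Module.Basis.equiv_apply, LinearMap.restrictScalars_apply]
    obtain ⟨c, δ⟩ := c
    simp only [b1, Finsupp.coe_basis, MvPolynomial.coe_basisMonomials, lc,
      Finsupp.linearCombination_single]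
    show g (MvPolynomial.monomial δ 1) • vp (σ (c, 0)) = vp (σ (c, δ))
    refine hP.injective ?_
    rw [hP.map_smul, hvp, hvp, X.act_monomial]
    simp only [σ]
    congr 1
    simp [add_comm, Finsupp.single_add]
  have hbij : Function.Bijective lc := by
    have := (b1.equiv vp e).bijective
    rw [← LinearEquiv.coe_coe, ← hlc] at this
    exact this
  let E : (Gen →₀ A) ≃ₗ[A] P := LinearEquiv.ofBijective lc hbij
  haveI : Fintype Gen := Subtype.fintype _
  haveI : Module.Free A P := Module.Free.of_equiv E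
  haveI : Module.Finite A P := Module.Finite.equiv E
  haveI : LocCoh.IsCohenMacaulayRing k :=
    ⟨fun p _ => CM.isCohenMacaulayLocalRing_iff.mpr (by
      refine le_trans ?_ (WithBot.coe_le_coe.mpr zero_le)
      rw [IsLocalization.AtPrime.ringKrullDim_eq_height p, Ideal.eq_bot_of_prime p,
        Ideal.height_bot])⟩
  haveI : LocCoh.IsCohenMacaulayRing A := Groth.Agent.H18.CMPoly.mvPolynomial k s
  exact FreeCM.cm (A := A) p

/-- Otherwise it is not Cohen-Macaulay. -/
theorem not_cm [Algebra.FiniteType k T] [Module.Finite T P] [SetLike.GradedSMul 𝒯 𝒬]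
    (hposT : ∀ n : ℤ, n < 0 → 𝒯 n = ⊥) (h0T : 𝒯 0 = Submodule.span k {(1 : T)})
    (hT : GrSeg.IsSegreRing 𝒜 ℬ 𝒯 ψ)
    {s : ℕ} (hs : 2 ≤ s) (hdP : Module.supportDim T P = s)
    (X : Setup k R 𝒜 S ℬ T 𝒯 ψ M ℳ N 𝒩 s) (hP : GrSeg.IsSegreMod ψ ℳ 𝒩 𝒬 φ)
    (hbad : ¬ Good X) :
    ¬ ∀ (p : Ideal T) [p.IsPrime], Subsingleton (LocalizedModule p.primeCompl P) ∨
      LocCoh.IsCohenMacaulayModule (Localization.AtPrime p) (LocalizedModule p.primeCompl P) := by
  classical
  intro hcm
  haveI : IsNoetherianRing T := Algebra.FiniteType.isNoetherianRing k T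
  haveI : Nontrivial P := by
    by_contra hc
    haveI := not_nontrivial_iff_subsingleton.mp hc
    rw [Module.supportDim_eq_bot_of_subsingleton] at hdP
    exact WithBot.coe_ne_bot hdP.symm
  haveI : Nontrivial T := Module.nontrivial T P
  haveI := CMDim.irr_isMaximal 𝒯 hposT h0T
  obtain ⟨hsupp, hdepth⟩ := CMBasis.depth_irr 𝒯 𝒬 (r := s) hposT h0T hdP hcm
  -- the bad pair
  obtain ⟨l, q, hdvd, hlt⟩ : ∃ l q, (X.D : ℤ) ∣ X.g q - X.e l ∧ X.g q < X.e l := by
    simpa [Good] using hbad
  obtain ⟨K, hK⟩ : ∃ K : ℕ, X.e l = X.g q + ((K + 1 : ℕ) : ℤ) * X.D := by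
    obtain ⟨m, hm⟩ := hdvd
    have hm0 : m < 0 := by
      by_contra hc
      push Not at hc
      have : 0 ≤ (X.D : ℤ) * m := by positivity
      omega
    refine ⟨(-m).toNat - 1, ?_⟩
    rw [show ((((-m).toNat - 1 + 1 : ℕ)) : ℤ) = -m by omega]
    linear_combination -hm
  let i0 : Fin s := ⟨0, by omega⟩
  set x := X.z i0
  have hdiag : ∀ j : ℕ, deg X.D X.g (q, Finsupp.single i0 j) = X.g q + (j : ℤ) * X.D := by
    intro j; simp [deg, wt]
  have hdl : deg X.D X.e (l, (0 : Fin 1 →₀ ℕ)) = X.e l := by simp [deg, wt]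
  obtain ⟨vp, hvp⟩ := X.exists_vp hP
  set c0 : X.Idx := ((l, 0), (q, Finsupp.single i0 (K + 1)))
  have hc0 : deg X.D X.e c0.1 = deg X.D X.g c0.2 := by
    simp only [c0]; rw [hdiag, hdl, hK]
  set w := vp ⟨c0, hc0⟩
  have hψx : ψ x = X.x 0 ⊗ₜ[k] X.y i0 := X.hψz i0
  have hxmon : x = MvPolynomial.aeval (R := k) X.z
      (MvPolynomial.monomial (Finsupp.single i0 1) (1 : k)) := by
    rw [← MvPolynomial.X, MvPolynomial.aeval_X]
  have hactx : ∀ c : X.Idx, GrSeg.act k R S M N (ψ x) (X.β c) =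
      X.β ((c.1.1, Finsupp.single 0 1 + c.1.2), (c.2.1, Finsupp.single i0 1 + c.2.2)) := by
    intro c
    rw [hxmon, X.act_monomial]
    simp [Finsupp.single_apply]
  -- `x` is regular
  let σ : X.Idx → X.Idx := fun c =>
    ((c.1.1, Finsupp.single 0 1 + c.1.2), (c.2.1, Finsupp.single i0 1 + c.2.2))
  have hσ : Function.Injective σ := by
    rintro ⟨⟨a1, a2⟩, ⟨a3, a4⟩⟩ ⟨⟨b1, b2⟩, ⟨b3, b4⟩⟩ h
    simp only [σ, Prod.mk.injEq, add_right_inj] at h
    simp [h.1.1, h.1.2, h.2.1, h.2.2]
  have hrepr : ∀ v, X.β.repr (GrSeg.act k R S M N (ψ x) v) =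
      Finsupp.mapDomain σ (X.β.repr v) := by
    have : (X.β.repr.toLinearMap ∘ₗ GrSeg.act k R S M N (ψ x)) =
        (Finsupp.lmapDomain k k σ ∘ₗ X.β.repr.toLinearMap) := by
      refine X.β.ext fun c => ?_
      simp [hactx, σ]
    exact fun v => LinearMap.congr_fun this v
  have hxreg : IsSMulRegular P x := by
    rw [isSMulRegular_iff_right_eq_zero_of_smul]
    intro v hv
    refine hP.injective ((map_zero φ).symm ▸ ?_)
    have h1 := congrArg φ hv
    rw [hP.map_smul, map_zero] at h1
    have h2 := hrepr (φ v)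
    rw [h1, map_zero] at h2
    have h3 : X.β.repr (φ v) = 0 :=
      Finsupp.mapDomain_injective hσ (h2.symm.trans (Finsupp.mapDomain_zero).symm)
    exact X.β.repr.map_eq_zero_iff.mp h3
  have hwx : w ∉ x • (⊤ : Submodule T P) := by
    intro hw
    obtain ⟨v, -, hv⟩ := (Submodule.mem_smul_pointwise_iff_exists _ _ _).mp hw
    have h1 := congrArg (fun u => X.β.repr (φ u) c0) hv
    simp only [hP.map_smul, hrepr, w, hvp, Module.Basis.repr_self, Finsupp.single_eq_same] at h1
    rw [Finsupp.mapDomain_notin_range] at h1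
    · exact one_ne_zero h1.symm
    · rintro ⟨c, hc⟩
      have h2 := congrArg (fun c : X.Idx => c.1.2 0) hc
      simp [σ, c0] at h2
  -- high degrees move `w` into `x P`
  obtain ⟨n0, hn0⟩ : ∃ n0 : ℕ, 0 < n0 ∧ ∀ l', X.e l' < X.e l + n0 := by
    obtain ⟨B, hB⟩ := (Finset.univ.image X.e).bddAbove
    refine ⟨(B - X.e l).toNat + 1, by omega, fun l' => ?_⟩
    have : X.e l' ≤ B := hB (by simp)
    omega
  have hhigh : ∀ n : ℤ, (n0 : ℤ) ≤ n → ∀ t ∈ 𝒯 n, t • w ∈ x • (⊤ : Submodule T P) := by
    intro n hn t ht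
    let W := (GrSeg.segrePiece k ℳ 𝒩 (X.e l + n - X.D)).map (GrSeg.act k R S M N (ψ x))
    have hW : GrSeg.act k R S M N (ψ t) (φ w) ∈ W := by
      have ht' : ψ t ∈ GrSeg.segrePiece k 𝒜 ℬ n := by
        rw [← hT.2 n]; exact ⟨t, ht, rfl⟩
      rw [hvp, X.β_apply]
      unfold GrSeg.segrePiece at ht'
      generalize ψ t = u at ht' ⊢
      induction ht' using Submodule.span_induction with
      | zero => rw [map_zero, LinearMap.zero_apply]; exact zero_mem _
      | add u v _ _ hu hv => rw [map_add, LinearMap.add_apply]; exact add_mem hu hv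
      | smul c u _ hu => rw [map_smul, LinearMap.smul_apply]; exact Submodule.smul_mem _ c hu
      | mem u hu =>
        obtain ⟨a, ha, b, hb, rfl⟩ := hu
        rw [GrSeg.act_tmul]
        -- the second factor is a multiple of `y i0`
        have h2 : vec (k := k) X.y X.b c0.2 =
            X.y i0 • vec (k := k) X.y X.b (q, Finsupp.single i0 K) := by
          rw [DiagBasis.smul_vec, ← Finsupp.single_add, add_comm 1 K]
        rw [h2, smul_comm b (X.y i0)]
        have hv2 : b • vec (k := k) X.y X.b (q, Finsupp.single i0 K) ∈ 𝒩 (X.e l + n - X.D) := by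
          have := SetLike.GradedSMul.smul_mem (A := ℬ) (B := 𝒩) hb
            (DiagBasis.vec_mem X.y X.b ℬ 𝒩 X.hy X.hb (q, Finsupp.single i0 K))
          rw [hdiag] at this
          have he : n +ᵥ (X.g q + (K : ℤ) * X.D) = X.e l + n - X.D := by
            show n + (X.g q + (K : ℤ) * X.D) = _
            rw [hK]; push_cast; ring
          rwa [he] at this
        have hm : a • vec (k := k) X.x X.a c0.1 ∈ ℳ (X.e l + n) := by
          have := SetLike.GradedSMul.smul_mem (A := 𝒜) (B := ℳ) ha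
            (DiagBasis.vec_mem X.x X.a 𝒜 ℳ X.hx X.ha c0.1)
          rwa [show c0.1 = (l, (0 : Fin 1 →₀ ℕ)) from rfl, hdl,
            show n +ᵥ X.e l = X.e l + n from add_comm _ _] at this
        have hm' := DiagBasis.mem_span_vec X.x X.a 𝒜 ℳ X.hx X.ha X.hMsp hm
        generalize a • vec (k := k) X.x X.a c0.1 = m at hm'
        induction hm' using Submodule.span_induction with
        | zero => rw [zero_tmul]; exact zero_mem _
        | add u v _ _ hu hv => rw [add_tmul]; exact add_mem hu hv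
        | smul c u _ hu => rw [← smul_tmul']; exact Submodule.smul_mem _ c hu
        | mem u hu =>
          obtain ⟨⟨l', α⟩, hp, rfl⟩ := hu
          have hp' : X.e l' + (α 0 : ℤ) * X.D = X.e l + n := by
            simpa [deg, wt_fin_one] using hp
          have hα : 1 ≤ α 0 := by
            rcases Nat.eq_zero_or_pos (α 0) with h0 | h0
            · have h4 := hn0.2 l'
              rw [h0] at hp'
              push_cast at hp'
              omega
            · exact h0
          have hle : Finsupp.single 0 1 ≤ α := Finsupp.single_le_iff.mpr hα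
          have hu' : vec (k := k) X.x X.a (l', α) =
              X.x 0 • vec (k := k) X.x X.a (l', α - Finsupp.single 0 1) := by
            rw [DiagBasis.smul_vec, add_tsub_cancel_of_le hle]
          refine ⟨vec (k := k) X.x X.a (l', α - Finsupp.single 0 1) ⊗ₜ[k]
            (b • vec (k := k) X.y X.b (q, Finsupp.single i0 K)),
            H83.Segre.tmul_mem_segrePiece ?_ hv2, ?_⟩
          · have := DiagBasis.vec_mem X.x X.a 𝒜 ℳ X.hx X.ha (l', α - Finsupp.single 0 1)
            have he : deg X.D X.e (l', α - Finsupp.single 0 1) = X.e l + n - X.D := by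
              simp only [deg, wt_fin_one, Finsupp.tsub_apply, Finsupp.single_eq_same]
              rw [Nat.cast_sub hα, ← hp']; push_cast; ring
            rwa [he] at this
          · rw [hψx, GrSeg.act_tmul, ← hu']
    obtain ⟨v, hv, hvw⟩ := hW
    obtain ⟨v', -, hv'⟩ := H83.Segre.exists_mod_elem hP hv
    refine (Submodule.mem_smul_pointwise_iff_exists _ _ _).mpr ⟨v', trivial, hP.injective ?_⟩
    rw [hP.map_smul, hP.map_smul, hv', hvw]
  -- hence the maximal ideal is associated to `P / x P`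
  set m := irr 𝒯
  set I : Ideal T := (x • (⊤ : Submodule T P)).comap (LinearMap.toSpanSingleton T P w)
  have hmI : m ≤ I.radical := by
    refine Ideal.span_le.mpr ?_
    rintro t ⟨n, hn, ht⟩
    refine ⟨n0, hhigh (n0 * n) ?_ _ ?_⟩
    · nlinarith
    · have := SetLike.pow_mem_graded n0 ht
      rwa [nsmul_eq_mul] at this
  let wb : QuotSMulTop x P := Submodule.Quotient.mk w
  have hwb : wb ≠ 0 := fun h => hwx ((Submodule.Quotient.mk_eq_zero _).mp h)
  obtain ⟨Q, hQ, hle⟩ := exists_le_isAssociatedPrime_of_isNoetherianRing (R := T) wb hwb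
  haveI hQp := hQ.isPrime
  have hIQ : I ≤ Q := by
    intro t ht
    refine hle (Submodule.mem_colon_singleton.mpr ?_)
    rw [Submodule.mem_bot, ← Submodule.Quotient.mk_smul, Submodule.Quotient.mk_eq_zero]
    exact ht
  have hQm : Q = m :=
    ((inferInstance : m.IsMaximal).eq_of_le hQp.ne_top (hmI.trans (hQp.radical_le_iff.mpr hIQ))).symm
  set Tm := Localization.AtPrime m
  set Pm := LocalizedModule m.primeCompl P
  haveI : IsNoetherianRing Tm := IsLocalization.isNoetherianRing m.primeCompl _ inferInstance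
  haveI : Module.Finite Tm Pm := Module.Finite.of_isLocalizedModule m.primeCompl
    (LocalizedModule.mkLinearMap m.primeCompl P)
  haveI : Module.Finite Tm (LocalizedModule m.primeCompl (QuotSMulTop x P)) :=
    Module.Finite.of_isLocalizedModule m.primeCompl
      (LocalizedModule.mkLinearMap m.primeCompl (QuotSMulTop x P))
  have hassloc : maximalIdeal Tm ∈
      associatedPrimes Tm (LocalizedModule m.primeCompl (QuotSMulTop x P)) := by
    rw [← Module.associatedPrimes.preimage_comap_associatedPrimes_eq_associatedPrimes_of_isLocalizedModule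
      m.primeCompl Tm (LocalizedModule.mkLinearMap m.primeCompl (QuotSMulTop x P)), Set.mem_preimage]
    rw [show Ideal.comap (algebraMap T Tm) (maximalIdeal Tm) = m from
      IsLocalization.AtPrime.under_maximalIdeal Tm m]
    exact hQm ▸ hQ
  haveI : Nontrivial (LocalizedModule m.primeCompl (QuotSMulTop x P)) := by
    by_contra hc
    haveI := not_nontrivial_iff_subsingleton.mp hc
    simp [associatedPrimes.eq_empty_of_subsingleton] at hassloc
  have hd0 : depth Tm (LocalizedModule m.primeCompl (QuotSMulTop x P)) = 0 :=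
    (Assoc.depth_eq_zero_iff _).mpr hassloc
  have hxm : x ∈ m := Ideal.subset_span ⟨X.D, by exact_mod_cast X.hD, X.hz i0⟩
  have hregm : IsSMulRegular Pm (algebraMap T Tm x) :=
    IsSMulRegular.of_isLocalizedModule Tm m.primeCompl
      (LocalizedModule.mkLinearMap m.primeCompl P) hxreg
  have h1 : depth Tm Pm = 1 := by
    rw [depth, ← SES.idealDepth_quotSMulTop (maximalIdeal Tm)
        ((IsLocalization.AtPrime.to_map_mem_maximal_iff Tm m x).mpr hxm) hregm,
      ← Basic.idealDepth_congr _ (CM.quotSMulTopLocalizedEquiv m P x)]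
    rw [depth] at hd0
    rw [hd0, zero_add]
  rw [h1] at hdepth
  have : (1 : ℕ) = s := by exact_mod_cast hdepth
  omega

end Groth.Agent.H84.Segre.DimOne
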