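import Mathlib
import Groth.Prelude.Def_GrSeg
import Groth.Prelude.Def_GrLC
import Groth.Agent.H84.Segre.DimOne
import Groth.Agent.Lib.Graded.Finiteness
import Groth.Agent.Lib.Graded.SmulSeq

/-!
# The first local cohomology of a one-dimensional Cohen-Macaulay graded module
-/

set_option autoImplicit false
set_option linter.style.haveILetI false
set_option linter.unusedSectionVars false

universe u

namespace Groth.Agent.H84.Segre.DimOneCoh

open DirectSum TensorProduct
open Groth.Agent.Lib.Graded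
open Groth.Agent.Lib.Graded.Basic Groth.Agent.Lib.Graded.StarInj Groth.Agent.Lib.Graded.Van
open Groth.Agent.H84.Segre.FreeBasis (vec wt)
open Groth.Agent.H84.Segre.DiagBasis (Setup deg)

variable {k : Type u} [Field k] {R : Type u} [CommRing R] [Algebra k R]
  (𝒜 : ℤ → Submodule k R) [GradedAlgebra 𝒜] [Algebra.FiniteType k R]
  {M : Type u} [AddCommGroup M] [Module R M] [Module k M] [IsScalarTower k R M]
  (ℳ : ℤ → AddSubgroup M) [DirectSum.Decomposition ℳ] [SetLike.GradedSMul 𝒜 ℳ] [Module.Finite R M]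
  {D : ℕ} {L : Type u} [Fintype L] (x : Fin 1 → R) (e : L → ℤ) (a : L → M)

theorem irr_pow_le (N : ℕ) (mR : Ideal R)
    (hm : mR = Ideal.span (⋃ n ∈ Set.Ioi (0 : ℤ), (𝒜 n : Set R))) :
    mR ^ N ≤ Ideal.span {z : R | ∃ n : ℤ, (N : ℤ) ≤ n ∧ z ∈ 𝒜 n} := by
  induction N with
  | zero =>
    rw [pow_zero, Ideal.one_eq_top]
    intro z _
    have h1 : (1 : R) ∈ Ideal.span {z : R | ∃ n : ℤ, ((0 : ℕ) : ℤ) ≤ n ∧ z ∈ 𝒜 n} :=
      Ideal.subset_span ⟨0, le_rfl, SetLike.one_mem_graded 𝒜⟩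
    simpa using Ideal.mul_mem_left _ z h1
  | succ N ih =>
    rw [pow_succ]
    refine (Ideal.mul_mono ih hm.le).trans ?_
    rw [Ideal.span_mul_span']
    refine Ideal.span_le.mpr ?_
    rintro _ ⟨u, ⟨n, hn, hu⟩, v, hv, rfl⟩
    obtain ⟨n', hn', hv⟩ := Set.mem_iUnion₂.mp hv
    refine Ideal.subset_span ⟨n + n', ?_, SetLike.GradedMul.mul_mem hu hv⟩
    have : (0 : ℤ) < n' := hn'
    push_cast
    omega

include 𝒜 in
/-- The degreewise criterion. -/
theorem Hcomp_one_eq_bot_iff (hpos : ∀ n : ℤ, n < 0 → 𝒜 n = ⊥) (hD : 0 < D)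
    (hx : ∀ i, x i ∈ 𝒜 D) (ha : ∀ l, a l ∈ ℳ (e l))
    (hli : LinearIndependent k (vec (k := k) x a))
    (hsp : Submodule.span k (Set.range (vec (k := k) x a)) = ⊤)
    (mR : HomogeneousIdeal 𝒜)
    (hmR : mR.toIdeal = Ideal.span (⋃ n ∈ Set.Ioi (0 : ℤ), (𝒜 n : Set R)))
    (E : GrLC.StarInjRes 𝒜 ℳ) (d : ℤ) :
    E.Hcomp mR 1 d = ⊥ ↔ ∀ l, (D : ℤ) ∣ e l - d → e l ≤ d := by
  classical
  haveI : IsNoetherianRing R := Algebra.FiniteType.isNoetherianRing k R
  let x0 : R := x 0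
  have hx0 : x0 ∈ 𝒜 (D : ℤ) := hx 0
  have hxm : x0 ∈ mR.toIdeal := by
    rw [hmR]
    exact Ideal.subset_span (Set.mem_iUnion₂.mpr ⟨(D : ℤ), by
      show (0 : ℤ) < (D : ℤ); exact_mod_cast hD, hx0⟩)
  let b := Module.Basis.mk hli hsp.ge
  have hb : ∀ p, b p = vec (k := k) x a p := fun p => Module.Basis.mk_apply hli hsp.ge p
  let σ : L × (Fin 1 →₀ ℕ) → L × (Fin 1 →₀ ℕ) := fun p => (p.1, Finsupp.single 0 1 + p.2)
  have hσ : Function.Injective σ := by
    rintro ⟨a1, a2⟩ ⟨b1, b2⟩ h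
    simp only [σ, Prod.mk.injEq, add_right_inj] at h
    simp [h.1, h.2]
  let μ : M →ₗ[k] M := (x0 • (LinearMap.id : M →ₗ[R] M)).restrictScalars k
  have hrepr : ∀ v : M, b.repr (x0 • v) = Finsupp.mapDomain σ (b.repr v) := by
    have : b.repr.toLinearMap ∘ₗ μ = Finsupp.lmapDomain k k σ ∘ₗ b.repr.toLinearMap := by
      refine b.ext fun p => ?_
      simp only [LinearMap.coe_comp, LinearEquiv.coe_coe, Function.comp_apply,
        Finsupp.lmapDomain_apply, Module.Basis.repr_self, Finsupp.mapDomain_single]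
      show b.repr (x0 • b p) = _
      rw [hb, DiagBasis.smul_vec x a 0 p, ← hb, Module.Basis.repr_self]
    exact fun v => LinearMap.congr_fun this v
  have hreg : IsSMulRegular M x0 := by
    rw [isSMulRegular_iff_right_eq_zero_of_smul]
    intro v hv
    have h2 := hrepr v
    rw [hv, map_zero] at h2
    exact b.repr.map_eq_zero_iff.mp
      (Finsupp.mapDomain_injective hσ (h2.symm.trans Finsupp.mapDomain_zero.symm))
  set xM : Submodule R M := LinearMap.range (x0 • (LinearMap.id : M →ₗ[R] M))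
  -- degrees without a generator lie in `x M`
  have hmulx : ∀ n : ℤ, (∀ l, e l ≠ n) → ∀ m ∈ ℳ n, m ∈ xM := by
    intro n hn m hm
    have h := DiagBasis.mem_span_vec x a 𝒜 ℳ hx ha hsp hm
    refine (Submodule.span_le (p := xM.restrictScalars k)).mpr ?_ h
    rintro _ ⟨⟨l, α⟩, hp, rfl⟩
    have hp' : e l + (α 0 : ℤ) * D = n := by simpa [deg, DimOne.wt_fin_one] using hp
    have hα : 1 ≤ α 0 := by
      rcases Nat.eq_zero_or_pos (α 0) with h0 | h0
      · rw [h0] at hp'; exact absurd (by simpa using hp') (hn l)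
      · exact h0
    refine ⟨vec (k := k) x a (l, α - Finsupp.single 0 1), ?_⟩
    show x 0 • vec (k := k) x a (l, α - Finsupp.single 0 1) = _
    rw [DiagBasis.smul_vec, add_tsub_cancel_of_le (Finsupp.single_le_iff.mpr hα)]
  have hnotx : ∀ l, a l ∉ xM := by
    rintro l ⟨v, hv⟩
    have h1 := congrArg (fun u => b.repr u (l, 0)) hv
    simp only [LinearMap.smul_apply, LinearMap.id_apply, hrepr] at h1
    rw [← DiagBasis.vec_zero (k := k) x a l, ← hb, Module.Basis.repr_self, Finsupp.single_eq_same,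
      Finsupp.mapDomain_of_notMem_range] at h1
    · exact one_ne_zero h1.symm
    · rintro ⟨p, hp⟩
      have h2 := congrArg (fun p : L × (Fin 1 →₀ ℕ) => p.2 0) hp
      simp [σ] at h2
  -- the graded modules
  letI := qDecomp ℳ xM (SmulSeq.isHomogeneous_range_smul (ℳ := ℳ) hx0)
  haveI := qGSMul 𝒜 ℳ xM
  let X : GrLC.GMod.{u} 𝒜 := GrLC.GMod.of 𝒜 M ℳ
  let Z : GrLC.GMod.{u} 𝒜 := GrLC.GMod.of 𝒜 (M ⧸ xM) (qGr ℳ xM)
  let Y := shiftMod 𝒜 ℳ (-(D : ℤ))
  have hses : Horseshoe.SES Y.gr X.gr Z.gr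
      (x0 • (LinearMap.id : M →ₗ[R] M)) xM.mkQ :=
    SmulSeq.ses_smul (𝒜 := 𝒜) (ℳ := ℳ) (𝒩 := qGr ℳ xM) hx0 hreg
      (fun _ _ hm => mkQ_mem_qGr ℳ xM hm) xM.mkQ_surjective (Submodule.ker_mkQ _)
  have hM0 : ∀ n, V mR X 0 n := fun n => V_zero_iff.2 fun y _ hy => by
    have h := Finiteness.gam_eq_bot_of_regular hxm hreg
    exact (Submodule.mem_bot R).mp (h ▸ hy)
  -- the quotient is killed by a power of the irrelevant ideal
  obtain ⟨N, hN⟩ : ∃ N : ℕ, ∀ l l', e l' < e l + N := by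
    obtain ⟨B, hB⟩ := (Finset.univ.image e).bddAbove
    obtain ⟨B', hB'⟩ := (Finset.univ.image e).bddBelow
    refine ⟨(B - B').toNat + 1, fun l l' => ?_⟩
    have h1 : e l' ≤ B := hB (by simp)
    have h2 : B' ≤ e l := hB' (by simp)
    omega
  have hZtor : GrLC.gam mR.toIdeal Z.carrier = ⊤ := by
    refine eq_top_iff.2 fun y _ => ⟨N, fun r hr => ?_⟩
    obtain ⟨v, rfl⟩ := xM.mkQ_surjective y
    have hr' := irr_pow_le 𝒜 N mR.toIdeal hmR hr
    suffices h : ∀ r ∈ Ideal.span {z : R | ∃ n : ℤ, (N : ℤ) ≤ n ∧ z ∈ 𝒜 n}, ∀ v : M, r • v ∈ xM by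
      show (Submodule.Quotient.mk (r • v) : M ⧸ xM) = 0
      exact (Submodule.Quotient.mk_eq_zero xM).mpr (h r hr' v)
    intro r hr
    induction hr using Submodule.span_induction with
    | zero => intro v; rw [zero_smul]; exact zero_mem _
    | add u w _ _ hu hw => intro v; rw [add_smul]; exact add_mem (hu v) (hw v)
    | smul c u _ hu => intro v; rw [smul_assoc]; exact xM.smul_mem _ (hu v)
    | mem u hu =>
      obtain ⟨n, hn, hu⟩ := hu
      intro v
      have hv : v ∈ Submodule.span k (Set.range (vec (k := k) x a)) := by rw [hsp]; trivial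
      induction hv using Submodule.span_induction with
      | zero => rw [smul_zero]; exact zero_mem _
      | add p q _ _ hp hq => rw [smul_add]; exact add_mem hp hq
      | smul c p _ hp => rw [smul_comm]; exact Submodule.smul_of_tower_mem _ c hp
      | mem p hp =>
        obtain ⟨p, rfl⟩ := hp
        refine hmulx _ (fun l' => ?_) _ (SetLike.GradedSMul.smul_mem hu
          (DiagBasis.vec_mem x a 𝒜 ℳ hx ha p))
        show e l' ≠ n + deg D e p
        have h1 := hN p.1 l'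
        have h2 : (0 : ℤ) ≤ wt D p.2 := by simp only [wt]; positivity
        simp only [deg]
        omega
  have hZ1 : ∀ n, V mR Z 1 n := fun n => V_torsion hZtor le_rfl
  have hZ0 : ∀ n, V mR Z 0 n ↔ ∀ l, e l ≠ n := by
    intro n
    rw [V_zero_iff]
    constructor
    · intro h l hl
      refine hnotx l ((Submodule.Quotient.mk_eq_zero xM).mp ?_)
      exact h _ (mkQ_mem_qGr ℳ xM (hl ▸ ha l)) (hZtor ▸ Submodule.mem_top)
    · intro h y hy _
      obtain ⟨m, hm, rfl⟩ := hy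
      exact (Submodule.Quotient.mk_eq_zero xM).mpr (hmulx n h m hm)
  have hshift : ∀ i n, V mR Y i n ↔ V mR X i (n - D) := by
    intro i n
    rw [sub_eq_add_neg]
    exact V_shift_iff (X := X) (-(D : ℤ))
  -- the recursion
  have hdown : ∀ n, V mR X 1 n → V mR X 1 (n + D) ∧ ∀ l, e l ≠ n + D := by
    intro n hn
    have hY : V mR Y 1 (n + D) := (hshift 1 _).mpr (by rwa [add_sub_cancel_right])
    exact ⟨V_mid hses hY (hZ1 _), (hZ0 _).mp (V_right hses (hM0 _) hY)⟩
  have hup : ∀ n, V mR X 1 (n + D) → (∀ l, e l ≠ n + D) → V mR X 1 n := by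
    intro n hn he
    have := (hshift 1 (n + D)).mp (V_left hses ((hZ0 _).mpr he) hn)
    rwa [add_sub_cancel_right] at this
  rw [LES.Hcomp_eq_bot_iff,
    show E.Hgr mR 1 d = ⊥ ↔ V mR X 1 d from ⟨fun h => V_of_res (X := X) E h, fun h => h E⟩]
  constructor
  · intro h l hl
    by_contra hc
    push Not at hc
    obtain ⟨m, hm⟩ := hl
    have hall : ∀ j : ℕ, V mR X 1 (d + (j : ℤ) * D) := by
      intro j
      induction j with
      | zero => simpa using h
      | succ j ih =>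
        have := (hdown _ ih).1
        rwa [show d + (j : ℤ) * D + D = d + ((j + 1 : ℕ) : ℤ) * D by push_cast; ring] at this
    have hm1 : 0 < m := by
      by_contra h0
      push Not at h0
      have : (D : ℤ) * m ≤ 0 := mul_nonpos_of_nonneg_of_nonpos (by positivity) h0
      omega
    refine (hdown _ (hall (m.toNat - 1))).2 l ?_
    rw [show ((m.toNat - 1 : ℕ) : ℤ) = m - 1 by omega]
    linear_combination hm
  · intro h
    obtain ⟨r, hr⟩ := Finiteness.exists_V_of_le (a := mR)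
      (fun n hn z hz => by rw [hpos n hn] at hz; exact (Submodule.mem_bot k).mp hz)
      (by rw [hmR, FGInduction.span_iUnion_Ioi]) X (inferInstanceAs (Module.Finite R M))
    suffices hind : ∀ (j : ℕ) (n : ℤ), (D : ℤ) ∣ n - d → d ≤ n → r ≤ n + j → V mR X 1 n from
      hind (r - d).toNat d (by simp) le_rfl (by omega)
    intro j
    induction j with
    | zero => intro n _ _ hn; exact hr 1 n (by simpa using hn)
    | succ j ih =>
      intro n hdiv hdn hn
      refine hup n (ih _ ?_ (by omega) (by push_cast at hn ⊢; omega)) fun l hl => ?_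
      · have := dvd_add hdiv (dvd_refl (D : ℤ))
        rwa [show n - d + D = n + D - d by ring] at this
      · have hle := h l (by
          rw [hl, show n + D - d = (n - d) + D by ring]
          exact dvd_add hdiv (dvd_refl _))
        omega

section Main

variable {S : Type u} [CommRing S] [Algebra k S] {ℬ : ℤ → Submodule k S} [GradedAlgebra ℬ]
  {T : Type u} [CommRing T] [Algebra k T] {𝒯 : ℤ → Submodule k T} [GradedAlgebra 𝒯]
  {ψ : T →ₐ[k] R ⊗[k] S}
  {N : Type u} [AddCommGroup N] [Module S N] [Module k N] [IsScalarTower k S N]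
  {𝒩 : ℤ → AddSubgroup N} [DirectSum.Decomposition 𝒩] [SetLike.GradedSMul ℬ 𝒩]

variable {𝒜} {ℳ} in
/-- The vanishing condition is the degree condition. -/
theorem vanish_iff_good (hpos : ∀ n : ℤ, n < 0 → 𝒜 n = ⊥) {s : ℕ}
    (X : Setup k R 𝒜 S ℬ T 𝒯 ψ M ℳ N 𝒩 s) (mR : HomogeneousIdeal 𝒜)
    (hmR : mR.toIdeal = Ideal.span (⋃ n ∈ Set.Ioi (0 : ℤ), (𝒜 n : Set R)))
    (E : GrLC.StarInjRes 𝒜 ℳ) :
    (∀ d : ℤ, E.Hcomp mR 1 d = ⊥ ∨ 𝒩 d = ⊥) ↔ DimOne.Good X := by
  classical
  have hH := Hcomp_one_eq_bot_iff 𝒜 ℳ X.x X.e X.a hpos X.hD X.hx X.ha X.hMli X.hMsp mR hmR E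
  constructor
  · intro h l q hdvd
    rcases h (X.g q) with h1 | h1
    · exact (hH _).mp h1 l (by rwa [← dvd_neg, neg_sub])
    · have := X.hb q
      rw [h1, AddSubgroup.mem_bot] at this
      exact absurd ((DiagBasis.vec_zero (k := k) X.y X.b q).trans this) (X.hNli.ne_zero (q, 0))
  · intro h d
    by_cases hN : 𝒩 d = ⊥
    · exact Or.inr hN
    refine Or.inl ((hH d).mpr fun l hl => ?_)
    obtain ⟨v, hv, hv0⟩ : ∃ v ∈ 𝒩 d, v ≠ 0 := by
      by_contra! hc
      exact hN ((AddSubgroup.eq_bot_iff_forall _).mpr hc)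
    obtain ⟨p, hp⟩ : ∃ p, deg X.D X.g p = d := by
      by_contra! hc
      have h2 := DiagBasis.mem_span_vec X.y X.b ℬ 𝒩 X.hy X.hb X.hNsp hv
      rw [show {p | deg X.D X.g p = d} = ∅ from Set.eq_empty_iff_forall_notMem.mpr hc,
        Set.image_empty, Submodule.span_empty, Submodule.mem_bot] at h2
      exact hv0 h2
    have hle : X.e l ≤ X.g p.1 := by
      refine h l p.1 ?_
      have h3 : (X.D : ℤ) ∣ d - X.g p.1 := ⟨((∑ i, p.2 i : ℕ) : ℤ), by
        rw [← hp, deg, wt]; ring⟩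
      rw [show X.g p.1 - X.e l = -(d - X.g p.1) - (X.e l - d) by ring]
      exact dvd_sub h3.neg_right hl
    have h4 : (0 : ℤ) ≤ wt X.D p.2 := by simp only [wt]; positivity
    rw [deg] at hp
    omega

end Main

end Groth.Agent.H84.Segre.DimOneCoh
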