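import Mathlib
import Groth.Agent.H84.Segre.DiagBasis
import Groth.Agent.H84.Segre.FreeCM
import Groth.Agent.H18.CMPoly

/-!
# A graded module of maximal depth at the irrelevant ideal is Cohen-Macaulay
-/

set_option autoImplicit false
set_option linter.style.haveILetI false
set_option linter.unusedSectionVars false

universe u

namespace Groth.Agent.H84.Segre.GradedCM

open DirectSum
open Groth.Agent.Lib.Depth LocCoh IsLocalRing
open Groth.Agent.H84.Segre.CMDim (irr)
open Groth.Agent.H84.Segre.FreeBasis (vec)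

variable {k : Type u} [Field k] {R : Type u} [CommRing R] [Algebra k R]
  (𝒜 : ℤ → Submodule k R) [GradedAlgebra 𝒜] [Algebra.FiniteType k R]
  {M : Type u} [AddCommGroup M] [Module R M] [Module k M] [IsScalarTower k R M]
  (ℳ : ℤ → AddSubgroup M) [DirectSum.Decomposition ℳ] [SetLike.GradedSMul 𝒜 ℳ] [Module.Finite R M]

include ℳ in
theorem cm_of_depth [Nontrivial M] (hpos : ∀ n : ℤ, n < 0 → 𝒜 n = ⊥)
    (h0 : 𝒜 0 = Submodule.span k {(1 : R)}) {r : ℕ} (hdim : Module.supportDim R M = r)
    (hdep : (r : ℕ∞) ≤ idealDepth (irr 𝒜) M) (q : Ideal R) [q.IsPrime] :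
    Subsingleton (LocalizedModule q.primeCompl M) ∨
      LocCoh.IsCohenMacaulayModule (Localization.AtPrime q) (LocalizedModule q.primeCompl M) := by
  classical
  haveI : IsNoetherianRing R := Algebra.FiniteType.isNoetherianRing k R
  obtain ⟨d, x0, hd, hx0, hxi⟩ := DiagBasis.exists_params 𝒜 ℳ hpos h0 hdim
  obtain ⟨ι, hι, e, b, hb, hli, hsp⟩ := CMBasis.exists_basis_of_depth 𝒜 ℳ x0 hpos h0 hdep hd hx0
    ((show (fun i => Ideal.Quotient.mk (Module.annihilator R M) (x0 i ^ 1)) =
      fun i => Ideal.Quotient.mk (Module.annihilator R M) (x0 i) by simp) ▸ hxi 1 one_pos)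
  let A : Type u := MvPolynomial (Fin r) k
  let g : A →ₐ[k] R := MvPolynomial.aeval x0
  letI : Algebra A R := g.toRingHom.toAlgebra
  letI : Module A M := Module.compHom M g.toRingHom
  haveI : IsScalarTower A R M := ⟨fun a t v => by
    show (g a * t) • v = g a • (t • v)
    rw [mul_smul]⟩
  haveI : IsScalarTower k A M := ⟨fun c a v => by
    show g (c • a) • v = c • (g a • v)
    rw [map_smul, smul_assoc]⟩
  let lc : (ι →₀ A) →ₗ[A] M := Finsupp.linearCombination A b
  let b1 : Module.Basis ((_ : ι) × (Fin r →₀ ℕ)) k (ι →₀ A) :=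
    Finsupp.basis fun _ => MvPolynomial.basisMonomials (Fin r) k
  let bM := Module.Basis.mk hli hsp.ge
  let e' : ((_ : ι) × (Fin r →₀ ℕ)) ≃ ι × (Fin r →₀ ℕ) := Equiv.sigmaEquivProd _ _
  have hlc : lc.restrictScalars k = (b1.equiv bM e').toLinearMap := by
    refine b1.ext fun c => ?_
    rw [LinearEquiv.coe_coe, Module.Basis.equiv_apply, LinearMap.restrictScalars_apply]
    obtain ⟨c, δ⟩ := c
    simp only [b1, Finsupp.coe_basis, lc, Finsupp.linearCombination_single, bM, Module.Basis.mk_apply]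
    rfl
  have hbij : Function.Bijective lc := by
    have := (b1.equiv bM e').bijective
    rw [← LinearEquiv.coe_coe, ← hlc] at this
    exact this
  let E : (ι →₀ A) ≃ₗ[A] M := LinearEquiv.ofBijective lc hbij
  haveI : Module.Free A M := Module.Free.of_equiv E
  haveI : Module.Finite A M := Module.Finite.equiv E
  haveI : LocCoh.IsCohenMacaulayRing k :=
    ⟨fun p _ => CM.isCohenMacaulayLocalRing_iff.mpr (by
      refine le_trans ?_ (WithBot.coe_le_coe.mpr zero_le)
      rw [IsLocalization.AtPrime.ringKrullDim_eq_height p, Ideal.eq_bot_of_prime p,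
        Ideal.height_bot])⟩
  haveI : LocCoh.IsCohenMacaulayRing A := Groth.Agent.H18.CMPoly.mvPolynomial k r
  exact FreeCM.cm (A := A) q

include ℳ in
/-- Depth at the irrelevant ideal of a Cohen-Macaulay graded module. -/
theorem idealDepth_irr (hpos : ∀ n : ℤ, n < 0 → 𝒜 n = ⊥)
    (h0 : 𝒜 0 = Submodule.span k {(1 : R)}) {r : ℕ} (hdim : Module.supportDim R M = r)
    (hcm : ∀ (q : Ideal R) [q.IsPrime], Subsingleton (LocalizedModule q.primeCompl M) ∨
      LocCoh.IsCohenMacaulayModule (Localization.AtPrime q) (LocalizedModule q.primeCompl M)) :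
    idealDepth (irr 𝒜) M = (r : ℕ∞) := by
  classical
  haveI : IsNoetherianRing R := Algebra.FiniteType.isNoetherianRing k R
  haveI : Nontrivial M := by
    by_contra hc
    haveI := not_nontrivial_iff_subsingleton.mp hc
    rw [Module.supportDim_eq_bot_of_subsingleton] at hdim
    exact WithBot.coe_ne_bot hdim.symm
  haveI : Nontrivial R := Module.nontrivial R M
  haveI := CMDim.irr_isMaximal 𝒜 hpos h0
  obtain ⟨-, hdepth⟩ := CMBasis.depth_irr 𝒜 ℳ hpos h0 hdim hcm
  refine le_antisymm (hdepth ▸ Local.idealDepth_le_depth_localization _ M _ le_rfl) ?_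
  rw [Local.idealDepth_eq_iInf]
  refine le_iInf₂ fun p hp => ?_
  have : p = ⟨irr 𝒜, inferInstance⟩ := PrimeSpectrum.ext
    ((inferInstance : (irr 𝒜).IsMaximal).eq_of_le p.2.ne_top hp).symm
  subst this
  exact hdepth.ge

end Groth.Agent.H84.Segre.GradedCM
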