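import Mathlib
import Groth.Prelude.Def_GrLC
import Groth.Agent.H84.Segre.CMBasis
import Groth.Agent.H84.Segre.DiagBasis
import Groth.Agent.H84.Segre.GradedCM
import Groth.Agent.H84.Segre.DimOneCoh
import Groth.Agent.Lib.Graded.RegDeg
import Groth.Agent.Lib.Graded.CMVanish

/-!
# The a-invariant through the degrees of a free basis over the parameters
-/

set_option autoImplicit false
set_option linter.style.haveILetI false
set_option linter.unusedSectionVars false

universe u

namespace Groth.Agent.H84.Segre.AInv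

open DirectSum
open Groth.Agent.Lib.Graded
open Groth.Agent.Lib.Graded.Basic Groth.Agent.Lib.Graded.StarInj Groth.Agent.Lib.Graded.Van
open Groth.Agent.H84.Segre.FreeBasis (vec wt Z)
open Groth.Agent.H84.Segre.DiagBasis (deg)
open Groth.Agent.H84.Segre.CMDim (irr)

variable {k : Type u} [Field k] {R : Type u} [CommRing R] [Algebra k R]
  (𝒜 : ℤ → Submodule k R) [GradedAlgebra 𝒜] [Algebra.FiniteType k R]
  {M : Type u} [AddCommGroup M] [Module R M] [Module k M] [IsScalarTower k R M]
  (ℳ : ℤ → AddSubgroup M) [DirectSum.Decomposition ℳ] [SetLike.GradedSMul 𝒜 ℳ] [Module.Finite R M]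
  {r D : ℕ} {L : Type u} [Fintype L] (x : Fin r → R) (e : L → ℤ) (a : L → M)

theorem ofList_take_smul_top (j : ℕ) :
    Ideal.ofList ((List.ofFn x).take j) • (⊤ : Submodule R M) = Z x j := by
  refine le_antisymm (Submodule.smul_le.mpr fun c hc w _ => ?_) (Submodule.span_le.mpr ?_)
  · induction hc using Submodule.span_induction with
    | zero => rw [zero_smul]; exact zero_mem _
    | add p q _ _ hp hq => rw [add_smul]; exact add_mem hp hq
    | smul c p _ hp => rw [smul_assoc]; exact Submodule.smul_mem _ _ hp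
    | mem p hp =>
      obtain ⟨i, hi, rfl⟩ := List.mem_take_iff_getElem.mp hp
      have hir : i < r := by simp at hi; omega
      have : (List.ofFn x)[i]'(by simp [hir]) = x ⟨i, hir⟩ := by simp
      rw [this]
      exact FreeBasis.smul_mem_Z x (i := ⟨i, hir⟩) (by simp at hi ⊢; omega) w
  · rintro _ ⟨i, hi, w, rfl⟩
    refine Submodule.smul_mem_smul (Ideal.subset_span ?_) trivial
    exact List.mem_take_iff_getElem.mpr ⟨i.val, by simp [hi], by simp⟩

theorem span_range_smul_top :
    Ideal.span (Set.range x) • (⊤ : Submodule R M) = Z x r := by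
  refine le_antisymm (Submodule.smul_le.mpr fun c hc w _ => ?_) (Submodule.span_le.mpr ?_)
  · induction hc using Submodule.span_induction with
    | zero => rw [zero_smul]; exact zero_mem _
    | add p q _ _ hp hq => rw [add_smul]; exact add_mem hp hq
    | smul c p _ hp => rw [smul_assoc]; exact Submodule.smul_mem _ _ hp
    | mem p hp =>
      obtain ⟨i, rfl⟩ := hp
      exact FreeBasis.smul_mem_Z x i.2 w
  · rintro _ ⟨i, -, w, rfl⟩
    exact Submodule.smul_mem_smul (Ideal.subset_span ⟨i, rfl⟩) trivial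

include 𝒜 in
/-- The degreewise vanishing of the top local cohomology. -/
theorem vanish_iff [Nontrivial M] (hpos : ∀ n : ℤ, n < 0 → 𝒜 n = ⊥)
    (h0 : 𝒜 0 = Submodule.span k {(1 : R)}) (hD : 0 < D)
    (hx : ∀ i, x i ∈ 𝒜 D)
    (hint : ∀ t : R ⧸ Module.annihilator R M, IsIntegral
      (Algebra.adjoin k (Set.range fun i => Ideal.Quotient.mk (Module.annihilator R M) (x i))) t)
    (hdep : (r : ℕ∞) ≤ LocCoh.idealDepth (irr 𝒜) M)
    (ha : ∀ l, a l ∈ ℳ (e l))
    (hli : LinearIndependent k (vec (k := k) x a))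
    (hsp : Submodule.span k (Set.range (vec (k := k) x a)) = ⊤)
    (mR : HomogeneousIdeal 𝒜)
    (hmR : mR.toIdeal = Ideal.span (⋃ n ∈ Set.Ioi (0 : ℤ), (𝒜 n : Set R))) (ρ : ℤ) :
    (∀ g, ρ < g → V mR (GrLC.GMod.of 𝒜 M ℳ) r g) ↔ ∀ l, e l ≤ ρ + (r : ℤ) * D := by
  classical
  haveI : IsNoetherianRing R := Algebra.FiniteType.isNoetherianRing k R
  have hirr : irr 𝒜 = mR.toIdeal := by
    rw [hmR, irr]
    congr 1
    ext z
    simp
  have hxm : ∀ i, x i ∈ mR.toIdeal := fun i => by
    rw [← hirr]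
    exact Ideal.subset_span ⟨(D : ℤ), by exact_mod_cast hD, hx i⟩
  let X : GrLC.GMod.{u} 𝒜 := GrLC.GMod.of 𝒜 M ℳ
  have hlow : ∀ i < r, ∀ g, V mR X i g := by
    intro i hi g
    refine V_congr (X := toMod 𝒜 ℳ) (LinearEquiv.refl R M) (fun g z hz => (mem_toMod 𝒜 ℳ).mp hz)
      (CMVanish.V_of_lt_idealDepth g ?_)
    rw [← hirr]
    exact lt_of_lt_of_le (by exact_mod_cast hi) hdep
  have hreg : RingTheory.Sequence.IsWeaklyRegular M (List.ofFn x) := by
    refine ⟨fun j hj => ?_⟩
    rw [isSMulRegular_iff_right_eq_zero_of_smul]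
    intro z hz
    obtain ⟨m, rfl⟩ := Submodule.Quotient.mk_surjective _ z
    rw [← Submodule.Quotient.mk_smul, Submodule.Quotient.mk_eq_zero, ofList_take_smul_top] at hz
    rw [Submodule.Quotient.mk_eq_zero, ofList_take_smul_top]
    have hjr : j < r := by simpa using hj
    rw [show (List.ofFn x)[j] = x ⟨j, hjr⟩ by simp] at hz
    exact CMBasis.regular_of_depth 𝒜 ℳ x hpos h0 hdep hD hx hint ⟨j, hjr⟩ m hz
  -- the quotient by the parameters
  set P : Submodule R M := Z x r
  have hPh : P.IsHomogeneous ℳ := fun g z hz => FreeBasis.Z_component 𝒜 ℳ x hx hz g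
  let Y : GrLC.GMod.{u} 𝒜 := qMod 𝒜 ℳ P hPh
  obtain ⟨-, hY⟩ := RegDeg.endLE_seq_iff (a := mR) x (fun _ => (D : ℤ)) X Y P.mkQ hx
    (fun _ => by positivity) hxm hreg (fun g z hz => mkQ_mem_qGr ℳ P hz) P.mkQ_surjective
    ((Submodule.ker_mkQ P).trans (span_range_smul_top x).symm) r le_rfl hlow
  rw [Nat.sub_self] at hY
  have hsum : ∑ _j : Fin r, (D : ℤ) = (r : ℤ) * D := by simp
  -- degrees without a generator lie in `P`
  have hmulx : ∀ n : ℤ, (∀ l, e l ≠ n) → ∀ m ∈ ℳ n, m ∈ P := by
    intro n hn m hm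
    have h := DiagBasis.mem_span_vec x a 𝒜 ℳ hx ha hsp hm
    refine (Submodule.span_le (p := P.restrictScalars k)).mpr ?_ h
    rintro _ ⟨⟨l, α⟩, hp, rfl⟩
    obtain ⟨i, hi⟩ : ∃ i, α i ≠ 0 := by
      by_contra! hc
      have hα : α = 0 := Finsupp.ext hc
      subst hα
      exact hn l (by simpa [deg, wt] using hp)
    exact FreeBasis.monomial_smul_mem_Z x i.2 hi _
  have hnotx : ∀ l, a l ∉ P := by
    intro l hl
    set W : Submodule k M :=
      Submodule.span k (vec (k := k) x a '' {p : L × (Fin r →₀ ℕ) | p.2 ≠ 0})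
    have hxW : ∀ i (v : M), x i • v ∈ W := by
      intro i v
      have hv : v ∈ Submodule.span k (Set.range (vec (k := k) x a)) := by rw [hsp]; trivial
      induction hv using Submodule.span_induction with
      | zero => rw [smul_zero]; exact zero_mem _
      | add p q _ _ hp hq => rw [smul_add]; exact add_mem hp hq
      | smul c p _ hp => rw [smul_comm]; exact W.smul_mem c hp
      | mem p hp =>
        obtain ⟨⟨l', α⟩, rfl⟩ := hp
        rw [DiagBasis.smul_vec]
        exact Submodule.subset_span ⟨_, by simp, rfl⟩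
    have hPW : ∀ z ∈ P, ∀ c : R, c • z ∈ W := by
      intro z hz
      induction hz using Submodule.span_induction with
      | zero => intro c; rw [smul_zero]; exact zero_mem _
      | add p q _ _ hp hq => intro c; rw [smul_add]; exact add_mem (hp c) (hq c)
      | smul b p _ hp => intro c; rw [← mul_smul]; exact hp _
      | mem p hp =>
        obtain ⟨i, -, w, rfl⟩ := hp
        intro c
        rw [smul_comm]
        exact hxW i _
    have h1 := hPW _ hl 1
    rw [one_smul, ← DiagBasis.vec_zero (k := k) x a l] at h1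
    exact hli.notMem_span_image (s := {p : L × (Fin r →₀ ℕ) | p.2 ≠ 0}) (by simp) h1
  -- the quotient is killed by a power of the irrelevant ideal
  obtain ⟨N, hN⟩ : ∃ N : ℕ, ∀ l l', e l' < e l + N := by
    obtain ⟨B, hB⟩ := (Finset.univ.image e).bddAbove
    obtain ⟨B', hB'⟩ := (Finset.univ.image e).bddBelow
    refine ⟨(B - B').toNat + 1, fun l l' => ?_⟩
    have h1 : e l' ≤ B := hB (by simp)
    have h2 : B' ≤ e l := hB' (by simp)
    omega
  have hYtor : GrLC.gam mR.toIdeal Y.carrier = ⊤ := by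
    refine eq_top_iff.2 fun y _ => ⟨N, fun t ht => ?_⟩
    obtain ⟨v, rfl⟩ := P.mkQ_surjective y
    have ht' := DimOneCoh.irr_pow_le 𝒜 N mR.toIdeal hmR ht
    suffices h : ∀ t ∈ Ideal.span {z : R | ∃ n : ℤ, (N : ℤ) ≤ n ∧ z ∈ 𝒜 n}, ∀ v : M, t • v ∈ P by
      show (Submodule.Quotient.mk (t • v) : M ⧸ P) = 0
      exact (Submodule.Quotient.mk_eq_zero P).mpr (h t ht' v)
    intro t ht
    induction ht using Submodule.span_induction with
    | zero => intro v; rw [zero_smul]; exact zero_mem _
    | add u w _ _ hu hw => intro v; rw [add_smul]; exact add_mem (hu v) (hw v)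
    | smul c u _ hu => intro v; rw [smul_assoc]; exact P.smul_mem _ (hu v)
    | mem u hu =>
      obtain ⟨n, hn, hu⟩ := hu
      intro v
      have hv : v ∈ Submodule.span k (Set.range (vec (k := k) x a)) := by rw [hsp]; trivial
      induction hv using Submodule.span_induction with
      | zero => rw [smul_zero]; exact zero_mem _
      | add p q _ _ hp hq => rw [smul_add]; exact add_mem hp hq
      | smul c p _ hp => rw [smul_comm]; exact Submodule.smul_of_tower_mem _ c hp
      | mem p hp =>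
        obtain ⟨p, rfl⟩ := hp
        refine hmulx _ (fun l' => ?_) _ (SetLike.GradedSMul.smul_mem hu
          (DiagBasis.vec_mem x a 𝒜 ℳ hx ha p))
        show e l' ≠ n + deg D e p
        have h1 := hN p.1 l'
        have h2 : (0 : ℤ) ≤ wt D p.2 := by simp only [wt]; positivity
        simp only [deg]
        omega
  have hY0 : ∀ n, V mR Y 0 n ↔ ∀ l, e l ≠ n := by
    intro n
    rw [V_zero_iff]
    constructor
    · intro h l hl
      refine hnotx l ((Submodule.Quotient.mk_eq_zero P).mp ?_)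
      exact h _ (mkQ_mem_qGr ℳ P (hl ▸ ha l)) (hYtor ▸ Submodule.mem_top)
    · intro h y hy _
      obtain ⟨m, hm, rfl⟩ := hy
      exact (Submodule.Quotient.mk_eq_zero P).mpr (hmulx n h m hm)
  have h := hY (ρ + (r : ℤ) * D)
  rw [hsum] at h
  constructor
  · intro hV l
    by_contra hc
    push Not at hc
    exact (hY0 _).mp (h.mpr (fun g hg => hV g (by omega)) (e l) hc) l rfl
  · intro he g hg
    exact h.mp (fun n hn => (hY0 n).mpr fun l hl => absurd (he l) (by omega)) g (by omega)

/-- Negativity of an end degree. -/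
theorem endDeg_lt_zero_iff {A : Type u} [AddCommGroup A] (𝔸 : ℤ → AddSubgroup A) :
    GrLC.endDeg 𝔸 < 0 ↔ ∀ n : ℤ, -1 < n → 𝔸 n = ⊥ := by
  rw [← IntGraded.endDeg_le_iff]
  generalize GrLC.endDeg 𝔸 = x
  cases x with
  | bot => exact iff_of_true (WithBot.bot_lt_coe _) bot_le
  | coe y =>
    cases y with
    | top =>
      refine iff_of_false ?_ ?_
      · exact not_lt.mpr (WithBot.coe_le_coe.mpr le_top)
      · rw [WithBot.coe_le_coe, top_le_iff]
        exact WithTop.coe_ne_top
    | coe z =>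
      rw [show (0 : WithBot (WithTop ℤ)) = (((0 : ℤ) : WithTop ℤ) : WithBot (WithTop ℤ)) from rfl,
        WithBot.coe_lt_coe, WithTop.coe_lt_coe, WithBot.coe_le_coe, WithTop.coe_le_coe]
      omega

section Std

variable [Nontrivial R]

/-- A standard graded algebra with a free parameter has all pieces nonzero. -/
theorem exists_deg_eq (hstd : Ideal.span (⋃ n ∈ Set.Ioi (0 : ℤ), (𝒜 n : Set R)) =
      Ideal.span ((𝒜 1 : Submodule k R) : Set R))
    (ℳ : ℤ → AddSubgroup R) [DirectSum.Decomposition ℳ] [SetLike.GradedSMul 𝒜 ℳ]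
    (hℳ : ∀ n z, z ∈ ℳ n ↔ z ∈ 𝒜 n) (a : L → R) (hr : 1 ≤ r) (hD : 0 < D)
    (hx : ∀ i, x i ∈ 𝒜 D) (ha : ∀ l, a l ∈ ℳ (e l))
    (hli : LinearIndependent k (vec (k := k) x a))
    (hsp : Submodule.span k (Set.range (vec (k := k) x a)) = ⊤) (n : ℤ) (hn : 0 ≤ n) :
    ∃ p : L × (Fin r →₀ ℕ), deg D e p = n := by
  classical
  by_contra! hno
  have hn0 : 𝒜 n = ⊥ := by
    rw [Submodule.eq_bot_iff]
    intro z hz
    have h := DiagBasis.mem_span_vec x a 𝒜 ℳ hx ha hsp ((hℳ n z).mpr hz)
    rwa [show {p | deg D e p = n} = ∅ from Set.eq_empty_iff_forall_notMem.mpr hno,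
      Set.image_empty, Submodule.span_empty, Submodule.mem_bot] at h
  have hstep : ∀ m : ℤ, 0 ≤ m → 𝒜 m = ⊥ → 𝒜 (m + 1) = ⊥ := by
    intro m hm hbot
    rw [Submodule.eq_bot_iff]
    intro z hz
    have hz1 : z ∈ Ideal.span ((𝒜 1 : Submodule k R) : Set R) := by
      rw [← hstd]
      exact Ideal.subset_span (Set.mem_iUnion₂.mpr ⟨m + 1, show (0 : ℤ) < m + 1 by omega, hz⟩)
    suffices h : ∀ z ∈ Ideal.span ((𝒜 1 : Submodule k R) : Set R), ∀ c : R,
        ((decompose 𝒜 (c * z) (m + 1) : 𝒜 (m + 1)) : R) = 0 by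
      have h1 := h z hz1 1
      rwa [one_mul, decompose_of_mem_same 𝒜 hz] at h1
    intro w hw
    induction hw using Submodule.span_induction with
    | zero => intro c; simp
    | add p q _ _ hp hq =>
      intro c
      rw [mul_add, decompose_add, DirectSum.add_apply, Submodule.coe_add, hp c, hq c, add_zero]
    | smul b p _ hp => intro c; rw [smul_eq_mul, ← mul_assoc]; exact hp _
    | mem p hp =>
      intro c
      induction c using DirectSum.Decomposition.inductionOn 𝒜 with
      | zero => simp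
      | add u v hu hv =>
        rw [add_mul, decompose_add, DirectSum.add_apply, Submodule.coe_add, hu, hv, add_zero]
      | @homogeneous i u =>
        have hup : (u : R) * p ∈ 𝒜 (i + 1) := SetLike.mul_mem_graded u.2 hp
        by_cases hi : i = m
        · subst hi
          rw [(Submodule.eq_bot_iff _).mp hbot u u.2, zero_mul]
          simp
        · exact decompose_of_mem_ne 𝒜 hup (by omega)
  obtain ⟨p0, -⟩ : ∃ p0 : L, True := by
    by_contra hc
    haveI : IsEmpty L := ⟨fun l => hc ⟨l, trivial⟩⟩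
    have h : (⊤ : Submodule k R) = ⊥ := by
      rw [← hsp, Submodule.span_eq_bot]
      rintro _ ⟨⟨l, -⟩, rfl⟩
      exact isEmptyElim l
    exact one_ne_zero ((Submodule.mem_bot k).mp (h ▸ (Submodule.mem_top : (1 : R) ∈ _)))
  have hall : ∀ j : ℕ, 𝒜 (n + j) = ⊥ := by
    intro j
    induction j with
    | zero => simpa using hn0
    | succ j ih =>
      have := hstep (n + j) (by omega) ih
      rwa [show n + (j : ℤ) + 1 = n + ((j + 1 : ℕ) : ℤ) by push_cast; ring] at this
  let i0 : Fin r := ⟨0, hr⟩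
  let J : ℕ := (n - e p0).toNat
  let p : L × (Fin r →₀ ℕ) := (p0, Finsupp.single i0 J)
  have hdeg : n ≤ deg D e p := by
    have h1 : ((J : ℕ) : ℤ) ≤ (J : ℤ) * D := le_mul_of_one_le_right (by positivity) (by omega)
    have h2 : deg D e p = e p0 + (J : ℤ) * D := by simp [deg, wt, p, Finsupp.single_apply]
    omega
  have hp : vec (k := k) x a p ∈ 𝒜 (deg D e p) := (hℳ _ _).mp (DiagBasis.vec_mem x a 𝒜 ℳ hx ha p)
  rw [show deg D e p = n + ((deg D e p - n).toNat : ℤ) by omega, hall, Submodule.mem_bot] at hp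
  exact hli.ne_zero p hp

end Std

end Groth.Agent.H84.Segre.AInv
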