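import Mathlib
import Groth.Prelude.Def_CAlg
import Groth.Agent.Lib.Depth.Local

/-!
# Depth of products, of retracts, and along ring maps
-/

set_option autoImplicit false
set_option linter.style.haveILetI false
set_option linter.unusedSectionVars false

universe u

namespace Groth.Agent.H84.Segre.DepthPi

open RingTheory.Sequence LocCoh
open scoped Pointwise
open Groth.Agent.Lib.Depth

section Retract

variable {R : Type u} [CommRing R] {M P : Type u} [AddCommGroup M] [Module R M] [AddCommGroup P]
  [Module R P]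

/-- Weak regularity passes to retracts. -/
theorem isWeaklyRegular_retract (i : M →ₗ[R] P) (p : P →ₗ[R] M) (h : p ∘ₗ i = LinearMap.id)
    {rs : List R} (hr : IsWeaklyRegular P rs) : IsWeaklyRegular M rs := by
  refine ⟨fun n hn => ?_⟩
  set J := Ideal.ofList (rs.take n)
  have hi : (J • (⊤ : Submodule R M)).map i ≤ J • (⊤ : Submodule R P) := by
    rw [Submodule.map_smul'']; exact Submodule.smul_mono le_rfl le_top
  have hp : (J • (⊤ : Submodule R P)).map p ≤ J • (⊤ : Submodule R M) := by
    rw [Submodule.map_smul'']; exact Submodule.smul_mono le_rfl le_top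
  rw [isSMulRegular_iff_right_eq_zero_of_smul]
  intro z hz
  obtain ⟨m, rfl⟩ := Submodule.Quotient.mk_surjective _ z
  rw [← Submodule.Quotient.mk_smul, Submodule.Quotient.mk_eq_zero] at hz
  have h1 : rs[n] • i m ∈ J • (⊤ : Submodule R P) := by
    rw [← map_smul]; exact hi (Submodule.mem_map_of_mem hz)
  have h2 : (Submodule.Quotient.mk (i m) : P ⧸ J • (⊤ : Submodule R P)) = 0 :=
    (hr.regular_mod_prev n hn).right_eq_zero_of_smul (by
      rw [← Submodule.Quotient.mk_smul, Submodule.Quotient.mk_eq_zero]; exact h1)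
  rw [Submodule.Quotient.mk_eq_zero] at h2 ⊢
  have := hp (Submodule.mem_map_of_mem h2)
  rwa [← LinearMap.comp_apply, h, LinearMap.id_apply] at this

/-- Depth passes to retracts. -/
theorem le_idealDepth_retract (i : M →ₗ[R] P) (p : P →ₗ[R] M) (h : p ∘ₗ i = LinearMap.id)
    {I : Ideal R} {n : ℕ} (hn : (n : ℕ∞) ≤ idealDepth I P) : (n : ℕ∞) ≤ idealDepth I M := by
  rcases (Basic.le_idealDepth_iff n).mp hn with htop | ⟨rs, hl, hmem, hreg⟩
  · refine (Basic.le_idealDepth_iff n).mpr (Or.inl ?_)
    refine top_le_iff.mp fun m _ => ?_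
    have h1 : p (i m) ∈ (I • (⊤ : Submodule R P)).map p :=
      Submodule.mem_map_of_mem (by rw [htop]; trivial)
    rw [Submodule.map_smul'', ← LinearMap.comp_apply, h, LinearMap.id_apply] at h1
    exact Submodule.smul_mono le_rfl le_top h1
  · exact (Basic.le_idealDepth_iff n).mpr
      (Or.inr ⟨rs, hl, hmem, isWeaklyRegular_retract i p h hreg⟩)

end Retract

section Pi

variable {R : Type u} [CommRing R] [IsNoetherianRing R]

theorem le_idealDepth_prod (I : Ideal R) {M N : Type u} [AddCommGroup M] [Module R M]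
    [Module.Finite R M] [AddCommGroup N] [Module R N] [Module.Finite R N] {n : ℕ}
    (hM : (n : ℕ∞) ≤ idealDepth I M) (hN : (n : ℕ∞) ≤ idealDepth I N) :
    (n : ℕ∞) ≤ idealDepth I (M × N) :=
  SES.le_idealDepth_middle I (f := LinearMap.inl R M N) (g := LinearMap.snd R M N)
    (fun _ _ h => congrArg Prod.fst h)
    (LinearMap.exact_iff.mpr (LinearMap.ker_snd (R := R) (M := M) (M₂ := N)))
    (fun y => ⟨(0, y), rfl⟩) hM hN

/-- Depth of a finite product. -/
theorem le_idealDepth_pi (I : Ideal R) {n : ℕ} :
    ∀ (ι : Type u) [Fintype ι] (M : ι → Type u) [∀ c, AddCommGroup (M c)] [∀ c, Module R (M c)]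
      [∀ c, Module.Finite R (M c)], (∀ c, (n : ℕ∞) ≤ idealDepth I (M c)) →
      (n : ℕ∞) ≤ idealDepth I (∀ c, M c) := by
  intro ι hι
  refine Fintype.induction_empty_option (P := fun ι _ => ∀ (M : ι → Type u) [∀ c, AddCommGroup (M c)]
    [∀ c, Module R (M c)] [∀ c, Module.Finite R (M c)], (∀ c, (n : ℕ∞) ≤ idealDepth I (M c)) →
      (n : ℕ∞) ≤ idealDepth I (∀ c, M c)) ?_ ?_ ?_ ι
  · intro α β _ e ih M _ _ _ h
    letI := Fintype.ofEquiv _ e.symm
    rw [← Basic.idealDepth_congr I (LinearEquiv.piCongrLeft R M e)]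
    exact ih (fun a => M (e a)) fun a => h (e a)
  · intro M _ _ _ _
    rw [Basic.idealDepth_subsingleton]
    exact le_top
  · intro α _ ih M _ _ _ h
    rw [Basic.idealDepth_congr I (LinearEquiv.piOptionEquivProd R (M := M))]
    exact le_idealDepth_prod I (h none) (ih (fun a => M (some a)) fun a => h (some a))

end Pi

/-- Depth does not change along a ring map over which the module stays finite. -/
theorem idealDepth_eq_map {A B : Type u} [CommRing A] [CommRing B] [Algebra A B]
    [IsNoetherianRing A] [IsNoetherianRing B] (I : Ideal A) (M : Type u) [AddCommGroup M]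
    [Module A M] [Module B M] [IsScalarTower A B M] [Module.Finite A M] [Module.Finite B M] :
    idealDepth I M = idealDepth (I.map (algebraMap A B)) M := by
  by_cases hI : I • (⊤ : Submodule A M) = ⊤
  · rw [Basic.idealDepth_of_smul_top_eq hI,
      Basic.idealDepth_of_smul_top_eq ((Basic.smul_top_eq_top_iff_map I).mp hI)]
  obtain ⟨n, hn⟩ := Local.exists_nat_eq_idealDepth I M hI
  induction n generalizing M with
  | zero =>
    rw [hn, Nat.cast_zero]
    obtain ⟨m, hm, hk⟩ := Local.exists_smul_eq_zero_of_idealDepth_eq_zero (by simpa using hn)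
    refine (Local.idealDepth_eq_zero_of_exists
      (mt (Basic.smul_top_eq_top_iff_map I).mpr hI) ⟨m, hm, ?_⟩).symm
    intro b hb
    induction hb using Submodule.span_induction with
    | mem x hx =>
      obtain ⟨a, ha, rfl⟩ := hx
      rw [algebraMap_smul, hk a ha]
    | zero => simp
    | add x y _ _ hx hy => rw [add_smul, hx, hy, add_zero]
    | smul c x _ hx => rw [smul_assoc, hx, smul_zero]
  | succ n ih =>
    obtain ⟨x, hx, hreg, hI', hn'⟩ := Local.exists_regular_of_idealDepth_eq_succ hn
    let e : QuotSMulTop x M ≃ₗ[A] QuotSMulTop (algebraMap A B x) M :=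
      Submodule.quotEquivOfEq _ ((algebraMap A B x • (⊤ : Submodule B M)).restrictScalars A) (by
          ext m
          simp [Submodule.mem_smul_pointwise_iff_exists]) ≪≫ₗ
        Submodule.Quotient.restrictScalarsEquiv A _
    haveI : Module.Finite A (QuotSMulTop (algebraMap A B x) M) := Module.Finite.equiv e
    rw [← SES.idealDepth_quotSMulTop I hx hreg,
      ← SES.idealDepth_quotSMulTop (I.map (algebraMap A B)) (Ideal.mem_map_of_mem _ hx)
        ((isSMulRegular_algebraMap_iff (M := M) (A := B) (r := x)).mpr hreg),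
      Basic.idealDepth_congr I e,
      ih (QuotSMulTop (algebraMap A B x) M)
        ((Basic.smul_top_eq_top_congr I e).not.mp hI')
        ((Basic.idealDepth_congr I e).symm.trans hn')]

end Groth.Agent.H84.Segre.DepthPi
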