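import Mathlib
import Groth.Prelude.Def_GrSeg
import Groth.Prelude.Def_GrLC
import Groth.Agent.H84.Segre.DimOneCoh

/-!
# Cohen-Macaulayness of a Segre product with a one-dimensional factor
-/

set_option autoImplicit false
set_option linter.style.haveILetI false
set_option linter.unusedSectionVars false

universe u

namespace Groth.Agent.H84.Segre.DimOneMain

open DirectSum TensorProduct

variable {k : Type u} [Field k] {R : Type u} [CommRing R] [Algebra k R]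
  (𝒜 : ℤ → Submodule k R) [GradedAlgebra 𝒜] [Algebra.FiniteType k R]
  {S : Type u} [CommRing S] [Algebra k S] (ℬ : ℤ → Submodule k S) [GradedAlgebra ℬ]
  [Algebra.FiniteType k S]
  {T : Type u} [CommRing T] [Algebra k T] (𝒯 : ℤ → Submodule k T) [GradedAlgebra 𝒯]
  (ψ : T →ₐ[k] R ⊗[k] S)
  {M : Type u} [AddCommGroup M] [Module R M] [Module k M] [IsScalarTower k R M]
  (ℳ : ℤ → AddSubgroup M) [DirectSum.Decomposition ℳ] [SetLike.GradedSMul 𝒜 ℳ] [Module.Finite R M]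
  {N : Type u} [AddCommGroup N] [Module S N] [Module k N] [IsScalarTower k S N]
  (𝒩 : ℤ → AddSubgroup N) [DirectSum.Decomposition 𝒩] [SetLike.GradedSMul ℬ 𝒩] [Module.Finite S N]
  {P : Type u} [AddCommGroup P] [Module T P] [Module k P] [IsScalarTower k T P]
  (𝒬 : ℤ → AddSubgroup P) [DirectSum.Decomposition 𝒬] (φ : P →ₗ[k] M ⊗[k] N)

/-- Degree zero part and positivity of a Segre product. -/
theorem segre_pos (hposR : ∀ n : ℤ, n < 0 → 𝒜 n = ⊥) (h0R : 𝒜 0 = Submodule.span k {(1 : R)})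
    (h0S : ℬ 0 = Submodule.span k {(1 : S)}) (hT : GrSeg.IsSegreRing 𝒜 ℬ 𝒯 ψ) :
    (∀ n : ℤ, n < 0 → 𝒯 n = ⊥) ∧ 𝒯 0 = Submodule.span k {(1 : T)} := by
  refine ⟨fun n hn => ?_, ?_⟩
  · refine Submodule.map_injective_of_injective (f := ψ.toLinearMap) hT.1 ?_
    rw [hT.2 n, Submodule.map_bot, GrSeg.segrePiece, Submodule.span_eq_bot]
    rintro _ ⟨a, ha, b, -, rfl⟩
    rw [hposR n hn, Submodule.mem_bot] at ha
    rw [ha, zero_tmul]
  · refine Submodule.map_injective_of_injective (f := ψ.toLinearMap) hT.1 ?_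
    rw [hT.2 0, Submodule.map_span, Set.image_singleton, GrSeg.segrePiece]
    refine le_antisymm (Submodule.span_le.mpr ?_) (Submodule.span_le.mpr ?_)
    · rintro _ ⟨a, ha, b, hb, rfl⟩
      rw [h0R, Submodule.mem_span_singleton] at ha
      rw [h0S, Submodule.mem_span_singleton] at hb
      obtain ⟨c, rfl⟩ := ha
      obtain ⟨c', rfl⟩ := hb
      refine Submodule.mem_span_singleton.mpr ⟨c * c', ?_⟩
      simp [Algebra.TensorProduct.one_def, smul_tmul', tmul_smul, smul_smul, mul_comm]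
    · rintro _ rfl
      refine Submodule.subset_span ⟨1, SetLike.one_mem_graded 𝒜, 1, SetLike.one_mem_graded ℬ, ?_⟩
      simp [Algebra.TensorProduct.one_def]

theorem main (hposR : ∀ n : ℤ, n < 0 → 𝒜 n = ⊥) (h0R : 𝒜 0 = Submodule.span k {(1 : R)})
    (hposS : ∀ n : ℤ, n < 0 → ℬ n = ⊥) (h0S : ℬ 0 = Submodule.span k {(1 : S)})
    (hT : GrSeg.IsSegreRing 𝒜 ℬ 𝒯 ψ) (hP : GrSeg.IsSegreMod ψ ℳ 𝒩 𝒬 φ) [Nontrivial P]
    (mR : HomogeneousIdeal 𝒜)
    (hmR : mR.toIdeal = Ideal.span (⋃ n ∈ Set.Ioi (0 : ℤ), (𝒜 n : Set R)))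
    (EM : GrLC.StarInjRes 𝒜 ℳ)
    (s : ℕ) (h1s : 1 ≤ s) (hdM : Module.supportDim R M = 1) (hdN : Module.supportDim S N = s)
    (hMcm : ∀ (q : Ideal R) [q.IsPrime], Subsingleton (LocalizedModule q.primeCompl M) ∨
      LocCoh.IsCohenMacaulayModule (Localization.AtPrime q) (LocalizedModule q.primeCompl M))
    (hNcm : ∀ (q : Ideal S) [q.IsPrime], Subsingleton (LocalizedModule q.primeCompl N) ∨
      LocCoh.IsCohenMacaulayModule (Localization.AtPrime q) (LocalizedModule q.primeCompl N)) :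
    (2 ≤ s → ((∀ (q : Ideal T) [q.IsPrime], Subsingleton (LocalizedModule q.primeCompl P) ∨
        LocCoh.IsCohenMacaulayModule (Localization.AtPrime q) (LocalizedModule q.primeCompl P)) ↔
        ∀ d : ℤ, EM.Hcomp mR 1 d = ⊥ ∨ 𝒩 d = ⊥)) ∧
      (s = 1 → (∀ (q : Ideal T) [q.IsPrime], Subsingleton (LocalizedModule q.primeCompl P) ∨
        LocCoh.IsCohenMacaulayModule (Localization.AtPrime q) (LocalizedModule q.primeCompl P))) := by
  classical
  haveI : IsNoetherianRing T :=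
    Groth.Agent.S18646.result k R 𝒜 hposR h0R S ℬ hposS h0S T 𝒯 ψ hT.1 hT.2
  haveI : Module.Finite T P :=
    Groth.Agent.S19747.result k R 𝒜 hposR h0R S ℬ hposS h0S T 𝒯 ψ hT M ℳ N 𝒩 P 𝒬 φ hP
  haveI : SetLike.GradedSMul 𝒯 𝒬 := ⟨fun {i j t p} ht hp => by
    refine H83.Segre.mem_of_segre hP ?_
    rw [hP.map_smul]
    exact H83.Segre.act_segre (𝒜' := 𝒜) (ℬ' := ℬ) (ℳ' := ℳ) (𝒩' := 𝒩) (i := i) (n := j)
      (m := i + j) (fun r hr a ha => SetLike.GradedSMul.smul_mem (A := 𝒜) (B := ℳ) hr ha)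
      (fun c hc b hb => SetLike.GradedSMul.smul_mem (A := ℬ) (B := 𝒩) hc hb)
      ((hT.2 i).le ⟨t, ht, rfl⟩) (H83.Segre.mod_mem_segre hP hp)⟩
  obtain ⟨hposT, h0T⟩ := segre_pos 𝒜 ℬ 𝒯 ψ hposR h0R h0S hT
  haveI : Algebra.FiniteType k T := Dim1.finiteType 𝒯 hposT h0T
  obtain ⟨X⟩ := DiagBasis.exists_setup (𝒜 := 𝒜) (ℬ := ℬ) (𝒯 := 𝒯) (ψ := ψ) (ℳ := ℳ) (𝒩 := 𝒩)
    hposR h0R hposS h0S hT hdM hdN hMcm hNcm
  have hdP : Module.supportDim T P = (s : ℕ) := by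
    have := (CMDim.supportDim_segre_cm 𝒜 hposR h0R ℬ hposS h0S T 𝒯 ψ hT ℳ 𝒩 P 𝒬 φ hP 1 s le_rfl h1s
      (by rw [hdM, Nat.cast_one]) hdN hMcm hNcm).resolve_right (not_subsingleton P)
    rwa [show 1 + s - 1 = s by omega] at this
  have hiff := DimOneCoh.vanish_iff_good hposR X mR hmR EM
  refine ⟨fun h2 => ⟨fun hcm => hiff.mpr ?_, fun h q _ => ?_⟩, fun h1 q _ => ?_⟩
  · by_contra hbad
    exact DimOne.not_cm hposT h0T hT h2 hdP X hP hbad hcm
  · exact DimOne.cm_of_good h1s X hP (Or.inl (hiff.mp h)) q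
  · exact DimOne.cm_of_good h1s X hP (Or.inr h1) q

end Groth.Agent.H84.Segre.DimOneMain
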