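import Mathlib
import Groth.Prelude.Def_GrSeg
import Groth.Agent.H84.Segre.CMDim
import Groth.Agent.Lib.Depth.Basic
import Groth.Agent.H18.CMPoly
import Groth.Agent.Lib.Excellent.Transport

/-!
# Segre products with a polynomial ring in one variable
-/

set_option autoImplicit false

universe u v

namespace Groth.Agent.H84.Segre.Line

open TensorProduct MvPolynomial RingTheory.Sequence
open Groth.Agent.Lib.Depth

attribute [local instance] MvPolynomial.weightedGradedAlgebra

section Depth

/-- If modulo every regular element of `I` some nonzero element is killed by `I`,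
the depth is at most one. -/
theorem idealDepth_le_one {A : Type u} [CommRing A] (I : Ideal A) {M : Type v} [AddCommGroup M]
    [Module A M] (hI : I • (⊤ : Submodule A M) ≠ ⊤)
    (h : ∀ x ∈ I, IsSMulRegular M x → ∃ z : M, (∀ y : M, z ≠ x • y) ∧
      ∀ r ∈ I, ∃ y : M, r • z = x • y) :
    LocCoh.idealDepth I M ≤ 1 := by
  by_contra hc
  have h2 : ((2 : ℕ) : ℕ∞) ≤ LocCoh.idealDepth I M := by
    rw [not_le] at hc
    have := Order.add_one_le_of_lt hc
    rw [one_add_one_eq_two] at this
    exact this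
  obtain ⟨rs, hl, hmem, hreg⟩ := (Basic.le_idealDepth_iff_of_ne_top hI 2).mp h2
  obtain ⟨x, r, rfl⟩ := List.length_eq_two.mp hl
  rw [isWeaklyRegular_cons_iff, isWeaklyRegular_singleton_iff] at hreg
  obtain ⟨z, hz, hzI⟩ := h x (hmem x (by simp)) hreg.1
  obtain ⟨y, hy⟩ := hzI r (hmem r (by simp))
  have h0 : (Submodule.Quotient.mk z : QuotSMulTop x M) = 0 := by
    refine hreg.2 ?_
    show r • (Submodule.Quotient.mk z : QuotSMulTop x M) = r • 0
    rw [smul_zero, ← Submodule.Quotient.mk_smul, hy, Submodule.Quotient.mk_eq_zero]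
    exact Submodule.smul_mem_pointwise_smul y x ⊤ Submodule.mem_top
  rw [Submodule.Quotient.mk_eq_zero] at h0
  obtain ⟨y', -, hy'⟩ := (Submodule.mem_smul_pointwise_iff_exists _ _ _).mp h0
  exact hz y' hy'.symm

end Depth

variable {k : Type u} [Field k] {s : ℕ}

local notation "X₁" => MvPolynomial (Fin 1) k
local notation "Yₛ" => MvPolynomial (Fin s) k

variable (k s) in
/-- `Yᵢ ↦ X ⊗ Yᵢ`. -/
noncomputable def θ : Yₛ →ₐ[k] X₁ ⊗[k] Yₛ :=
  aeval fun i => (X 0 : X₁) ⊗ₜ[k] (X i : Yₛ)

variable (k s) in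
/-- Setting the variable of the first factor to one. -/
noncomputable def ε : X₁ ⊗[k] Yₛ →ₐ[k] Yₛ :=
  Algebra.TensorProduct.lift (aeval fun _ => (1 : Yₛ)) (AlgHom.id k Yₛ) fun _ _ => Commute.all _ _

theorem ε_tmul (f : X₁) (g : Yₛ) : ε k s (f ⊗ₜ g) = aeval (fun _ => (1 : Yₛ)) f * g :=
  Algebra.TensorProduct.lift_tmul _ _ _ _ _

theorem ε_θ (g : Yₛ) : ε k s (θ k s g) = g := by
  have : (ε k s).comp (θ k s) = AlgHom.id k Yₛ := by
    refine algHom_ext fun i => ?_
    simp [θ, ε_tmul]
  exact DFunLike.congr_fun this g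

theorem aeval_monomial_one (e : Fin 1 →₀ ℕ) (c : k) :
    aeval (fun _ : Fin 1 => (1 : Yₛ)) (monomial e c) = C c := by
  rw [aeval_monomial]
  simp [algebraMap_eq]

theorem θ_monomial (e : Fin s →₀ ℕ) (c : k) :
    θ k s (monomial e c) =
      (monomial (Finsupp.single 0 (∑ i, e i)) 1 : X₁) ⊗ₜ[k] (monomial e c : Yₛ) := by
  have h : ∀ (n : Fin s → ℕ),
      ∏ i, ((X 0 : X₁) ⊗ₜ[k] (X i : Yₛ)) ^ n i =
        ((X 0 : X₁) ^ ∑ i, n i) ⊗ₜ[k] ∏ i, (X i : Yₛ) ^ n i := by
    intro n
    simp only [Algebra.TensorProduct.tmul_pow]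
    rw [← Finset.prod_pow_eq_pow_sum]
    induction (Finset.univ : Finset (Fin s)) using Finset.cons_induction with
    | empty => simp [Algebra.TensorProduct.one_def]
    | cons a t ha ih =>
      rw [Finset.prod_cons, Finset.prod_cons, Finset.prod_cons, ih,
        Algebra.TensorProduct.tmul_mul_tmul]
  rw [θ, aeval_monomial, Finsupp.prod_fintype _ _ fun i => pow_zero _, h,
    monomial_eq (s := e), Finsupp.prod_fintype _ _ fun i => pow_zero _, X_pow_eq_monomial]
  rw [← Algebra.smul_def, ← TensorProduct.tmul_smul, Algebra.smul_def, algebraMap_eq]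

/-- A weight one monomial of `k[X]` is a power of `X`. -/
theorem eq_single (e : Fin 1 →₀ ℕ) : e = Finsupp.single 0 (e 0) := by
  refine Finsupp.ext fun i => ?_
  rw [Subsingleton.elim i 0, Finsupp.single_eq_same]

local notation "𝒳" => weightedHomogeneousSubmodule k (fun _ : Fin 1 => (1 : ℤ))
local notation "𝒴" => weightedHomogeneousSubmodule k (fun _ : Fin s => (1 : ℤ))

theorem weight_eq {σ : Type} [Fintype σ] (e : σ →₀ ℕ) :
    Finsupp.weight (fun _ : σ => (1 : ℤ)) e = ((∑ i, e i : ℕ) : ℤ) := by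
  simp [Finsupp.weight_apply, Finsupp.sum_fintype]

/-- `⊕ₙ Xₙ₊ₐ ⊗ Yₙ₊ᵦ` is recovered from its image in `k[Y]`. -/
theorem span_le_lift (d : ℤ) :
    ∀ v ∈ Submodule.span k {v : X₁ ⊗[k] Yₛ | ∃ (i j : ℤ), i - j = d ∧ ∃ f ∈ 𝒳 i, ∃ g ∈ 𝒴 j,
        v = f ⊗ₜ[k] g},
      v = (basisMonomials (Fin s) k).constr k (fun e : Fin s →₀ ℕ =>
        (monomial (Finsupp.single 0 (((∑ i, e i : ℕ) : ℤ) + d).toNat) 1 : X₁) ⊗ₜ[k]
          (monomial e 1 : Yₛ)) (ε k s v) ∧
      ∀ e ∈ (ε k s v).support, 0 ≤ ((∑ i, e i : ℕ) : ℤ) + d := by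
  intro v hv
  induction hv using Submodule.span_induction with
  | zero => simp
  | add a b _ _ ha hb =>
    refine ⟨by conv_lhs => rw [ha.1, hb.1, ← map_add, ← map_add], fun e he => ?_⟩
    rw [map_add] at he
    rcases Finset.mem_union.mp (MvPolynomial.support_add he) with h | h
    · exact ha.2 e h
    · exact hb.2 e h
  | smul c a _ ha =>
    refine ⟨by conv_lhs => rw [ha.1, ← map_smul, ← map_smul], fun e he => ?_⟩
    rw [map_smul] at he
    exact ha.2 e (MvPolynomial.support_smul he)
  | mem v hv =>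
    obtain ⟨i, j, hij, f, hf, g, hg, rfl⟩ := hv
    rw [mem_weightedHomogeneousSubmodule] at hf hg
    rcases eq_or_ne f 0 with rfl | hf0
    · simp
    obtain ⟨a, ha⟩ := MvPolynomial.support_nonempty.mpr hf0
    have hai : ((a 0 : ℕ) : ℤ) = i := by
      have := hf (mem_support_iff.mp ha)
      rw [weight_eq] at this
      simpa using this
    have hfm : f = monomial (Finsupp.single 0 (a 0)) (f.coeff a) := by
      refine MvPolynomial.ext _ _ fun e => ?_
      rw [← eq_single a, coeff_monomial]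
      split_ifs with h
      · rw [h]
      · by_contra hne
        refine h ?_
        have := hf hne
        rw [weight_eq] at this
        rw [eq_single a, eq_single e]
        simp only [Finset.univ_unique, Fin.default_eq_zero, Finset.sum_singleton] at this
        rw [show e 0 = a 0 by omega]
    have hε : ε k s (f ⊗ₜ[k] g) = f.coeff a • g := by
      rw [ε_tmul, hfm, aeval_monomial_one, ← smul_eq_C_mul, coeff_monomial, if_pos]
      exact (eq_single a).symm
    constructor
    · rw [hε, map_smul]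
      conv_lhs => rw [hfm, g.as_sum]
      conv_rhs => rw [g.as_sum, map_sum, Finset.smul_sum]
      rw [TensorProduct.tmul_sum]
      refine Finset.sum_congr rfl fun e he => ?_
      have hej : ((∑ l, e l : ℕ) : ℤ) = j := by
        have := hg (mem_support_iff.mp he)
        rwa [weight_eq] at this
      have hb : (monomial e (g.coeff e) : Yₛ) = g.coeff e • basisMonomials (Fin s) k e := by
        simp [smul_monomial]
      rw [hb, map_smul, Module.Basis.constr_basis, hej, show j + d = i by omega,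
        show i.toNat = a 0 by omega]
      simp only [coe_basisMonomials]
      rw [show (monomial (Finsupp.single 0 (a 0)) (f.coeff a) : X₁) =
          f.coeff a • monomial (Finsupp.single 0 (a 0)) 1 by simp [smul_monomial],
        TensorProduct.smul_tmul', TensorProduct.tmul_smul, TensorProduct.smul_tmul']
      simp only [TensorProduct.smul_tmul']
      rw [smul_comm]
    · intro e he
      rw [hε] at he
      have := hg (mem_support_iff.mp (MvPolynomial.support_smul he))
      rw [weight_eq] at this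
      omega

theorem θ_mem {n : ℤ} {g : Yₛ} (hg : g ∈ 𝒴 n) :
    θ k s g ∈ GrSeg.segrePiece k 𝒳 𝒴 n := by
  rw [g.as_sum, map_sum]
  refine Submodule.sum_mem _ fun e he => ?_
  rw [θ_monomial]
  have hn := hg (mem_support_iff.mp he)
  refine Submodule.subset_span ⟨_, ?_, _, ?_, rfl⟩
  · refine isWeightedHomogeneous_monomial _ _ _ ?_
    rw [weight_eq] at hn ⊢
    simpa using hn
  · exact isWeightedHomogeneous_monomial _ _ _ hn

/-- `T ≅ k[Y]`. -/
theorem τ_bijective (T : Type u) [CommRing T] [Algebra k T] (𝒯 : ℤ → Submodule k T) [GradedAlgebra 𝒯]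
    (ψ : T →ₐ[k] TensorProduct k (MvPolynomial (Fin 1) k) (MvPolynomial (Fin s) k))
    (hT : GrSeg.IsSegreRing 𝒳 𝒴 𝒯 ψ) :
    Function.Bijective ((ε k s).comp ψ) ∧ ∀ t, ψ t = θ k s (ε k s (ψ t)) := by
  classical
  have key : ∀ t, ψ t = θ k s (ε k s (ψ t)) := by
    intro t
    rw [← DirectSum.sum_support_decompose 𝒯 t]
    simp only [map_sum]
    refine Finset.sum_congr rfl fun n _ => ?_
    have h : ψ (DirectSum.decompose 𝒯 t n : T) ∈ GrSeg.segrePiece k 𝒳 𝒴 n :=
      hT.2 n ▸ Submodule.mem_map_of_mem (DirectSum.decompose 𝒯 t n).2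
    obtain ⟨h1, -⟩ := span_le_lift (k := k) (s := s) 0 _ (Submodule.span_le.mpr (by
      rintro _ ⟨f, hf, g, hg, rfl⟩
      exact Submodule.subset_span ⟨n, n, sub_self n, f, hf, g, hg, rfl⟩) h)
    conv_lhs => rw [h1]
    refine LinearMap.congr_fun
      (show ((basisMonomials (Fin s) k).constr k _) = (θ k s).toLinearMap from ?_) _
    refine (basisMonomials (Fin s) k).ext fun e => ?_
    rw [Module.Basis.constr_basis, show (((∑ i, e i : ℕ) : ℤ) + 0).toNat = ∑ i, e i from (congrArg Int.toNat (add_zero _)).trans (Int.toNat_natCast _)]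
    simp [θ_monomial]
  refine ⟨⟨fun a b hab => hT.1 (by rw [key a, key b]; exact congrArg _ hab), fun g => ?_⟩, key⟩
  have hg : θ k s g ∈ ψ.range := by
    rw [g.as_sum, map_sum]
    refine Subalgebra.sum_mem _ fun e _ => ?_
    have h := θ_mem (k := k) (s := s) (g := monomial e (g.coeff e))
      (isWeightedHomogeneous_monomial _ _ _ rfl)
    rw [← hT.2] at h
    obtain ⟨t, -, ht⟩ := Submodule.mem_map.mp h
    exact ⟨t, ht⟩
  obtain ⟨t, ht⟩ := hg
  exact ⟨t, show ε k s (ψ t) = g by rw [← ε_θ (k := k) g]; exact congrArg _ ht⟩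

/-- The main statement. -/
theorem main (T : Type u) [CommRing T] [Algebra k T] (𝒯 : ℤ → Submodule k T) [GradedAlgebra 𝒯]
    (ψ : T →ₐ[k] TensorProduct k (MvPolynomial (Fin 1) k) (MvPolynomial (Fin s) k))
    (h2s : 2 ≤ s) (hT : GrSeg.IsSegreRing 𝒳 𝒴 𝒯 ψ) (mT : HomogeneousIdeal 𝒯)
    (hmT : mT.toIdeal = Ideal.span (⋃ n ∈ Set.Ioi (0 : ℤ), (𝒯 n : Set T))) (a b : ℤ)
    (P : Type u) [AddCommGroup P] [Module T P] [Module k P] [IsScalarTower k T P]
    (𝒬 : ℤ → AddSubgroup P) [DirectSum.Decomposition 𝒬] (φ : P →ₗ[k] TensorProduct k (MvPolynomial (Fin 1) k) (MvPolynomial (Fin s) k))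
    (hP : GrSeg.IsSegreMod ψ (fun n : ℤ => 𝒳 (n + a)) (fun n : ℤ => 𝒴 (n + b)) 𝒬 φ) :
    (b ≤ a → ∀ (q : Ideal T) [q.IsPrime], Subsingleton (LocalizedModule q.primeCompl P) ∨
      LocCoh.IsCohenMacaulayModule (Localization.AtPrime q) (LocalizedModule q.primeCompl P)) ∧
    (a < b → LocCoh.idealDepth mT.toIdeal P = (1 : ℕ∞)) := by
  classical
  obtain ⟨hτ, hψθ⟩ := τ_bijective T 𝒯 ψ hT
  let τ : T ≃ₐ[k] Yₛ := AlgEquiv.ofBijective _ hτ
  set d := a - b
  -- `P` inside `k[Y]`
  have hsp : ∀ p : P, φ p ∈ Submodule.span k {v : X₁ ⊗[k] Yₛ | ∃ (i j : ℤ), i - j = d ∧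
      ∃ f ∈ 𝒳 i, ∃ g ∈ 𝒴 j, v = f ⊗ₜ[k] g} := by
    intro p
    rw [← DirectSum.sum_support_decompose 𝒬 p, map_sum]
    refine Submodule.sum_mem _ fun n _ => ?_
    have h : φ (DirectSum.decompose 𝒬 p n : P) ∈
        GrSeg.segrePiece k (fun n : ℤ => 𝒳 (n + a)) (fun n : ℤ => 𝒴 (n + b)) n := by
      rw [← SetLike.mem_coe, ← hP.image_piece n]
      exact ⟨_, (DirectSum.decompose 𝒬 p n).2, rfl⟩
    refine Submodule.span_le.mpr ?_ h
    rintro _ ⟨f, hf, g, hg, rfl⟩
    exact Submodule.subset_span ⟨n + a, n + b, by simp [d], f, hf, g, hg, rfl⟩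
  let η : P →ₗ[k] Yₛ := (ε k s).toLinearMap ∘ₗ φ
  have hη : Function.Injective η := by
    intro p p' h
    refine hP.injective ?_
    rw [(span_le_lift d _ (hsp p)).1, (span_le_lift d _ (hsp p')).1]
    exact congrArg _ h
  have hηsupp : ∀ p, ∀ e ∈ (η p).support, 0 ≤ ((∑ i, e i : ℕ) : ℤ) + d :=
    fun p => (span_le_lift d _ (hsp p)).2
  have hηsurj : ∀ g : Yₛ, (∀ e ∈ g.support, 0 ≤ ((∑ i, e i : ℕ) : ℤ) + d) → ∃ p, η p = g := by
    intro g hg
    suffices h : g ∈ LinearMap.range η from h
    rw [g.as_sum]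
    refine Submodule.sum_mem _ fun e he => ?_
    have hmem : (monomial (Finsupp.single 0 (((∑ i, e i : ℕ) : ℤ) + d).toNat) 1 : X₁) ⊗ₜ[k]
        (monomial e (g.coeff e) : Yₛ) ∈ GrSeg.segrePiece k (fun n : ℤ => 𝒳 (n + a))
          (fun n : ℤ => 𝒴 (n + b)) (((∑ i, e i : ℕ) : ℤ) - b) := by
      refine Submodule.subset_span ⟨_, ?_, _, ?_, rfl⟩
      · refine isWeightedHomogeneous_monomial _ _ _ ?_
        rw [weight_eq, Fin.sum_univ_one, Finsupp.single_eq_same, Int.toNat_of_nonneg (hg e he)]
        simp only [d]; ring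
      · refine isWeightedHomogeneous_monomial _ _ _ ?_
        rw [weight_eq]; ring
    rw [← SetLike.mem_coe, ← hP.image_piece] at hmem
    obtain ⟨p, -, hp⟩ := hmem
    refine ⟨p, ?_⟩
    show ε k s (φ p) = _
    rw [hp, ε_tmul, aeval_monomial_one, map_one, one_mul]
  have hlin : ∀ (t : T) (p : P), η (t • p) = τ t * η p := by
    intro t p
    show ε k s (φ (t • p)) = ε k s (ψ t) * ε k s (φ p)
    rw [hP.map_smul, CMDim.act_self, map_mul]
  constructor
  · intro hba q _
    right
    obtain ⟨p₀, hp₀⟩ := hηsurj 1 fun e _ => by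
      have : (0 : ℤ) ≤ ((∑ i, e i : ℕ) : ℤ) := Int.natCast_nonneg _
      simp only [d]; omega
    let e : T ≃ₗ[T] P := LinearEquiv.ofBijective (LinearMap.toSpanSingleton T P p₀)
      ⟨fun t t' h => τ.injective (by
          have := congrArg η h
          simpa [hlin, hp₀] using this),
        fun p => ⟨τ.symm (η p), hη (by simp [hlin, hp₀])⟩⟩
    haveI : LocCoh.IsCohenMacaulayRing k :=
      ⟨fun p _ => CM.isCohenMacaulayLocalRing_iff.mpr (by
        refine le_trans ?_ (WithBot.coe_le_coe.mpr zero_le)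
        rw [IsLocalization.AtPrime.ringKrullDim_eq_height p, Ideal.eq_bot_of_prime p,
          Ideal.height_bot])⟩
    haveI := Groth.Agent.H18.CMPoly.mvPolynomial k s
    haveI : LocCoh.IsCohenMacaulayRing T :=
      Groth.Agent.Lib.Excellent.Transport.isoInvariant_isCohenMacaulayRing _ _
        τ.toRingEquiv.symm ‹_›
    haveI := LocCoh.IsCohenMacaulayRing.isCohenMacaulayLocalRing_localization (R := T) q
    refine (CM.isCohenMacaulayModule_congr ?_).mp (CM.isCohenMacaulayModule_self
      (R := Localization.AtPrime q))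
    exact (IsLocalizedModule.linearEquiv q.primeCompl (Algebra.linearMap T (Localization.AtPrime q))
      (LocalizedModule.mkLinearMap q.primeCompl T)).extendScalarsOfIsLocalization q.primeCompl
        (Localization.AtPrime q) ≪≫ₗ
      (IsLocalizedModule.linearEquiv q.primeCompl (LocalizedModule.mkLinearMap q.primeCompl T)
        ((LocalizedModule.mkLinearMap q.primeCompl P).comp e.toLinearMap)).extendScalarsOfIsLocalization
          q.primeCompl (Localization.AtPrime q)
  · intro hab
    have hd : d < 0 := by simp [d]; omega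
    have hmTτ : ∀ t ∈ mT.toIdeal, ∀ e ∈ (τ t).support, 1 ≤ ∑ i, e i := by
      intro t ht
      suffices h : τ t ∈ Ideal.span (Set.range (X : Fin s → Yₛ)) by
        intro e he
        obtain ⟨i, _, hi⟩ := mem_ideal_span_X_image.mp
          (show τ t ∈ Ideal.span (X '' (Set.univ : Set (Fin s))) by simpa [Set.image_univ] using h) e he
        exact le_trans (Nat.one_le_iff_ne_zero.mpr hi)
          (Finset.single_le_sum (fun j _ => Nat.zero_le (e j)) (Finset.mem_univ i))
      rw [hmT] at ht
      refine Submodule.span_induction (fun x hx => ?_) (by simp) (fun x y _ _ hx hy => ?_)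
        (fun c x _ hx => ?_) ht
      · obtain ⟨n, hn, hx⟩ := Set.mem_iUnion₂.mp hx
        have hmap : ψ x ∈ GrSeg.segrePiece k 𝒳 𝒴 n := hT.2 n ▸ Submodule.mem_map_of_mem hx
        show ε k s (ψ x) ∈ _
        have hle : GrSeg.segrePiece k 𝒳 𝒴 n ≤
            ((Ideal.span (Set.range (X : Fin s → Yₛ))).restrictScalars k).comap
              (ε k s).toLinearMap := by
          refine Submodule.span_le.mpr ?_
          rintro _ ⟨f, hf, g, hg, rfl⟩
          show ε k s (f ⊗ₜ g) ∈ Ideal.span _
          rw [ε_tmul]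
          refine Ideal.mul_mem_left _ _ ?_
          rw [← Set.image_univ, mem_ideal_span_X_image]
          intro e he
          have := hg (mem_support_iff.mp he)
          rw [weight_eq] at this
          obtain ⟨i, -, hi⟩ : ∃ i ∈ (Finset.univ : Finset (Fin s)), e i ≠ 0 :=
            Finset.exists_ne_zero_of_sum_ne_zero (by
              have := Set.mem_Ioi.mp hn; omega)
          exact ⟨i, Set.mem_univ i, hi⟩
        exact hle hmap
      · rw [map_add]; exact add_mem hx hy
      · rw [smul_eq_mul, map_mul]; exact Ideal.mul_mem_left _ _ hx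
    let i₀ : Fin s := ⟨0, by omega⟩
    set c := (-d).toNat
    have hprod : ∀ (n : ℕ) (f g : Yₛ), (∀ e ∈ f.support, 1 ≤ ∑ i, e i) →
        (∀ e ∈ g.support, n ≤ ∑ i, e i) → ∀ e ∈ (f * g).support, n + 1 ≤ ∑ i, e i := by
      intro n f g hf hg e he
      obtain ⟨e₁, h₁, e₂, h₂, rfl⟩ := Finset.mem_add.mp (MvPolynomial.support_mul f g he)
      simp only [Finsupp.add_apply, Finset.sum_add_distrib]
      have := hf e₁ h₁
      have := hg e₂ h₂
      omega
    have hmono : ∀ n : ℕ, ∀ e ∈ (monomial (Finsupp.single i₀ n) (1 : k)).support,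
        ∑ i, e i = n := by
      intro n e he
      rw [Finset.mem_singleton.mp (MvPolynomial.support_monomial_subset he)]
      simp [Finsupp.single_apply]
    obtain ⟨pc, hpc⟩ := hηsurj (monomial (Finsupp.single i₀ c) 1) fun e he => by
      rw [hmono c e he]; omega
    have hne : mT.toIdeal • (⊤ : Submodule T P) ≠ ⊤ := by
      intro htop
      have hpc' : pc ∈ mT.toIdeal • (⊤ : Submodule T P) := by rw [htop]; trivial
      have : ∀ e ∈ (η pc).support, c + 1 ≤ ∑ i, e i := by
        refine Submodule.smul_induction_on hpc' (fun t ht p _ => ?_) (fun p p' hp hp' => ?_)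
        · rw [hlin]
          exact hprod c _ _ (hmTτ t ht) fun e he => by
            have := hηsupp p e he; omega
        · intro e he
          rw [map_add] at he
          rcases Finset.mem_union.mp (MvPolynomial.support_add he) with h | h
          · exact hp e h
          · exact hp' e h
      have h := this (Finsupp.single i₀ c) (by
        rw [hpc, MvPolynomial.support_monomial, if_neg one_ne_zero]; exact Finset.mem_singleton_self _)
      simp [Finsupp.single_apply] at h
    refine le_antisymm (idealDepth_le_one _ hne fun x hx hreg => ?_) ?_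
    · have hx0 : τ x ≠ 0 := by
        intro h0
        have h1 : pc = 0 := hreg (show x • pc = x • 0 from hη (by simp [hlin, h0]))
        rw [h1, map_zero] at hpc
        exact one_ne_zero (monomial_eq_zero.mp hpc.symm)
      obtain ⟨z, hz⟩ := hηsurj (τ x * monomial (Finsupp.single i₀ (c - 1)) 1) fun e he => by
        have := hprod (c - 1) _ _ (hmTτ x hx) (fun e he => (hmono (c - 1) e he).ge) e he
        omega
      refine ⟨z, fun y hy => ?_, fun r hr => ?_⟩
      · have h1 := congrArg η hy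
        rw [hz, hlin] at h1
        have h2 := hηsupp y (Finsupp.single i₀ (c - 1)) (by
          rw [← mul_left_cancel₀ hx0 h1, MvPolynomial.support_monomial, if_neg one_ne_zero]
          exact Finset.mem_singleton_self _)
        rw [show ∑ i, (Finsupp.single i₀ (c - 1) : Fin s →₀ ℕ) i = c - 1 from by
          rw [Finset.sum_eq_single i₀ (fun j _ hj => Finsupp.single_eq_of_ne hj) (by simp),
            Finsupp.single_eq_same]] at h2
        omega
      · obtain ⟨y, hy⟩ := hηsurj (τ r * monomial (Finsupp.single i₀ (c - 1)) 1) fun e he => by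
          have := hprod (c - 1) _ _ (hmTτ r hr) (fun e he => (hmono (c - 1) e he).ge) e he
          omega
        exact ⟨y, hη (by rw [hlin, hlin, hz, hy]; ring)⟩
    · rw [Basic.one_le_idealDepth_iff]
      refine Or.inr ?_
      have hθmem : θ k s (X i₀) ∈ GrSeg.segrePiece k 𝒳 𝒴 1 := θ_mem (by
        exact isWeightedHomogeneous_X _ _ i₀)
      rw [← hT.2] at hθmem
      obtain ⟨t, ht, hte⟩ := Submodule.mem_map.mp hθmem
      refine ⟨t, ?_, fun p p' h => hη ?_⟩
      · rw [hmT]
        exact Ideal.subset_span (Set.mem_biUnion (Set.mem_Ioi.mpr one_pos) ht)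
      · have h1 := congrArg η h
        simp only [hlin] at h1
        refine mul_left_cancel₀ ?_ h1
        show ε k s (ψ.toLinearMap t) ≠ 0
        rw [hte, ε_θ]
        exact X_ne_zero i₀

end Groth.Agent.H84.Segre.Line
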