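import Mathlib

/-!
# Monomial subquotients over a ring of balanced polynomials

`T` maps to `k[X, Y]` onto the span of the monomials of balanced weight; subquotients of `k[X, Y]`
spanned by monomials are `T`-modules.
-/

set_option autoImplicit false
set_option linter.style.haveILetI false
set_option linter.unusedSectionVars false

universe u

namespace Groth.Agent.H84.Segre.Mono

open MvPolynomial

variable {r s : ℕ}

/-- Exponents. -/
abbrev Exp (r s : ℕ) : Type := (Fin r ⊕ Fin s) →₀ ℕ

/-- Degree in the `X`. -/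
def degX (e : Exp r s) : ℕ := ∑ i : Fin r, e (Sum.inl i)

/-- Degree in the `Y`. -/
def degY (e : Exp r s) : ℕ := ∑ j : Fin s, e (Sum.inr j)

/-- The weight. -/
def dg (e : Exp r s) : ℤ := (degX e : ℤ) - degY e

theorem degX_add (e f : Exp r s) : degX (e + f) = degX e + degX f := by
  simp [degX, Finset.sum_add_distrib]

theorem degY_add (e f : Exp r s) : degY (e + f) = degY e + degY f := by
  simp [degY, Finset.sum_add_distrib]

theorem dg_add (e f : Exp r s) : dg (e + f) = dg e + dg f := by
  simp [dg, degX_add, degY_add]; ring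

theorem dg_zero : dg (0 : Exp r s) = 0 := by simp [dg, degX, degY]

theorem dg_inl (a : Fin r) (n : ℕ) : dg (Finsupp.single (Sum.inl a) n : Exp r s) = n := by
  simp [dg, degX, degY, Finsupp.single_apply]

theorem dg_inr (b : Fin s) (n : ℕ) : dg (Finsupp.single (Sum.inr b) n : Exp r s) = -n := by
  simp [dg, degX, degY, Finsupp.single_apply]

/-- A set of exponents stable under balanced exponents. -/
def Closed (E : Set (Exp r s)) : Prop := ∀ e ∈ E, ∀ v, dg v = 0 → v + e ∈ E

variable {k : Type u} [Field k]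
  {T : Type u} [CommRing T] [Algebra k T] [Algebra T (MvPolynomial (Fin r ⊕ Fin s) k)]
  [IsScalarTower k T (MvPolynomial (Fin r ⊕ Fin s) k)]

variable (k T) in
/-- The span of the monomials with exponents in `E`. -/
noncomputable def K (E : Set (Exp r s)) : Submodule T (MvPolynomial (Fin r ⊕ Fin s) k) :=
  Submodule.span T {p | ∃ e ∈ E, p = monomial e 1}

variable (k T) in
/-- The hypothesis that `T` is the balanced part. -/
structure Balanced (r s : ℕ) [Algebra T (MvPolynomial (Fin r ⊕ Fin s) k)] : Prop where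
  /-- images are balanced -/
  dg_eq : ∀ (t : T), ∀ v ∈ (algebraMap T (MvPolynomial (Fin r ⊕ Fin s) k) t).support, dg v = 0
  /-- balanced monomials are images -/
  exists_mono : ∀ v : Exp r s, dg v = 0 →
    ∃ t : T, algebraMap T (MvPolynomial (Fin r ⊕ Fin s) k) t = monomial v 1

theorem monomial_mem_K {E : Set (Exp r s)} {e : Exp r s} (he : e ∈ E) (c : k) :
    monomial e c ∈ K k T E := by
  rw [← mul_one c, ← smul_eq_mul, ← smul_monomial]
  exact Submodule.smul_of_tower_mem _ c (Submodule.subset_span ⟨e, he, rfl⟩)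

theorem mem_K_of_support {E : Set (Exp r s)} {p : MvPolynomial (Fin r ⊕ Fin s) k}
    (hp : ∀ e ∈ p.support, e ∈ E) : p ∈ K k T E := by
  rw [p.as_sum]
  exact Submodule.sum_mem _ fun e he => monomial_mem_K (hp e he) _

variable (hB : Balanced k T r s)

include hB in
theorem support_of_mem_K {E : Set (Exp r s)} (hE : Closed E) {p : MvPolynomial (Fin r ⊕ Fin s) k}
    (hp : p ∈ K k T E) : ∀ e ∈ p.support, e ∈ E := by
  classical
  induction hp using Submodule.span_induction with
  | mem x hx =>
    obtain ⟨e, he, rfl⟩ := hx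
    intro e' he'
    rw [support_monomial, if_neg one_ne_zero, Finset.mem_singleton] at he'
    exact he' ▸ he
  | zero => simp
  | add x y _ _ hx hy =>
    intro e he
    rcases Finset.mem_union.mp (support_add he) with h | h
    · exact hx e h
    · exact hy e h
  | smul t x _ hx =>
    intro e he
    rw [Algebra.smul_def] at he
    obtain ⟨v, hv, w, hw, rfl⟩ := Finset.mem_add.mp (support_mul _ _ he)
    exact hE w (hx w hw) v (hB.dg_eq t v hv)

include hB in
theorem mem_K_iff {E : Set (Exp r s)} (hE : Closed E) {p : MvPolynomial (Fin r ⊕ Fin s) k} :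
    p ∈ K k T E ↔ ∀ e ∈ p.support, e ∈ E :=
  ⟨support_of_mem_K hB hE, mem_K_of_support⟩

variable (k T) in
/-- A subquotient. -/
abbrev Q (E F : Set (Exp r s)) : Type u :=
  (K k T E) ⧸ (K k T F).comap (K k T E).subtype

theorem mk_eq_zero_iff {E F : Set (Exp r s)} (x : K k T E) :
    (Submodule.Quotient.mk x : Q k T E F) = 0 ↔ (x : MvPolynomial (Fin r ⊕ Fin s) k) ∈ K k T F :=
  Submodule.Quotient.mk_eq_zero _

include hB in
/-- The spans are finitely generated inside a single weight. -/
theorem fg_K {E : Set (Exp r s)} (d : ℤ) (hd : ∀ e ∈ E, dg e = d) : (K k T E).FG := by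
  classical
  obtain ⟨G, hG, hspan⟩ := (Submodule.fg_span_iff_fg_span_finset_subset
    (R := MvPolynomial (Fin r ⊕ Fin s) k) ((fun e : Exp r s => monomial e (1 : k)) '' E)).mp
      (IsNoetherian.noetherian _)
  refine ⟨G, le_antisymm (Submodule.span_le.mpr fun p hp => ?_) (Submodule.span_le.mpr ?_)⟩
  · obtain ⟨e, he, rfl⟩ := hG hp
    exact Submodule.subset_span ⟨e, he, rfl⟩
  rintro _ ⟨e, he, rfl⟩
  have hmem : monomial e (1 : k) ∈
      Ideal.span (G : Set (MvPolynomial (Fin r ⊕ Fin s) k)) := by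
    show _ ∈ Submodule.span _ _
    rw [← hspan]
    exact Submodule.subset_span ⟨e, he, rfl⟩
  let E0 : Set (Exp r s) := {e | e ∈ E ∧ monomial e (1 : k) ∈ G}
  have hle : (G : Set (MvPolynomial (Fin r ⊕ Fin s) k)) =
      (fun e => monomial e (1 : k)) '' E0 := by
    ext p
    constructor
    · intro hp
      obtain ⟨e, he, rfl⟩ := hG hp
      exact ⟨e, ⟨he, hp⟩, rfl⟩
    · rintro ⟨e, ⟨-, hp⟩, rfl⟩
      exact hp
  rw [hle] at hmem
  obtain ⟨m, ⟨hmE, hmG⟩, hme⟩ := (mem_ideal_span_monomial_image.mp hmem) e (by simp)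
  obtain ⟨t, ht⟩ := hB.exists_mono (e - m) (by
    have := dg_add (e - m) m
    rw [tsub_add_cancel_of_le hme, hd e he, hd m hmE] at this
    omega)
  have : monomial e (1 : k) = t • monomial m 1 := by
    rw [Algebra.smul_def, ht, monomial_mul, one_mul, tsub_add_cancel_of_le hme]
  rw [this]
  exact Submodule.smul_mem _ t (Submodule.subset_span hmG)

section Map

variable {E F E' F' : Set (Exp r s)} (w : Exp r s)

/-- Multiplication by a monomial. -/
noncomputable def mulMono : MvPolynomial (Fin r ⊕ Fin s) k →ₗ[T] MvPolynomial (Fin r ⊕ Fin s) k :=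
  LinearMap.mulLeft T (monomial w (1 : k))

theorem mulMono_mem (h : ∀ e ∈ E, w + e ∈ E') {p : MvPolynomial (Fin r ⊕ Fin s) k}
    (hp : p ∈ K k T E) : mulMono (T := T) w p ∈ K k T E' := by
  induction hp using Submodule.span_induction with
  | mem x hx =>
    obtain ⟨e, he, rfl⟩ := hx
    exact Submodule.subset_span ⟨w + e, h e he, by simp [mulMono, monomial_mul]⟩
  | zero => simp
  | add x y _ _ hx hy => rw [map_add]; exact add_mem hx hy
  | smul t x _ hx => rw [map_smul]; exact Submodule.smul_mem _ t hx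

/-- The induced map of subquotients. -/
noncomputable def qmap (hE : ∀ e ∈ E, w + e ∈ E') (hF : ∀ e ∈ F, w + e ∈ F') :
    Q k T E F →ₗ[T] Q k T E' F' :=
  Submodule.mapQ _ _ (((mulMono w).comp (K k T E).subtype).codRestrict (K k T E')
    fun p => mulMono_mem w hE p.2) (fun p hp => mulMono_mem (E := F) (E' := F') w hF hp)

theorem qmap_mk (hE : ∀ e ∈ E, w + e ∈ E') (hF : ∀ e ∈ F, w + e ∈ F') (p : K k T E) :
    qmap (T := T) (k := k) w hE hF (Submodule.Quotient.mk p) =
      Submodule.Quotient.mk ⟨mulMono w p, mulMono_mem w hE p.2⟩ := rfl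

theorem coeff_mulMono (p : MvPolynomial (Fin r ⊕ Fin s) k) (e : Exp r s) :
    coeff (w + e) (mulMono (T := T) w p) = coeff e p := by
  show coeff (w + e) (monomial w 1 * p) = _
  rw [coeff_monomial_mul, one_mul]

include hB in
theorem qmap_injective (hE : ∀ e ∈ E, w + e ∈ E') (hF : ∀ e ∈ F, w + e ∈ F')
    (hcE : Closed E) (hcF' : Closed F') (h : ∀ e ∈ E, w + e ∈ F' → e ∈ F) :
    Function.Injective (qmap (T := T) (k := k) w hE hF) := by
  rw [injective_iff_map_eq_zero]
  intro x hx
  obtain ⟨p, rfl⟩ := Submodule.Quotient.mk_surjective _ x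
  rw [qmap_mk, mk_eq_zero_iff] at hx
  rw [mk_eq_zero_iff]
  refine mem_K_of_support fun e he => h e (support_of_mem_K hB hcE p.2 e he)
    (support_of_mem_K hB hcF' hx _ ?_)
  rw [mem_support_iff, coeff_mulMono]
  exact mem_support_iff.mp he

include hB in
/-- The image of the induced map. -/
theorem mem_range_qmap (hE : ∀ e ∈ E, w + e ∈ E') (hF : ∀ e ∈ F, w + e ∈ F')
    (hcE' : Closed E') (p : K k T E')
    (hp : ∀ e' ∈ E', e' ∈ (p : MvPolynomial (Fin r ⊕ Fin s) k).support →
      e' ∈ F' ∨ ∃ e ∈ E, w + e = e') :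
    (Submodule.Quotient.mk p : Q k T E' F') ∈ LinearMap.range (qmap (T := T) (k := k) w hE hF) := by
  have hkey : ∀ e' ∈ (p : MvPolynomial (Fin r ⊕ Fin s) k).support, ∀ c : k,
      monomial e' c ∈ Submodule.map (K k T E').subtype
        ((LinearMap.range (qmap (T := T) (k := k) w hE hF)).comap (Submodule.mkQ _)) := by
    intro e' he' c
    have hmem := support_of_mem_K hB hcE' p.2 e' he'
    refine ⟨⟨monomial e' c, monomial_mem_K hmem c⟩, ?_, rfl⟩
    rw [SetLike.mem_coe, Submodule.mem_comap, Submodule.mkQ_apply]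
    rcases hp e' hmem he' with h | ⟨e, he, rfl⟩
    · rw [show (Submodule.Quotient.mk _ : Q k T E' F') = 0 from
        (mk_eq_zero_iff _).mpr (monomial_mem_K h c)]
      exact zero_mem _
    · refine ⟨Submodule.Quotient.mk ⟨monomial e c, monomial_mem_K he c⟩, ?_⟩
      rw [qmap_mk]
      congr 1
      exact Subtype.ext (by simp [mulMono, monomial_mul])
  have hsum : (p : MvPolynomial (Fin r ⊕ Fin s) k) ∈ Submodule.map (K k T E').subtype
      ((LinearMap.range (qmap (T := T) (k := k) w hE hF)).comap (Submodule.mkQ _)) := by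
    rw [(p : MvPolynomial (Fin r ⊕ Fin s) k).as_sum]
    exact Submodule.sum_mem _ fun e he => hkey e he _
  obtain ⟨q, hq, hqp⟩ := hsum
  rw [show p = q from Subtype.ext hqp.symm]
  exact hq

include hB in
theorem qmap_surjective (hE : ∀ e ∈ E, w + e ∈ E') (hF : ∀ e ∈ F, w + e ∈ F')
    (hcE' : Closed E') (h : ∀ e' ∈ E', e' ∈ F' ∨ ∃ e ∈ E, w + e = e') :
    Function.Surjective (qmap (T := T) (k := k) w hE hF) := by
  intro x
  obtain ⟨p, rfl⟩ := Submodule.Quotient.mk_surjective _ x
  exact mem_range_qmap hB w hE hF hcE' p fun e he _ => h e he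

end Map

include hB in
/-- The sequence of a chain `F ⊆ G ⊆ E` is exact. -/
theorem exact_chain {E F G : Set (Exp r s)} (hFG : F ⊆ G) (hGE : G ⊆ E) (hcE : Closed E)
    (hcG : Closed G) :
    Function.Exact
      (qmap (T := T) (k := k) (E := G) (F := F) (E' := E) (F' := F) 0
        (fun e he => by simpa using hGE he) (fun e he => by simpa using he))
      (qmap (T := T) (k := k) (E := E) (F := F) (E' := E) (F' := G) 0
        (fun e he => by simpa using he) (fun e he => by simpa using hFG he)) := by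
  intro x
  obtain ⟨p, rfl⟩ := Submodule.Quotient.mk_surjective _ x
  constructor
  · intro h
    rw [qmap_mk, mk_eq_zero_iff] at h
    have h' : (p : MvPolynomial (Fin r ⊕ Fin s) k) ∈ K k T G := by
      simpa [mulMono] using h
    refine mem_range_qmap hB 0 _ _ hcE p fun e _ he => Or.inr ⟨e, ?_, zero_add e⟩
    exact support_of_mem_K hB hcG h' e he
  · rintro ⟨y, hy⟩
    rw [← hy]
    obtain ⟨q, rfl⟩ := Submodule.Quotient.mk_surjective _ y
    rw [qmap_mk, qmap_mk, mk_eq_zero_iff]
    simp [mulMono]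

end Groth.Agent.H84.Segre.Mono
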