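import Mathlib
import Groth.Prelude.Def_CAlg
import Groth.Agent.H84.Segre.Mono
import Groth.Agent.Lib.Depth.Local

/-!
# Depth of the weight pieces of a polynomial ring over its balanced part
-/

set_option autoImplicit false
set_option linter.style.haveILetI false
set_option linter.unusedSectionVars false
set_option linter.unusedSimpArgs false

universe u

namespace Groth.Agent.H84.Segre.MonoDepth

open MvPolynomial Mono
open scoped Pointwise
open Groth.Agent.Lib.Depth LocCoh

variable {r s : ℕ}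

/-- Exponents of weight `d`. -/
def Ed (d : ℤ) : Set (Exp r s) := {e | dg e = d}

/-- Some variable outside `A ∪ B` occurs. -/
def Out (A : Finset (Fin r)) (B : Finset (Fin s)) : Set (Exp r s) :=
  {e | (∃ i, i ∉ A ∧ 0 < e (Sum.inl i)) ∨ ∃ j, j ∉ B ∧ 0 < e (Sum.inr j)}

theorem out_add {A : Finset (Fin r)} {B : Finset (Fin s)} {e : Exp r s} (he : e ∈ Out A B)
    (v : Exp r s) : v + e ∈ Out A B := by
  rcases he with ⟨i, hi, h⟩ | ⟨j, hj, h⟩
  · exact Or.inl ⟨i, hi, by simp [Finsupp.add_apply]; omega⟩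
  · exact Or.inr ⟨j, hj, by simp [Finsupp.add_apply]; omega⟩

theorem closed_Ed (d : ℤ) : Closed (Ed d : Set (Exp r s)) := fun e he v hv => by
  show dg (v + e) = d
  rw [dg_add, hv, show dg e = d from he, zero_add]

theorem closed_inter_out (d : ℤ) (A : Finset (Fin r)) (B : Finset (Fin s)) :
    Closed (Ed d ∩ Out A B : Set (Exp r s)) :=
  fun e he v hv => ⟨closed_Ed d e he.1 v hv, out_add he.2 v⟩

/-- The lower bound. -/
def L (a b : ℕ) (d : ℤ) : ℕ := if (b : ℤ) ≤ d then b else if d ≤ -(a : ℤ) then a else a + b - 1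

variable (k : Type u) [Field k] (T : Type u) [CommRing T] [Algebra k T]
  [Algebra T (MvPolynomial (Fin r ⊕ Fin s) k)] [IsScalarTower k T (MvPolynomial (Fin r ⊕ Fin s) k)]

/-- The piece of weight `d` of the polynomial ring in the variables `A ∪ B`. -/
abbrev M (A : Finset (Fin r)) (B : Finset (Fin s)) (d : ℤ) : Type u :=
  Q k T (Ed d) (Ed d ∩ Out A B : Set (Exp r s))

variable {k T}
variable [IsNoetherianRing T] (hB : Balanced k T r s) (I : Ideal T) [I.IsPrime]
  (hI : ∀ t : T, t ∈ I ↔ coeff 0 (algebraMap T (MvPolynomial (Fin r ⊕ Fin s) k) t) = 0)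

include hB in
theorem finite_Q {E F : Set (Exp r s)} {d : ℤ} (hd : ∀ e ∈ E, dg e = d) :
    Module.Finite T (Q k T E F) := by
  haveI : Module.Finite T (K k T E) := Module.Finite.iff_fg.mpr (fg_K hB d hd)
  infer_instance

/-- A piece with no monomials vanishes. -/
theorem subsingleton_Q (hB : Balanced k T r s) {E F : Set (Exp r s)} (hE : Closed E)
    (h : E ⊆ F) : Subsingleton (Q k T E F) := by
  refine ⟨fun x y => ?_⟩
  suffices h0 : ∀ z : Q k T E F, z = 0 by rw [h0 x, h0 y]
  intro z
  obtain ⟨p, rfl⟩ := Submodule.Quotient.mk_surjective _ z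
  exact (mk_eq_zero_iff p).mpr
    (mem_K_of_support fun e he => h (support_of_mem_K hB hE p.2 e he))

include hI in
theorem coeff_zero_ne (t : T) (ht : t ∉ I) :
    coeff 0 (algebraMap T (MvPolynomial (Fin r ⊕ Fin s) k) t) ≠ 0 := fun h => ht ((hI t).mpr h)

include hB hI in
/-- Pieces with a monomial see the irrelevant ideal. -/
theorem smul_top_ne_top {E F : Set (Exp r s)} {d : ℤ} (hd : ∀ e ∈ E, dg e = d)
    (hcF : Closed F) {e : Exp r s} (he : e ∈ E) (heF : e ∉ F) :
    I • (⊤ : Submodule T (Q k T E F)) ≠ ⊤ := by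
  haveI := finite_Q (F := F) hB hd
  refine Local.smul_top_ne_top_of_mem_support (p := I) (Module.mem_support_iff'.mpr
    ⟨Submodule.Quotient.mk ⟨monomial e 1, monomial_mem_K he 1⟩, fun t ht h => ?_⟩) le_rfl
  rw [← Submodule.Quotient.mk_smul, mk_eq_zero_iff] at h
  refine heF (support_of_mem_K hB hcF h e ?_)
  rw [mem_support_iff, SetLike.val_smul, Algebra.smul_def]
  have h2 := coeff_mul_monomial (0 : Exp r s) e (1 : k) (algebraMap T (MvPolynomial (Fin r ⊕ Fin s) k) t)
  rw [zero_add, mul_one] at h2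
  rw [h2]
  exact coeff_zero_ne I hI t ht

include hB hI in
/-- A monomial killed by the irrelevant ideal gives depth zero. -/
theorem depth_zero {E F : Set (Exp r s)} {d : ℤ} (hd : ∀ e ∈ E, dg e = d) (hcF : Closed F)
    {e : Exp r s} (he : e ∈ E) (heF : e ∉ F) (hkill : ∀ v, dg v = 0 → v ≠ 0 → v + e ∈ F) :
    idealDepth I (Q k T E F) = 0 := by
  classical
  refine Local.idealDepth_eq_zero_of_exists (smul_top_ne_top hB I hI hd hcF he heF)
    ⟨Submodule.Quotient.mk ⟨monomial e 1, monomial_mem_K he 1⟩, fun h => ?_, fun t ht => ?_⟩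
  · rw [mk_eq_zero_iff] at h
    exact heF (support_of_mem_K hB hcF h e (by simp [support_monomial]))
  · rw [← Submodule.Quotient.mk_smul, mk_eq_zero_iff, SetLike.val_smul, Algebra.smul_def]
    refine mem_K_of_support fun f hf => ?_
    obtain ⟨v, hv, w, hw, rfl⟩ := Finset.mem_add.mp (support_mul _ _ hf)
    rw [support_monomial, if_neg one_ne_zero, Finset.mem_singleton] at hw
    subst hw
    refine hkill v (hB.dg_eq t v hv) fun h0 => ?_
    subst h0
    exact mem_support_iff.mp hv ((hI t).mp ht)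

include hB in
/-- A bijective monomial shift identifies depths. -/
theorem depth_shift {E F E' F' : Set (Exp r s)} (w : Exp r s) (hE : ∀ e ∈ E, w + e ∈ E')
    (hF : ∀ e ∈ F, w + e ∈ F') (hcE : Closed E) (hcE' : Closed E') (hcF' : Closed F')
    (hinj : ∀ e ∈ E, w + e ∈ F' → e ∈ F)
    (hsurj : ∀ e' ∈ E', e' ∈ F' ∨ ∃ e ∈ E, w + e = e') :
    idealDepth I (Q k T E F) = idealDepth I (Q k T E' F') :=
  Basic.idealDepth_congr I (LinearEquiv.ofBijective (qmap (T := T) (k := k) w hE hF)
    ⟨qmap_injective hB w hE hF hcE hcF' hinj, qmap_surjective hB w hE hF hcE' hsurj⟩)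

/-- Both distinguished variables occur. -/
def Both (a : Fin r) (b : Fin s) : Set (Exp r s) :=
  {e | 0 < e (Sum.inl a) ∧ 0 < e (Sum.inr b)}

theorem both_add {a : Fin r} {b : Fin s} {e : Exp r s} (he : e ∈ Both a b) (v : Exp r s) :
    v + e ∈ Both a b := by
  obtain ⟨h1, h2⟩ := he
  exact ⟨by simp [Finsupp.add_apply]; omega, by simp [Finsupp.add_apply]; omega⟩

/-- The denominator of `M / x_a y_b M`. -/
def F2 (A : Finset (Fin r)) (B : Finset (Fin s)) (d : ℤ) (a : Fin r) (b : Fin s) : Set (Exp r s) :=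
  Ed d ∩ (Out A B ∪ Both a b)

theorem closed_F2 (A : Finset (Fin r)) (B : Finset (Fin s)) (d : ℤ) (a : Fin r) (b : Fin s) :
    Closed (F2 A B d a b) :=
  fun e he v hv => ⟨closed_Ed d e he.1 v hv, he.2.imp (fun h => out_add h v) (fun h => both_add h v)⟩

include hB hI in
/-- Dividing by `x_a y_b`. -/
theorem depth_drop {A : Finset (Fin r)} {B : Finset (Fin s)} (d : ℤ) {a : Fin r} {b : Fin s}
    (ha : a ∈ A) (hb : b ∈ B) :
    idealDepth I (Q k T (Ed d) (F2 A B d a b)) + 1 = idealDepth I (M k T A B d) := by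
  classical
  set u : Exp r s := Finsupp.single (Sum.inl a) 1 + Finsupp.single (Sum.inr b) 1
  have hu : dg u = 0 := by simp [u, dg_add, dg_inl, dg_inr]
  obtain ⟨x, hx⟩ := hB.exists_mono u hu
  have hxI : x ∈ I := by
    rw [hI, hx, coeff_monomial, if_neg]
    intro h
    simpa [u] using Finsupp.ext_iff.mp h (Sum.inl a)
  haveI := finite_Q (F := (Ed d ∩ Out A B : Set (Exp r s))) hB (E := Ed d) fun e he => he
  have hEu : ∀ e ∈ (Ed d : Set (Exp r s)), u + e ∈ Ed d := fun e he => closed_Ed d e he u hu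
  have hFu : ∀ e ∈ (Ed d ∩ Out A B : Set (Exp r s)), u + e ∈ Ed d ∩ Out A B :=
    fun e he => closed_inter_out d A B e he u hu
  have hμ : ∀ z : M k T A B d,
      qmap (T := T) (k := k) u hEu hFu z = x • z := by
    intro z
    obtain ⟨p, rfl⟩ := Submodule.Quotient.mk_surjective _ z
    rw [qmap_mk, ← Submodule.Quotient.mk_smul]
    congr 1
    exact Subtype.ext (by simp [mulMono, Algebra.smul_def, hx])
  have hreg : IsSMulRegular (M k T A B d) x := by
    intro p q hpq
    refine qmap_injective hB u hEu hFu (closed_Ed d) (closed_inter_out d A B) ?_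
      ((hμ p).trans (hpq.trans (hμ q).symm))
    rintro e he ⟨-, ⟨i, hi, h⟩ | ⟨j, hj, h⟩⟩
    · refine ⟨he, Or.inl ⟨i, hi, ?_⟩⟩
      have : a ≠ i := fun h => hi (h ▸ ha)
      simpa [u, Finsupp.single_apply, this] using h
    · refine ⟨he, Or.inr ⟨j, hj, ?_⟩⟩
      have : b ≠ j := fun h => hj (h ▸ hb)
      simpa [u, Finsupp.single_apply, this] using h
  have hEid : ∀ e ∈ (Ed d : Set (Exp r s)), 0 + e ∈ Ed d := fun e he => by rwa [zero_add]
  have hFsub : ∀ e ∈ (Ed d ∩ Out A B : Set (Exp r s)), 0 + e ∈ F2 A B d a b :=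
    fun e he => by rw [zero_add]; exact ⟨he.1, Or.inl he.2⟩
  let π : M k T A B d →ₗ[T] Q k T (Ed d) (F2 A B d a b) := qmap (T := T) (k := k) 0 hEid hFsub
  have hsurj : Function.Surjective π :=
    qmap_surjective hB 0 hEid hFsub (closed_Ed d) fun e' he' => Or.inr ⟨e', he', zero_add e'⟩
  have hker : LinearMap.ker π = x • (⊤ : Submodule T (M k T A B d)) := by
    ext z
    rw [LinearMap.mem_ker, Submodule.mem_smul_pointwise_iff_exists]
    constructor
    · intro hz
      obtain ⟨p, rfl⟩ := Submodule.Quotient.mk_surjective _ z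
      rw [qmap_mk, mk_eq_zero_iff] at hz
      have hp : (p : MvPolynomial (Fin r ⊕ Fin s) k) ∈ K k T (F2 A B d a b) := by
        simpa [mulMono] using hz
      obtain ⟨y, hy⟩ := mem_range_qmap hB u hEu hFu (closed_Ed d) p fun e' he' hs => by
        rcases (support_of_mem_K hB (closed_F2 A B d a b) hp e' hs).2 with h | h
        · exact Or.inl ⟨he', h⟩
        · refine Or.inr ⟨e' - u, ?_, ?_⟩
          · have hle : u ≤ e' := by
              intro i
              obtain ⟨h1, h2⟩ := h
              rcases i with i | j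
              · by_cases hia : a = i
                · subst hia; simp [u]; omega
                · simp [u, Finsupp.single_apply, hia]
              · by_cases hjb : b = j
                · subst hjb; simp [u]; omega
                · simp [u, Finsupp.single_apply, hjb]
            have h3 := dg_add (e' - u) u
            rw [tsub_add_cancel_of_le hle, show dg e' = d from he', hu, add_zero] at h3
            exact h3.symm
          · refine add_tsub_cancel_of_le fun i => ?_
            obtain ⟨h1, h2⟩ := h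
            rcases i with i | j
            · by_cases hia : a = i
              · subst hia; simp [u]; omega
              · simp [u, Finsupp.single_apply, hia]
            · by_cases hjb : b = j
              · subst hjb; simp [u]; omega
              · simp [u, Finsupp.single_apply, hjb]
      exact ⟨y, trivial, (hμ y).symm.trans hy⟩
    · rintro ⟨y, -, rfl⟩
      rw [← hμ]
      obtain ⟨q, rfl⟩ := Submodule.Quotient.mk_surjective _ y
      rw [qmap_mk, qmap_mk, mk_eq_zero_iff]
      refine mem_K_of_support fun e' he' => ?_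
      have he2 : e' ∈ (mulMono (T := T) u (q : MvPolynomial (Fin r ⊕ Fin s) k)).support := by
        simpa [mulMono] using he'
      obtain ⟨v, hv, w, hw, rfl⟩ := Finset.mem_add.mp (support_mul _ _ he2)
      rw [support_monomial, if_neg one_ne_zero, Finset.mem_singleton] at hv
      subst hv
      refine ⟨hEu w (support_of_mem_K hB (closed_Ed d) q.2 w hw), Or.inr ⟨?_, ?_⟩⟩ <;> simp [u]
  have e : QuotSMulTop x (M k T A B d) ≃ₗ[T] Q k T (Ed d) (F2 A B d a b) :=
    (Submodule.quotEquivOfEq _ _ hker.symm).trans (π.quotKerEquivOfSurjective hsurj)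
  rw [← SES.idealDepth_quotSMulTop I hxI hreg, Basic.idealDepth_congr I e]

/-- A chain of pieces. -/
structure Seq (E G F : Set (Exp r s)) : Prop where
  /-- the bottom -/
  hFG : F ⊆ G
  /-- the top -/
  hGE : G ⊆ E
  /-- closedness -/
  hE : Closed E
  /-- closedness -/
  hG : Closed G
  /-- closedness -/
  hF : Closed F

include hB in
theorem depth_middle {E G F : Set (Exp r s)} (h : Seq E G F) {d : ℤ} (hd : ∀ e ∈ E, dg e = d)
    {n : ℕ} (h1 : (n : ℕ∞) ≤ idealDepth I (Q k T G F))
    (h3 : (n : ℕ∞) ≤ idealDepth I (Q k T E G)) : (n : ℕ∞) ≤ idealDepth I (Q k T E F) := by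
  haveI := finite_Q (k := k) (T := T) (F := F) hB hd
  haveI := finite_Q (k := k) (T := T) (F := G) hB hd
  haveI := finite_Q (k := k) (T := T) (E := G) (F := F) hB fun e he => hd e (h.hGE he)
  exact SES.le_idealDepth_middle I
    (qmap_injective hB 0 _ _ h.hG h.hF fun e _ he => by simpa using he)
    (exact_chain hB h.hFG h.hGE h.hE h.hG)
    (qmap_surjective hB 0 _ _ h.hE fun e' he' => Or.inr ⟨e', he', zero_add e'⟩) h1 h3

include hB in
theorem depth_left {E G F : Set (Exp r s)} (h : Seq E G F) {d : ℤ} (hd : ∀ e ∈ E, dg e = d)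
    {n : ℕ} (h2 : (n : ℕ∞) ≤ idealDepth I (Q k T E F))
    (h3 : ((n - 1 : ℕ) : ℕ∞) ≤ idealDepth I (Q k T E G)) :
    (n : ℕ∞) ≤ idealDepth I (Q k T G F) := by
  haveI := finite_Q (k := k) (T := T) (F := F) hB hd
  haveI := finite_Q (k := k) (T := T) (F := G) hB hd
  haveI := finite_Q (k := k) (T := T) (E := G) (F := F) hB fun e he => hd e (h.hGE he)
  exact SES.le_idealDepth_left I
    (qmap_injective hB 0 _ _ h.hG h.hF fun e _ he => by simpa using he)
    (exact_chain hB h.hFG h.hGE h.hE h.hG)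
    (qmap_surjective hB 0 _ _ h.hE fun e' he' => Or.inr ⟨e', he', zero_add e'⟩) h2 h3

/-- `x_a` occurs. -/
def GX (A : Finset (Fin r)) (B : Finset (Fin s)) (d : ℤ) (a : Fin r) : Set (Exp r s) :=
  Ed d ∩ (Out A B ∪ {e | 0 < e (Sum.inl a)})

/-- `y_b` occurs. -/
def GY (A : Finset (Fin r)) (B : Finset (Fin s)) (d : ℤ) (b : Fin s) : Set (Exp r s) :=
  Ed d ∩ (Out A B ∪ {e | 0 < e (Sum.inr b)})

theorem seqX (A : Finset (Fin r)) (B : Finset (Fin s)) (d : ℤ) (a : Fin r) (b : Fin s) :
    Seq (Ed d) (GX A B d a) (F2 A B d a b) where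
  hFG _ he := ⟨he.1, he.2.imp id fun h => h.1⟩
  hGE _ he := he.1
  hE := closed_Ed d
  hG e he v hv := ⟨closed_Ed d e he.1 v hv, he.2.imp (fun h => out_add h v)
    fun (h : 0 < e (Sum.inl a)) => by simp [Finsupp.add_apply]; omega⟩
  hF := closed_F2 A B d a b

theorem seqY (A : Finset (Fin r)) (B : Finset (Fin s)) (d : ℤ) (a : Fin r) (b : Fin s) :
    Seq (Ed d) (GY A B d b) (F2 A B d a b) where
  hFG _ he := ⟨he.1, he.2.imp id fun h => h.2⟩
  hGE _ he := he.1
  hE := closed_Ed d
  hG e he v hv := ⟨closed_Ed d e he.1 v hv, he.2.imp (fun h => out_add h v)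
    fun (h : 0 < e (Sum.inr b)) => by simp [Finsupp.add_apply]; omega⟩
  hF := closed_F2 A B d a b

theorem GX_eq {A : Finset (Fin r)} (B : Finset (Fin s)) (d : ℤ) (a : Fin r) :
    GX A B d a = (Ed d ∩ Out (A.erase a) B : Set (Exp r s)) := by
  ext e
  simp only [GX, Out, Set.mem_inter_iff, Set.mem_union, Set.mem_setOf_eq, Finset.mem_erase]
  constructor
  · rintro ⟨he, (⟨i, hi, h⟩ | h) | h⟩
    · exact ⟨he, Or.inl ⟨i, fun hh => hi hh.2, h⟩⟩
    · exact ⟨he, Or.inr h⟩
    · exact ⟨he, Or.inl ⟨a, fun hh => hh.1 rfl, h⟩⟩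
  · rintro ⟨he, ⟨i, hi, h⟩ | h⟩
    · by_cases hia : i = a
      · exact ⟨he, Or.inr (hia ▸ h)⟩
      · exact ⟨he, Or.inl (Or.inl ⟨i, fun hh => hi ⟨hia, hh⟩, h⟩)⟩
    · exact ⟨he, Or.inl (Or.inr h)⟩

theorem GY_eq (A : Finset (Fin r)) {B : Finset (Fin s)} (d : ℤ) (b : Fin s) :
    GY A B d b = (Ed d ∩ Out A (B.erase b) : Set (Exp r s)) := by
  ext e
  simp only [GY, Out, Set.mem_inter_iff, Set.mem_union, Set.mem_setOf_eq, Finset.mem_erase]
  constructor
  · rintro ⟨he, (h | ⟨i, hi, h⟩) | h⟩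
    · exact ⟨he, Or.inl h⟩
    · exact ⟨he, Or.inr ⟨i, fun hh => hi hh.2, h⟩⟩
    · exact ⟨he, Or.inr ⟨b, fun hh => hh.1 rfl, h⟩⟩
  · rintro ⟨he, h | ⟨i, hi, h⟩⟩
    · exact ⟨he, Or.inl (Or.inl h)⟩
    · by_cases hia : i = b
      · exact ⟨he, Or.inr (hia ▸ h)⟩
      · exact ⟨he, Or.inl (Or.inr ⟨i, fun hh => hi ⟨hia, hh⟩, h⟩)⟩

include hB in
theorem depth_GX {A : Finset (Fin r)} {B : Finset (Fin s)} (d : ℤ) {a : Fin r} {b : Fin s}
    (ha : a ∈ A) :
    idealDepth I (Q k T (GX A B d a) (F2 A B d a b)) =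
      idealDepth I (M k T A (B.erase b) (d - 1)) := by
  set w : Exp r s := Finsupp.single (Sum.inl a) 1
  have hw : dg w = 1 := by simp [w, dg_inl]
  have hw' : ∀ e : Exp r s, (w + e) (Sum.inl a) = 1 + e (Sum.inl a) := fun e => by simp [w]
  have hwi : ∀ (e : Exp r s) i, i ≠ a → (w + e) (Sum.inl i) = e (Sum.inl i) := fun e i h => by
    simp [w, Finsupp.single_apply, Ne.symm h]
  have hwj : ∀ (e : Exp r s) j, (w + e) (Sum.inr j) = e (Sum.inr j) := fun e j => by
    simp [w]
  have hEd : ∀ e ∈ (Ed (d - 1) : Set (Exp r s)), w + e ∈ Ed d := fun e he => by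
    show dg (w + e) = d
    rw [dg_add, hw, show dg e = d - 1 from he]; ring
  refine (depth_shift hB I (E := Ed (d - 1)) (F := Ed (d - 1) ∩ Out A (B.erase b))
    (E' := GX A B d a) (F' := F2 A B d a b) w (fun e he => ⟨hEd e he, Or.inr (show 0 < (w + e) (Sum.inl a) by
    rw [hw']; omega)⟩) ?_ (closed_Ed _) (seqX A B d a b).hG (closed_F2 A B d a b) ?_ ?_).symm
  · rintro e ⟨he, ⟨i, hi, h⟩ | ⟨j, hj, h⟩⟩
    · exact ⟨hEd e he, Or.inl (Or.inl ⟨i, hi, by
        rw [hwi e i fun hh => hi (hh ▸ ha)]; exact h⟩)⟩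
    · rw [Finset.mem_erase] at hj
      by_cases hjb : j = b
      · subst hjb
        exact ⟨hEd e he, Or.inr ⟨by rw [hw']; omega, by rw [hwj]; exact h⟩⟩
      · exact ⟨hEd e he, Or.inl (Or.inr ⟨j, fun hh => hj ⟨hjb, hh⟩, by rw [hwj]; exact h⟩)⟩
  · rintro e he ⟨-, (⟨i, hi, h⟩ | ⟨j, hj, h⟩) | ⟨-, h⟩⟩
    · refine ⟨he, Or.inl ⟨i, hi, ?_⟩⟩
      rwa [hwi e i fun hh => hi (hh ▸ ha)] at h
    · refine ⟨he, Or.inr ⟨j, fun hh => hj (Finset.mem_of_mem_erase hh), ?_⟩⟩
      rwa [hwj] at h
    · refine ⟨he, Or.inr ⟨b, fun hh => Finset.ne_of_mem_erase hh rfl, ?_⟩⟩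
      rwa [hwj] at h
  · rintro e ⟨he, h | h⟩
    · exact Or.inl ⟨he, Or.inl h⟩
    · have hle : w ≤ e := Finsupp.single_le_iff.mpr h
      refine Or.inr ⟨e - w, ?_, add_tsub_cancel_of_le hle⟩
      have h3 := dg_add (e - w) w
      rw [tsub_add_cancel_of_le hle, show dg e = d from he, hw] at h3
      show dg (e - w) = d - 1
      omega

include hB in
theorem depth_GY {A : Finset (Fin r)} {B : Finset (Fin s)} (d : ℤ) {a : Fin r} {b : Fin s}
    (hb : b ∈ B) :
    idealDepth I (Q k T (GY A B d b) (F2 A B d a b)) =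
      idealDepth I (M k T (A.erase a) B (d + 1)) := by
  set w : Exp r s := Finsupp.single (Sum.inr b) 1
  have hw : dg w = -1 := by simp [w, dg_inr]
  have hw' : ∀ e : Exp r s, (w + e) (Sum.inr b) = 1 + e (Sum.inr b) := fun e => by simp [w]
  have hwj : ∀ (e : Exp r s) j, j ≠ b → (w + e) (Sum.inr j) = e (Sum.inr j) := fun e j h => by
    simp [w, Finsupp.single_apply, Ne.symm h]
  have hwi : ∀ (e : Exp r s) i, (w + e) (Sum.inl i) = e (Sum.inl i) := fun e i => by
    simp [w]
  have hEd : ∀ e ∈ (Ed (d + 1) : Set (Exp r s)), w + e ∈ Ed d := fun e he => by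
    show dg (w + e) = d
    rw [dg_add, hw, show dg e = d + 1 from he]; ring
  refine (depth_shift hB I (E := Ed (d + 1)) (F := Ed (d + 1) ∩ Out (A.erase a) B)
    (E' := GY A B d b) (F' := F2 A B d a b) w (fun e he => ⟨hEd e he, Or.inr (show 0 < (w + e) (Sum.inr b) by
    rw [hw']; omega)⟩) ?_ (closed_Ed _) (seqY A B d a b).hG (closed_F2 A B d a b) ?_ ?_).symm
  · rintro e ⟨he, ⟨i, hi, h⟩ | ⟨j, hj, h⟩⟩
    · rw [Finset.mem_erase] at hi
      by_cases hia : i = a
      · subst hia
        exact ⟨hEd e he, Or.inr ⟨by rw [hwi]; exact h, by rw [hw']; omega⟩⟩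
      · exact ⟨hEd e he, Or.inl (Or.inl ⟨i, fun hh => hi ⟨hia, hh⟩, by rw [hwi]; exact h⟩)⟩
    · exact ⟨hEd e he, Or.inl (Or.inr ⟨j, hj, by
        rw [hwj e j fun hh => hj (hh ▸ hb)]; exact h⟩)⟩
  · rintro e he ⟨-, (⟨i, hi, h⟩ | ⟨j, hj, h⟩) | ⟨h, -⟩⟩
    · refine ⟨he, Or.inl ⟨i, fun hh => hi (Finset.mem_of_mem_erase hh), ?_⟩⟩
      rwa [hwi] at h
    · refine ⟨he, Or.inr ⟨j, hj, ?_⟩⟩
      rwa [hwj e j fun hh => hj (hh ▸ hb)] at h
    · refine ⟨he, Or.inl ⟨a, fun hh => Finset.ne_of_mem_erase hh rfl, ?_⟩⟩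
      rwa [hwi] at h
  · rintro e ⟨he, h | h⟩
    · exact Or.inl ⟨he, Or.inl h⟩
    · have hle : w ≤ e := Finsupp.single_le_iff.mpr h
      refine Or.inr ⟨e - w, ?_, add_tsub_cancel_of_le hle⟩
      have h3 := dg_add (e - w) w
      rw [tsub_add_cancel_of_le hle, show dg e = d from he, hw] at h3
      show dg (e - w) = d + 1
      omega

theorem eq_zero_of_not_out {A : Finset (Fin r)} {B : Finset (Fin s)} (e : Exp r s)
    (he : e ∉ Out A B) : (∀ i ∉ A, e (Sum.inl i) = 0) ∧ ∀ j ∉ B, e (Sum.inr j) = 0 := by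
  simp only [Out, Set.mem_setOf_eq, not_or, not_exists, not_and, Nat.pos_iff_ne_zero,
    not_not] at he
  exact he

include hB hI in
/-- The lower bound on depths. -/
theorem le_depth (n : ℕ) : ∀ (A : Finset (Fin r)) (B : Finset (Fin s)) (d : ℤ),
    A.card + B.card = n → (L A.card B.card d : ℕ∞) ≤ idealDepth I (M k T A B d) := by
  classical
  induction n using Nat.strong_induction_on with
  | _ n ih =>
  intro A B d hn
  rcases A.eq_empty_or_nonempty with rfl | ⟨a, ha⟩
  · -- no `X`
    rcases le_or_gt d 0 with hd | hd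
    · by_cases hd' : (B.card : ℤ) ≤ d
      · rw [L, if_pos hd', show B.card = 0 by omega, Nat.cast_zero]; exact zero_le
      · rw [L, if_neg hd', if_pos (by simpa using hd), Finset.card_empty, Nat.cast_zero]
        exact zero_le
    · haveI := subsingleton_Q (k := k) (T := T) hB (E := Ed d) (F := (Ed d ∩ Out ∅ B :
          Set (Exp r s))) (closed_Ed d) fun e he => ⟨he, by
        by_contra hc
        have h := (eq_zero_of_not_out e hc).1
        have : dg e = d := he
        simp only [dg, degX] at this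
        rw [Finset.sum_eq_zero fun i _ => h i (Finset.notMem_empty i)] at this
        omega⟩
      rw [Basic.idealDepth_subsingleton]
      exact le_top
  rcases B.eq_empty_or_nonempty with rfl | ⟨b, hb⟩
  · -- no `Y`
    rcases le_or_gt 0 d with hd | hd
    · rw [L, if_pos (by simpa using hd), Finset.card_empty, Nat.cast_zero]
      exact zero_le
    · haveI := subsingleton_Q (k := k) (T := T) hB (E := Ed d) (F := (Ed d ∩ Out A ∅ :
          Set (Exp r s))) (closed_Ed d) fun e he => ⟨he, by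
        by_contra hc
        have h := (eq_zero_of_not_out e hc).2
        have : dg e = d := he
        simp only [dg, degY] at this
        rw [Finset.sum_eq_zero fun i _ => h i (Finset.notMem_empty i)] at this
        omega⟩
      rw [Basic.idealDepth_subsingleton]
      exact le_top
  obtain ⟨m, hm⟩ : ∃ m, L A.card B.card d = m + 1 := by
    refine ⟨L A.card B.card d - 1, ?_⟩
    have := Finset.card_pos.mpr ⟨a, ha⟩
    have := Finset.card_pos.mpr ⟨b, hb⟩
    simp only [L]
    split_ifs <;> omega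
  rw [hm, Nat.cast_add, Nat.cast_one, ← depth_drop hB I hI d ha hb]
  refine add_le_add_left ?_ 1
  have hA := Finset.card_erase_of_mem ha
  have hBc := Finset.card_erase_of_mem hb
  have hA0 := Finset.card_pos.mpr ⟨a, ha⟩
  have hB0 := Finset.card_pos.mpr ⟨b, hb⟩
  by_cases hx : (B.card : ℤ) ≤ d ∨ (1 < d + A.card ∧ d < B.card)
  · -- first remove `x_a`
    refine depth_middle hB I (seqX A B d a b) (fun e he => he) ?_ ?_
    · rw [depth_GX hB I d ha]
      refine le_trans ?_ (ih _ (by omega) A (B.erase b) (d - 1) rfl)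
      rw [Nat.cast_le]
      simp only [L, hBc] at hm ⊢
      split_ifs at hm ⊢ <;> omega
    · rw [GX_eq B d a]
      refine le_trans ?_ (ih _ (by omega) (A.erase a) B d rfl)
      rw [Nat.cast_le]
      simp only [L, hA] at hm ⊢
      split_ifs at hm ⊢ <;> omega
  · refine depth_middle hB I (seqY A B d a b) (fun e he => he) ?_ ?_
    · rw [depth_GY hB I d hb]
      refine le_trans ?_ (ih _ (by omega) (A.erase a) B (d + 1) rfl)
      rw [Nat.cast_le]
      simp only [L, hA] at hm ⊢
      split_ifs at hm ⊢ <;> omega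
    · rw [GY_eq A d b]
      refine le_trans ?_ (ih _ (by omega) A (B.erase b) d rfl)
      rw [Nat.cast_le]
      simp only [L, hBc] at hm ⊢
      split_ifs at hm ⊢ <;> omega

include hB hI in
/-- The upper bound for large weights. -/
theorem depth_le_right (n : ℕ) : ∀ (A : Finset (Fin r)) (B : Finset (Fin s)) (d : ℤ),
    B.card = n → A.Nonempty → (B.card : ℤ) ≤ d →
    idealDepth I (M k T A B d) ≤ (B.card : ℕ∞) := by
  classical
  induction n with
  | zero =>
    rintro A B d hn ⟨a, ha⟩ hd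
    obtain rfl := Finset.card_eq_zero.mp hn
    rw [depth_zero hB I hI (E := Ed d) (F := (Ed d ∩ Out A ∅ : Set (Exp r s))) (fun e he => he)
      (closed_inter_out d A ∅) (e := Finsupp.single (Sum.inl a) d.toNat) ?_ ?_ ?_]
    · exact zero_le
    · show dg _ = d
      rw [dg_inl]; simp at hd; omega
    · rintro ⟨-, ⟨i, hi, h⟩ | ⟨j, -, h⟩⟩
      · have : a ≠ i := fun h => hi (h ▸ ha)
        simp [Finsupp.single_apply, this] at h
      · simp at h
    · intro v hv hv0
      refine ⟨closed_Ed d _ (show dg _ = d by rw [dg_inl]; simp at hd; omega) v hv, ?_⟩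
      by_contra hc
      have h := (eq_zero_of_not_out _ hc).2
      have hY : ∀ j, v (Sum.inr j) = 0 := fun j => by
        have := h j (Finset.notMem_empty j)
        simpa using this
      have hX : degX v = 0 := by
        have : degY v = 0 := Finset.sum_eq_zero fun j _ => hY j
        simp only [dg] at hv
        omega
      refine hv0 (Finsupp.ext fun i => ?_)
      rcases i with i | j
      · exact (Finset.sum_eq_zero_iff.mp hX) i (Finset.mem_univ i)
      · exact hY j
  | succ n ih =>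
    rintro A B d hn ⟨a, ha⟩ hd
    obtain ⟨b, hb⟩ : B.Nonempty := Finset.card_pos.mp (by omega)
    have hBc := Finset.card_erase_of_mem hb
    have hA := Finset.card_erase_of_mem ha
    by_contra hc
    rw [not_le, ← depth_drop hB I hI d ha hb, hn, Nat.cast_succ] at hc
    have hW : ((n + 1 : ℕ) : ℕ∞) ≤ idealDepth I (Q k T (Ed d) (F2 A B d a b)) := by
      have h2 := Order.add_one_le_of_lt hc
      rw [Nat.cast_succ]
      exact (ENat.add_le_add_iff_right ENat.one_ne_top).mp h2
    have hG := depth_left hB I (seqX A B d a b) (fun e he => he) hW (by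
      rw [GX_eq B d a]
      refine le_trans ?_ (le_depth hB I hI _ (A.erase a) B d rfl)
      rw [Nat.cast_le]
      simp only [L]
      split_ifs <;> omega)
    rw [depth_GX hB I d ha] at hG
    have h3 := ih A (B.erase b) (d - 1) (by omega) ⟨a, ha⟩ (by omega)
    have h4 := hG.trans h3
    rw [Nat.cast_le] at h4
    omega

include hB hI in
/-- The upper bound for small weights. -/
theorem depth_le_left (n : ℕ) : ∀ (A : Finset (Fin r)) (B : Finset (Fin s)) (d : ℤ),
    A.card = n → B.Nonempty → d ≤ -(A.card : ℤ) →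
    idealDepth I (M k T A B d) ≤ (A.card : ℕ∞) := by
  classical
  induction n with
  | zero =>
    rintro A B d hn ⟨b, hb⟩ hd
    obtain rfl := Finset.card_eq_zero.mp hn
    rw [depth_zero hB I hI (E := Ed d) (F := (Ed d ∩ Out ∅ B : Set (Exp r s))) (fun e he => he)
      (closed_inter_out d ∅ B) (e := Finsupp.single (Sum.inr b) (-d).toNat) ?_ ?_ ?_]
    · exact zero_le
    · show dg _ = d
      rw [dg_inr]; simp at hd; omega
    · rintro ⟨-, ⟨i, -, h⟩ | ⟨j, hj, h⟩⟩
      · simp at h
      · have : b ≠ j := fun h => hj (h ▸ hb)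
        simp [Finsupp.single_apply, this] at h
    · intro v hv hv0
      refine ⟨closed_Ed d _ (show dg _ = d by rw [dg_inr]; simp at hd; omega) v hv, ?_⟩
      by_contra hc
      have h := (eq_zero_of_not_out _ hc).1
      have hX : ∀ i, v (Sum.inl i) = 0 := fun i => by
        have := h i (Finset.notMem_empty i)
        simpa using this
      have hY : degY v = 0 := by
        have : degX v = 0 := Finset.sum_eq_zero fun i _ => hX i
        simp only [dg] at hv
        omega
      refine hv0 (Finsupp.ext fun i => ?_)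
      rcases i with i | j
      · exact hX i
      · exact (Finset.sum_eq_zero_iff.mp hY) j (Finset.mem_univ j)
  | succ n ih =>
    rintro A B d hn ⟨b, hb⟩ hd
    obtain ⟨a, ha⟩ : A.Nonempty := Finset.card_pos.mp (by omega)
    have hBc := Finset.card_erase_of_mem hb
    have hA := Finset.card_erase_of_mem ha
    by_contra hc
    rw [not_le, ← depth_drop hB I hI d ha hb, hn, Nat.cast_succ] at hc
    have hW : ((n + 1 : ℕ) : ℕ∞) ≤ idealDepth I (Q k T (Ed d) (F2 A B d a b)) := by
      have h2 := Order.add_one_le_of_lt hc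
      rw [Nat.cast_succ]
      exact (ENat.add_le_add_iff_right ENat.one_ne_top).mp h2
    have hG := depth_left hB I (seqY A B d a b) (fun e he => he) hW (by
      rw [GY_eq A d b]
      refine le_trans ?_ (le_depth hB I hI _ A (B.erase b) d rfl)
      rw [Nat.cast_le]
      simp only [L]
      split_ifs <;> omega)
    rw [depth_GY hB I d hb] at hG
    have h3 := ih (A.erase a) B (d + 1) (by omega) ⟨b, hb⟩ (by omega)
    have h4 := hG.trans h3
    rw [Nat.cast_le] at h4
    omega

end Groth.Agent.H84.Segre.MonoDepth
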