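import Mathlib
import Groth.Prelude.Def_GrSeg
import Groth.Agent.H84.Segre.MonoDepth
import Groth.Agent.H84.Segre.GradedCM
import Groth.Agent.H84.Segre.DimOneMain
import Groth.Agent.Lib.Graded.StarInj
import Groth.Agent.S18646

/-!
# Segre products of shifted polynomial rings
-/

set_option autoImplicit false
set_option linter.style.haveILetI false
set_option linter.unusedSectionVars false

universe u

namespace Groth.Agent.H84.Segre.PolyShift

open TensorProduct MvPolynomial DirectSum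
open Groth.Agent.Lib.Depth LocCoh
open Groth.Agent.H84.Segre.Mono (Exp dg degX degY K Q)
open Groth.Agent.H84.Segre.MonoDepth (Ed Out M L)

attribute [local instance] MvPolynomial.weightedGradedAlgebra

variable {k : Type u} [Field k] {r s : ℕ}

/-- Exponents of a product. -/
noncomputable def jn (α : Fin r →₀ ℕ) (γ : Fin s →₀ ℕ) : Exp r s :=
  α.mapDomain Sum.inl + γ.mapDomain Sum.inr

theorem jn_inl (α : Fin r →₀ ℕ) (γ : Fin s →₀ ℕ) (i : Fin r) : jn α γ (Sum.inl i) = α i := by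
  rw [jn, Finsupp.add_apply, Finsupp.mapDomain_apply Sum.inl_injective,
    Finsupp.mapDomain_of_notMem_range, add_zero]
  simp

theorem jn_inr (α : Fin r →₀ ℕ) (γ : Fin s →₀ ℕ) (j : Fin s) : jn α γ (Sum.inr j) = γ j := by
  rw [jn, Finsupp.add_apply, Finsupp.mapDomain_apply Sum.inr_injective,
    Finsupp.mapDomain_of_notMem_range, zero_add]
  simp

theorem exists_jn (e : Exp r s) : ∃ α γ, jn α γ = e := by
  refine ⟨Finsupp.equivFunOnFinite.symm fun i => e (Sum.inl i),
    Finsupp.equivFunOnFinite.symm fun j => e (Sum.inr j), Finsupp.ext fun i => ?_⟩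
  rcases i with i | j
  · rw [jn_inl]; simp
  · rw [jn_inr]; simp

theorem weight_eq {σ : Type} [Fintype σ] (e : σ →₀ ℕ) :
    Finsupp.weight (fun _ : σ => (1 : ℤ)) e = ((∑ i, e i : ℕ) : ℤ) := by
  simp [Finsupp.weight_apply, Finsupp.sum_fintype]

variable (k r) in
/-- The grading. -/
noncomputable abbrev 𝒳 : ℤ → Submodule k (MvPolynomial (Fin r) k) :=
  weightedHomogeneousSubmodule k (fun _ : Fin r => (1 : ℤ))

theorem 𝒳_neg (n : ℤ) (hn : n < 0) : 𝒳 k r n = ⊥ := by
  rw [eq_bot_iff]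
  intro f hf
  rw [Submodule.mem_bot, ← MvPolynomial.support_eq_empty]
  refine Finset.eq_empty_of_forall_notMem fun e he => ?_
  have := hf (mem_support_iff.mp he)
  rw [weight_eq] at this
  omega

theorem 𝒳_zero : 𝒳 k r 0 = Submodule.span k {(1 : MvPolynomial (Fin r) k)} := by
  refine le_antisymm (fun f hf => Submodule.mem_span_singleton.mpr ⟨coeff 0 f, ?_⟩)
    (Submodule.span_le.mpr (by rintro _ rfl; exact SetLike.one_mem_graded (𝒳 k r)))
  refine MvPolynomial.ext _ _ fun e => ?_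
  rw [coeff_smul, coeff_one, smul_eq_mul]
  by_cases h : (0 : Fin r →₀ ℕ) = e
  · subst h; simp
  · rw [if_neg h, mul_zero]
    by_contra hne
    refine h (Finsupp.ext fun i => ?_)
    have := hf (Ne.symm hne)
    rw [weight_eq] at this
    have h2 : ∑ i, e i = 0 := by exact_mod_cast this
    exact ((Finset.sum_eq_zero_iff.mp h2) i (Finset.mem_univ i)).symm

variable (k r s) in
/-- The polynomial ring in both sets of variables. -/
noncomputable def Φ :
    MvPolynomial (Fin r) k ⊗[k] MvPolynomial (Fin s) k ≃ₐ[k] MvPolynomial (Fin r ⊕ Fin s) k :=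
  MvPolynomial.tensorEquivSum k (Fin r) (Fin s) k

theorem Φ_tmul (f : MvPolynomial (Fin r) k) (g : MvPolynomial (Fin s) k) :
    Φ k r s (f ⊗ₜ[k] g) = rename Sum.inl f * rename Sum.inr g := by
  have h : (Φ k r s).toAlgHom = Algebra.TensorProduct.lift (rename Sum.inl) (rename Sum.inr)
      fun _ _ => Commute.all _ _ := by
    refine Algebra.TensorProduct.ext (MvPolynomial.algHom_ext fun i => ?_)
      (MvPolynomial.algHom_ext fun i => ?_)
    · simp [Φ]
    · simp [Φ]
  show (Φ k r s).toAlgHom (f ⊗ₜ[k] g) = _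
  rw [h, Algebra.TensorProduct.lift_tmul]

theorem Φ_monomial (α : Fin r →₀ ℕ) (γ : Fin s →₀ ℕ) (c : k) :
    Φ k r s (monomial α c ⊗ₜ[k] monomial γ 1) = monomial (jn α γ) c := by
  rw [Φ_tmul, rename_monomial, rename_monomial, monomial_mul, mul_one, jn]

theorem support_Φ_segre {i j : ℤ} {f : MvPolynomial (Fin r) k} (hf : f ∈ 𝒳 k r i)
    {g : MvPolynomial (Fin s) k} (hg : g ∈ 𝒳 k s j) :
    ∀ e ∈ (Φ k r s (f ⊗ₜ[k] g)).support, (degX e : ℤ) = i ∧ (degY e : ℤ) = j := by
  classical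
  intro e he
  rw [Φ_tmul] at he
  obtain ⟨u, hu, v, hv, rfl⟩ := Finset.mem_add.mp (support_mul _ _ he)
  rw [support_rename_of_injective Sum.inl_injective, Finset.mem_image] at hu
  rw [support_rename_of_injective Sum.inr_injective, Finset.mem_image] at hv
  obtain ⟨α, hα, rfl⟩ := hu
  obtain ⟨γ, hγ, rfl⟩ := hv
  have h1 := hf (mem_support_iff.mp hα)
  have h2 := hg (mem_support_iff.mp hγ)
  rw [weight_eq] at h1 h2
  refine ⟨?_, ?_⟩
  · rw [← h1]
    simp only [degX]
    congr 2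
    funext l
    exact jn_inl α γ l
  · rw [← h2]
    simp only [degY]
    congr 2
    funext l
    exact jn_inr α γ l

theorem support_Φ_piece {i j : ℤ} {w : MvPolynomial (Fin r) k ⊗[k] MvPolynomial (Fin s) k}
    (hw : w ∈ Submodule.span k {z | ∃ f ∈ 𝒳 k r i, ∃ g ∈ 𝒳 k s j, z = f ⊗ₜ[k] g}) :
    ∀ e ∈ (Φ k r s w).support, (degX e : ℤ) = i ∧ (degY e : ℤ) = j := by
  classical
  induction hw using Submodule.span_induction with
  | mem z hz => obtain ⟨f, hf, g, hg, rfl⟩ := hz; exact support_Φ_segre hf hg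
  | zero => simp
  | add x y _ _ hx hy =>
    intro e he
    rw [map_add] at he
    rcases Finset.mem_union.mp (support_add he) with h | h
    · exact hx e h
    · exact hy e h
  | smul c x _ hx =>
    intro e he
    rw [map_smul] at he
    exact hx e (MvPolynomial.support_smul he)

theorem exists_piece (e : Exp r s) : ∃ w ∈ Submodule.span k
    {z | ∃ f ∈ 𝒳 k r (degX e), ∃ g ∈ 𝒳 k s (degY e), z = f ⊗ₜ[k] g},
    Φ k r s w = monomial e 1 := by
  obtain ⟨α, γ, rfl⟩ := exists_jn e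
  refine ⟨monomial α 1 ⊗ₜ[k] monomial γ 1, Submodule.subset_span ⟨_, ?_, _, ?_, rfl⟩,
    Φ_monomial α γ 1⟩
  · refine isWeightedHomogeneous_monomial _ _ _ ?_
    rw [weight_eq]
    simp [degX, jn_inl]
  · refine isWeightedHomogeneous_monomial _ _ _ ?_
    rw [weight_eq]
    simp [degY, jn_inr]

theorem act_self (z : MvPolynomial (Fin r) k ⊗[k] MvPolynomial (Fin s) k)
    (w : MvPolynomial (Fin r) k ⊗[k] MvPolynomial (Fin s) k) :
    GrSeg.act k (MvPolynomial (Fin r) k) (MvPolynomial (Fin s) k) (MvPolynomial (Fin r) k)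
      (MvPolynomial (Fin s) k) z w = z * w :=
  CMDim.act_self z w

/-- The main statement. -/
theorem main (h2r : 2 ≤ r) (h2s : 2 ≤ s) (T : Type u) [CommRing T] [Algebra k T]
    (𝒯 : ℤ → Submodule k T) [GradedAlgebra 𝒯]
    (ψ : T →ₐ[k] MvPolynomial (Fin r) k ⊗[k] MvPolynomial (Fin s) k)
    (hT : GrSeg.IsSegreRing (𝒳 k r) (𝒳 k s) 𝒯 ψ) (mT : HomogeneousIdeal 𝒯)
    (hmT : mT.toIdeal = Ideal.span (⋃ n ∈ Set.Ioi (0 : ℤ), (𝒯 n : Set T))) (a b : ℤ)
    (P : Type u) [AddCommGroup P] [Module T P] [Module k P] [IsScalarTower k T P]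
    (𝒬 : ℤ → AddSubgroup P) [DirectSum.Decomposition 𝒬]
    (φ : P →ₗ[k] MvPolynomial (Fin r) k ⊗[k] MvPolynomial (Fin s) k)
    (hP : GrSeg.IsSegreMod ψ (fun n : ℤ => 𝒳 k r (n + a)) (fun n : ℤ => 𝒳 k s (n + b)) 𝒬 φ) :
    ((∀ (q : Ideal T) [q.IsPrime], Subsingleton (LocalizedModule q.primeCompl P) ∨
        LocCoh.IsCohenMacaulayModule (Localization.AtPrime q) (LocalizedModule q.primeCompl P)) ↔
        (a - b < (s : ℤ) ∧ -(r : ℤ) < a - b)) ∧
      ((s : ℤ) ≤ a - b → LocCoh.idealDepth mT.toIdeal P = (s : ℕ∞)) ∧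
      (a - b ≤ -(r : ℤ) → LocCoh.idealDepth mT.toIdeal P = (r : ℕ∞)) := by
  classical
  set d := a - b with hd
  haveI : IsNoetherianRing T :=
    Groth.Agent.S18646.result k (MvPolynomial (Fin r) k) (𝒳 k r) 𝒳_neg 𝒳_zero
      (MvPolynomial (Fin s) k) (𝒳 k s) 𝒳_neg 𝒳_zero T 𝒯 ψ hT.1 hT.2
  obtain ⟨hposT, h0T⟩ := DimOneMain.segre_pos (𝒳 k r) (𝒳 k s) 𝒯 ψ 𝒳_neg 𝒳_zero 𝒳_zero hT
  haveI : Algebra.FiniteType k T := Dim1.finiteType 𝒯 hposT h0T
  -- `T` as the balanced part of the polynomial ring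
  let g : T →ₐ[k] MvPolynomial (Fin r ⊕ Fin s) k := (Φ k r s).toAlgHom.comp ψ
  letI : Algebra T (MvPolynomial (Fin r ⊕ Fin s) k) := g.toRingHom.toAlgebra
  haveI : IsScalarTower k T (MvPolynomial (Fin r ⊕ Fin s) k) :=
    IsScalarTower.of_algebraMap_eq fun c => (g.commutes c).symm
  have halg : ∀ t, algebraMap T (MvPolynomial (Fin r ⊕ Fin s) k) t = Φ k r s (ψ t) := fun t => rfl
  have hTdeg : ∀ n : ℤ, ∀ t ∈ 𝒯 n,
      ∀ e ∈ (Φ k r s (ψ t)).support, (degX e : ℤ) = n ∧ (degY e : ℤ) = n :=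
    fun n t ht => support_Φ_piece ((hT.2 n).le ⟨t, ht, rfl⟩)
  have hTmono : ∀ e : Exp r s, dg e = 0 →
      ∃ t ∈ 𝒯 (degX e), Φ k r s (ψ t) = monomial e 1 := by
    intro e he
    obtain ⟨w, hw, hwe⟩ := exists_piece (k := k) e
    rw [show (degY e : ℤ) = degX e by simp only [dg] at he; omega] at hw
    obtain ⟨t, ht, rfl⟩ := H83.Segre.exists_ring_elem hT hw
    exact ⟨t, ht, hwe⟩
  have hB : Mono.Balanced k T r s := by
    refine ⟨fun t => ?_, fun v hv => ?_⟩
    · rw [halg, ← DirectSum.sum_support_decompose 𝒯 t, map_sum, map_sum]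
      intro v hv
      obtain ⟨n, -, hn⟩ := Finset.mem_biUnion.mp (support_sum hv)
      obtain ⟨h1, h2⟩ := hTdeg n _ (DirectSum.decompose 𝒯 t n).2 v hn
      simp only [dg]; omega
    · obtain ⟨t, -, ht⟩ := hTmono v hv
      exact ⟨t, ht⟩
  -- the irrelevant ideal
  haveI : Nontrivial T := by
    by_contra hn
    rw [not_nontrivial_iff_subsingleton] at hn
    exact one_ne_zero (α := MvPolynomial (Fin r ⊕ Fin s) k)
      ((map_one g).symm.trans ((congrArg g (Subsingleton.elim (1 : T) 0)).trans (map_zero g)))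
  have hirr : mT.toIdeal = CMDim.irr 𝒯 := by
    rw [hmT, CMDim.irr]
    congr 1
    ext z
    simp
  haveI hmax : mT.toIdeal.IsMaximal := hirr ▸ CMDim.irr_isMaximal 𝒯 hposT h0T
  have hI : ∀ t : T, t ∈ mT.toIdeal ↔
      coeff 0 (algebraMap T (MvPolynomial (Fin r ⊕ Fin s) k) t) = 0 := by
    have hker : mT.toIdeal =
        RingHom.ker (constantCoeff.comp (algebraMap T (MvPolynomial (Fin r ⊕ Fin s) k))) := by
      refine hmax.eq_of_le (RingHom.ker_ne_top _) ?_
      rw [hmT, Ideal.span_le]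
      intro t ht
      obtain ⟨n, hn, ht⟩ := Set.mem_iUnion₂.mp ht
      rw [SetLike.mem_coe, RingHom.mem_ker, RingHom.comp_apply, constantCoeff_eq]
      by_contra hne
      have := (hTdeg n t ht 0 (mem_support_iff.mpr hne)).1
      simp [degX] at this
      exact absurd this.symm (Set.mem_Ioi.mp hn).ne'
    intro t
    rw [hker, RingHom.mem_ker, RingHom.comp_apply, constantCoeff_eq]
  -- `P` as the piece of weight `d`
  let F0 : Set (Exp r s) := Ed d ∩ Out Finset.univ Finset.univ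
  have hF0 : ∀ e, e ∉ F0 := fun e he => by
    rcases he.2 with ⟨i, hi, -⟩ | ⟨j, hj, -⟩
    · exact hi (Finset.mem_univ i)
    · exact hj (Finset.mem_univ j)
  have hQsupp : ∀ (n : ℤ), ∀ p ∈ 𝒬 n,
      ∀ e ∈ (Φ k r s (φ p)).support, (degX e : ℤ) = n + a ∧ (degY e : ℤ) = n + b :=
    fun n p hp => support_Φ_piece (H83.Segre.mod_mem_segre hP hp)
  have hmemK : ∀ p : P, Φ k r s (φ p) ∈ K k T (Ed d : Set (Exp r s)) := by
    intro p
    rw [← DirectSum.sum_support_decompose 𝒬 p, map_sum, map_sum]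
    refine Submodule.sum_mem _ fun n _ => Mono.mem_K_of_support fun e he => ?_
    obtain ⟨h1, h2⟩ := hQsupp n _ (DirectSum.decompose 𝒬 p n).2 e he
    show dg e = d
    simp only [dg, hd]; omega
  let κ : P →ₗ[T] M k T (Finset.univ : Finset (Fin r)) (Finset.univ : Finset (Fin s)) d :=
    { toFun := fun p => Submodule.Quotient.mk ⟨Φ k r s (φ p), hmemK p⟩
      map_add' := fun p q => by
        rw [← Submodule.Quotient.mk_add]
        exact congrArg _ (Subtype.ext (show Φ k r s (φ (p + q)) = Φ k r s (φ p) + Φ k r s (φ q) by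
          rw [map_add, map_add]))
      map_smul' := fun t p => by
        rw [RingHom.id_apply, ← Submodule.Quotient.mk_smul]
        refine congrArg _ (Subtype.ext ?_)
        show Φ k r s (φ (t • p)) = t • Φ k r s (φ p)
        rw [Algebra.smul_def, halg, hP.map_smul, act_self, map_mul] }
  have hK0 : ∀ x ∈ K k T F0, x = 0 := fun x hx => by
    have h := Mono.support_of_mem_K hB (MonoDepth.closed_inter_out d _ _) hx
    rw [← MvPolynomial.support_eq_empty]
    exact Finset.eq_empty_of_forall_notMem fun e he => hF0 e (h e he)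
  have hκ : Function.Bijective κ := by
    constructor
    · rw [injective_iff_map_eq_zero]
      intro p hp
      have h := hK0 _ ((Mono.mk_eq_zero_iff _).mp hp)
      exact hP.injective ((Φ k r s).injective (by rw [map_zero, map_zero]; exact h))
    · intro x
      obtain ⟨⟨f, hf⟩, rfl⟩ := Submodule.Quotient.mk_surjective _ x
      suffices h : ∃ p, Φ k r s (φ p) = f by
        obtain ⟨p, hp⟩ := h
        exact ⟨p, congrArg Submodule.Quotient.mk (Subtype.ext hp)⟩
      have hsupp := Mono.support_of_mem_K hB (MonoDepth.closed_Ed d) hf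
      suffices h : f ∈ LinearMap.range ((Φ k r s).toLinearMap ∘ₗ φ) from h
      rw [f.as_sum]
      refine Submodule.sum_mem _ fun e he => ?_
      obtain ⟨w, hw, hwe⟩ := exists_piece (k := k) e
      have hde : dg e = d := hsupp e he
      simp only [dg, hd] at hde
      obtain ⟨p, -, hp⟩ := H83.Segre.exists_mod_elem hP (n := (degX e : ℤ) - a) (w := w) (by
        unfold GrSeg.segrePiece
        simp only [sub_add_cancel]
        rwa [show (degX e : ℤ) - a + b = degY e by omega])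
      rw [← mul_one (coeff e f), ← smul_eq_mul, ← smul_monomial]
      refine Submodule.smul_mem _ _ ⟨p, ?_⟩
      show Φ k r s (φ p) = _
      rw [hp, hwe]
  let e : P ≃ₗ[T] M k T (Finset.univ : Finset (Fin r)) (Finset.univ : Finset (Fin s)) d :=
    LinearEquiv.ofBijective κ hκ
  have hdepth := Basic.idealDepth_congr mT.toIdeal e
  have hcardr : (Finset.univ : Finset (Fin r)).card = r := Finset.card_fin r
  have hcards : (Finset.univ : Finset (Fin s)).card = s := Finset.card_fin s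
  have hge : (L r s d : ℕ∞) ≤ LocCoh.idealDepth mT.toIdeal P := by
    rw [hdepth]
    have := MonoDepth.le_depth hB mT.toIdeal hI _ (Finset.univ : Finset (Fin r))
      (Finset.univ : Finset (Fin s)) d rfl
    rwa [hcardr, hcards] at this
  have hb : (s : ℤ) ≤ d → LocCoh.idealDepth mT.toIdeal P = (s : ℕ∞) := by
    intro h
    refine le_antisymm ?_ ?_
    · rw [hdepth]
      have := MonoDepth.depth_le_right hB mT.toIdeal hI _ (Finset.univ : Finset (Fin r))
        (Finset.univ : Finset (Fin s)) d rfl ⟨⟨0, by omega⟩, Finset.mem_univ _⟩ (by rwa [hcards])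
      rwa [hcards] at this
    · rwa [L, if_pos h] at hge
  have hc : d ≤ -(r : ℤ) → LocCoh.idealDepth mT.toIdeal P = (r : ℕ∞) := by
    intro h
    refine le_antisymm ?_ ?_
    · rw [hdepth]
      have := MonoDepth.depth_le_left hB mT.toIdeal hI _ (Finset.univ : Finset (Fin r))
        (Finset.univ : Finset (Fin s)) d rfl ⟨⟨0, by omega⟩, Finset.mem_univ _⟩ (by rwa [hcardr])
      rwa [hcardr] at this
    · rwa [L, if_neg (by omega), if_pos h] at hge
  refine ⟨?_, hb, hc⟩
  -- dimension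
  haveI : Module.Finite T P := by
    haveI := MonoDepth.finite_Q (k := k) (T := T) (E := Ed d) (F := F0) hB fun e he => he
    exact Module.Finite.equiv e.symm
  haveI : Nontrivial P := by
    obtain ⟨α, γ, hαγ⟩ : ∃ (e : Exp r s) (_ : Unit), dg e = d := by
      rcases le_or_gt 0 d with h | h
      · exact ⟨Finsupp.single (Sum.inl ⟨0, by omega⟩) d.toNat, (), by rw [Mono.dg_inl]; omega⟩
      · exact ⟨Finsupp.single (Sum.inr ⟨0, by omega⟩) (-d).toNat, (), by rw [Mono.dg_inr]; omega⟩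
    refine e.toEquiv.nontrivial_congr.mpr ⟨⟨Submodule.Quotient.mk
      ⟨monomial α 1, Mono.monomial_mem_K hαγ 1⟩, 0, fun h => ?_⟩⟩
    exact one_ne_zero (monomial_eq_zero.mp (hK0 _ ((Mono.mk_eq_zero_iff _).mp h)))
  haveI : SetLike.GradedSMul 𝒯 𝒬 := ⟨fun {i j t p} ht hp => by
    refine H83.Segre.mem_of_segre hP ?_
    rw [hP.map_smul]
    exact H83.Segre.act_segre (𝒜' := 𝒳 k r) (ℬ' := 𝒳 k s) (ℳ' := fun n : ℤ => 𝒳 k r (n + a))
      (𝒩' := fun n : ℤ => 𝒳 k s (n + b)) (i := i) (n := j) (m := i + j)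
      (fun r' hr' x hx => by
        rw [show i + j + a = i + (j + a) by ring]
        exact SetLike.mul_mem_graded (A := 𝒳 k r) hr' hx)
      (fun c hc x hx => by
        rw [show i + j + b = i + (j + b) by ring]
        exact SetLike.mul_mem_graded (A := 𝒳 k s) hc hx)
      ((hT.2 i).le ⟨t, ht, rfl⟩) (H83.Segre.mod_mem_segre hP hp)⟩
  have hdim : Module.supportDim T P = ((r + s - 1 : ℕ) : WithBot ℕ∞) := by
    haveI : LocCoh.IsCohenMacaulayRing k :=
      ⟨fun p _ => CM.isCohenMacaulayLocalRing_iff.mpr (by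
        refine le_trans ?_ (WithBot.coe_le_coe.mpr zero_le)
        rw [IsLocalization.AtPrime.ringKrullDim_eq_height p, Ideal.eq_bot_of_prime p,
          Ideal.height_bot])⟩
    haveI := Groth.Agent.H18.CMPoly.mvPolynomial k r
    haveI := Groth.Agent.H18.CMPoly.mvPolynomial k s
    let ℳ : ℤ → AddSubgroup (MvPolynomial (Fin r) k) := Lib.Graded.StarInj.shiftGr (𝒳 k r) a
    let 𝒩 : ℤ → AddSubgroup (MvPolynomial (Fin s) k) := Lib.Graded.StarInj.shiftGr (𝒳 k s) b
    haveI : SetLike.GradedSMul (𝒳 k r) (𝒳 k r) :=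
      ⟨fun {_ _ _ _} h1 h2 => SetLike.mul_mem_graded (A := 𝒳 k r) h1 h2⟩
    haveI : SetLike.GradedSMul (𝒳 k s) (𝒳 k s) :=
      ⟨fun {_ _ _ _} h1 h2 => SetLike.mul_mem_graded (A := 𝒳 k s) h1 h2⟩
    letI : DirectSum.Decomposition ℳ := Lib.Graded.StarInj.shiftDecomp (𝒳 k r) a
    letI : DirectSum.Decomposition 𝒩 := Lib.Graded.StarInj.shiftDecomp (𝒳 k s) b
    haveI : SetLike.GradedSMul (𝒳 k r) ℳ := Lib.Graded.StarInj.shiftGSMul (𝒳 k r) (𝒳 k r) a
    haveI : SetLike.GradedSMul (𝒳 k s) 𝒩 := Lib.Graded.StarInj.shiftGSMul (𝒳 k s) (𝒳 k s) b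
    have hP' : GrSeg.IsSegreMod ψ ℳ 𝒩 𝒬 φ :=
      ⟨hP.injective, fun n => hP.image_piece n, hP.map_smul⟩
    refine (CMDim.supportDim_segre_cm (𝒳 k r) 𝒳_neg 𝒳_zero (𝒳 k s) 𝒳_neg 𝒳_zero T 𝒯 ψ hT ℳ 𝒩
      P 𝒬 φ hP' r s (by omega) (by omega) ?_ ?_ (fun q _ => Or.inr (Dim1.cm_localizedModule_self q))
      (fun q _ => Or.inr (Dim1.cm_localizedModule_self q))).resolve_right (not_subsingleton P)
    · simp [Module.supportDim_self_eq_ringKrullDim, ringKrullDim_eq_zero_of_field]
    · simp [Module.supportDim_self_eq_ringKrullDim, ringKrullDim_eq_zero_of_field]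
  constructor
  · intro hcm
    have h := GradedCM.idealDepth_irr 𝒯 𝒬 hposT h0T hdim hcm
    rw [← hirr] at h
    by_contra hout
    rcases le_or_gt (s : ℤ) d with h1 | h1
    · rw [hb h1] at h
      have : s = r + s - 1 := by exact_mod_cast h
      omega
    · rw [hc (by omega)] at h
      have : r = r + s - 1 := by exact_mod_cast h
      omega
  · rintro ⟨h1, h2⟩ q _
    refine GradedCM.cm_of_depth 𝒯 𝒬 hposT h0T hdim ?_ q
    rw [← hirr]
    rwa [L, if_neg (by omega), if_neg (by omega)] at hge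

end Groth.Agent.H84.Segre.PolyShift
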