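import Mathlib
import Groth.Prelude.Def_GrSeg
import Groth.Agent.H84.Segre.PolyShift
import Groth.Agent.H84.Segre.DepthPi

/-!
# Cohen-Macaulayness of Segre products through pairs of generator degrees
-/

set_option autoImplicit false
set_option linter.style.haveILetI false
set_option linter.unusedSectionVars false

universe u

namespace Groth.Agent.H84.Segre.PairSetup

open TensorProduct MvPolynomial DirectSum
open Groth.Agent.Lib.Depth LocCoh
open Groth.Agent.H84.Segre.Mono (Exp dg degX degY K Q)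
open Groth.Agent.H84.Segre.MonoDepth (Ed Out L)
open Groth.Agent.H84.Segre.DiagBasis (deg)
open Groth.Agent.H84.Segre.FreeBasis (vec wt)
open Groth.Agent.H84.Segre.PolyShift (jn jn_inl jn_inr exists_jn)

/-- Bases of two graded modules over parameters of a common degree. -/
structure Setup2 (k : Type u) [Field k] (R : Type u) [CommRing R] [Algebra k R]
    (𝒜 : ℤ → Submodule k R) [GradedAlgebra 𝒜]
    (S : Type u) [CommRing S] [Algebra k S] (ℬ : ℤ → Submodule k S) [GradedAlgebra ℬ]
    (M : Type u) [AddCommGroup M] [Module R M] [Module k M] [IsScalarTower k R M]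
    (ℳ : ℤ → AddSubgroup M)
    (N : Type u) [AddCommGroup N] [Module S N] [Module k N] [IsScalarTower k S N]
    (𝒩 : ℤ → AddSubgroup N) (r s : ℕ) where
  /-- the common degree -/
  D : ℕ
  hD : 0 < D
  /-- parameters -/
  x : Fin r → R
  hx : ∀ i, x i ∈ 𝒜 D
  hxint : ∀ a : R ⧸ Module.annihilator R M, IsIntegral
    (Algebra.adjoin k (Set.range fun i => Ideal.Quotient.mk (Module.annihilator R M) (x i))) a
  /-- parameters -/
  y : Fin s → S
  hy : ∀ i, y i ∈ ℬ D
  hyint : ∀ a : S ⧸ Module.annihilator S N, IsIntegral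
    (Algebra.adjoin k (Set.range fun i => Ideal.Quotient.mk (Module.annihilator S N) (y i))) a
  L : Type u
  [finL : Fintype L]
  e : L → ℤ
  a : L → M
  ha : ∀ l, a l ∈ ℳ (e l)
  hMli : LinearIndependent k (vec (k := k) x a)
  hMsp : Submodule.span k (Set.range (vec (k := k) x a)) = ⊤
  Gen : Type u
  [finGen : Fintype Gen]
  g : Gen → ℤ
  b : Gen → N
  hb : ∀ q, b q ∈ 𝒩 (g q)
  hNli : LinearIndependent k (vec (k := k) y b)
  hNsp : Submodule.span k (Set.range (vec (k := k) y b)) = ⊤

attribute [instance] Setup2.finL Setup2.finGen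

variable {k : Type u} [Field k] {R : Type u} [CommRing R] [Algebra k R]
  {𝒜 : ℤ → Submodule k R} [GradedAlgebra 𝒜]
  {S : Type u} [CommRing S] [Algebra k S] {ℬ : ℤ → Submodule k S} [GradedAlgebra ℬ]
  {T : Type u} [CommRing T] [Algebra k T] {𝒯 : ℤ → Submodule k T} [GradedAlgebra 𝒯]
  {ψ : T →ₐ[k] R ⊗[k] S}
  {M : Type u} [AddCommGroup M] [Module R M] [Module k M] [IsScalarTower k R M]
  {ℳ : ℤ → AddSubgroup M} [DirectSum.Decomposition ℳ] [SetLike.GradedSMul 𝒜 ℳ]
  {N : Type u} [AddCommGroup N] [Module S N] [Module k N] [IsScalarTower k S N]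
  {𝒩 : ℤ → AddSubgroup N} [DirectSum.Decomposition 𝒩] [SetLike.GradedSMul ℬ 𝒩]

theorem exists_setup2 [Algebra.FiniteType k R] [Module.Finite R M] [Algebra.FiniteType k S]
    [Module.Finite S N]
    (hposR : ∀ n : ℤ, n < 0 → 𝒜 n = ⊥) (h0R : 𝒜 0 = Submodule.span k {(1 : R)})
    (hposS : ∀ n : ℤ, n < 0 → ℬ n = ⊥) (h0S : ℬ 0 = Submodule.span k {(1 : S)}) {r s : ℕ}
    (hdM : Module.supportDim R M = r) (hdN : Module.supportDim S N = s)
    (hMcm : ∀ (q : Ideal R) [q.IsPrime], Subsingleton (LocalizedModule q.primeCompl M) ∨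
      LocCoh.IsCohenMacaulayModule (Localization.AtPrime q) (LocalizedModule q.primeCompl M))
    (hNcm : ∀ (q : Ideal S) [q.IsPrime], Subsingleton (LocalizedModule q.primeCompl N) ∨
      LocCoh.IsCohenMacaulayModule (Localization.AtPrime q) (LocalizedModule q.primeCompl N)) :
    Nonempty (Setup2 k R 𝒜 S ℬ M ℳ N 𝒩 r s) := by
  classical
  obtain ⟨d1, x0, hd1, hx0, hxi⟩ := DiagBasis.exists_params 𝒜 ℳ hposR h0R hdM
  obtain ⟨d2, y0, hd2, hy0, hyi⟩ := DiagBasis.exists_params ℬ 𝒩 hposS h0S hdN
  have hD : 0 < d1 * d2 := Nat.mul_pos hd1 hd2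
  let x : Fin r → R := fun i => x0 i ^ d2
  let y : Fin s → S := fun i => y0 i ^ d1
  have hx : ∀ i, x i ∈ 𝒜 ((d1 * d2 : ℕ) : ℤ) := fun i => by
    have := SetLike.pow_mem_graded d2 (hx0 i)
    rwa [nsmul_eq_mul, ← Nat.cast_mul, mul_comm] at this
  have hy : ∀ i, y i ∈ ℬ ((d1 * d2 : ℕ) : ℤ) := fun i => by
    have := SetLike.pow_mem_graded d1 (hy0 i)
    rwa [nsmul_eq_mul, ← Nat.cast_mul] at this
  obtain ⟨L, hL, e, a, ha, hMli, hMsp⟩ :=
    CMBasis.exists_basis 𝒜 ℳ x hposR h0R hdM hMcm hD hx (hxi d2 hd2)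
  obtain ⟨Gen, hGen, g, b, hb, hNli, hNsp⟩ :=
    CMBasis.exists_basis ℬ 𝒩 y hposS h0S hdN hNcm hD hy (hyi d1 hd1)
  exact ⟨{ D := d1 * d2, hD := hD, x := x, hx := hx, hxint := hxi d2 hd2, y := y, hy := hy,
           hyint := hyi d1 hd1, L := L, e := e, a := a, ha := ha, hMli := hMli, hMsp := hMsp,
           Gen := Gen, g := g, b := b, hb := hb, hNli := hNli, hNsp := hNsp }⟩

/-! ### The balanced monomial algebra -/

theorem noetherian_monA (r s : ℕ) : IsNoetherianRing (Dim.monA k r s) := by
  haveI : Algebra.FiniteType k (Dim.monA k r s) := by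
    refine (Subalgebra.fg_iff_finiteType _).mp ?_
    exact ⟨(Set.finite_range _).toFinset, by rw [Set.Finite.coe_toFinset]; rfl⟩
  exact Algebra.FiniteType.isNoetherianRing k _

theorem monA_dg {r s : ℕ} {p : MvPolynomial (Fin r ⊕ Fin s) k} (hp : p ∈ Dim.monA k r s) :
    ∀ v ∈ p.support, dg v = 0 := by
  classical
  induction hp using Algebra.adjoin_induction with
  | mem x hx =>
    obtain ⟨⟨i, j⟩, rfl⟩ := hx
    intro v hv
    simp only [X, monomial_mul, one_mul] at hv
    rw [support_monomial, if_neg one_ne_zero, Finset.mem_singleton] at hv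
    rw [hv, Mono.dg_add, Mono.dg_inl, Mono.dg_inr]
    simp
  | algebraMap c =>
    intro v hv
    rw [MvPolynomial.algebraMap_eq, ← MvPolynomial.monomial_zero'] at hv
    rcases Finset.mem_singleton.mp (support_monomial_subset hv) with rfl
    exact Mono.dg_zero
  | add x y _ _ hx hy =>
    intro v hv
    rcases Finset.mem_union.mp (support_add hv) with h | h
    · exact hx v h
    · exact hy v h
  | mul x y _ _ hx hy =>
    intro v hv
    obtain ⟨a, ha, b, hb, rfl⟩ := Finset.mem_add.mp (support_mul _ _ hv)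
    rw [Mono.dg_add, hx a ha, hy b hb, add_zero]

theorem monomial_mem_monA {r s : ℕ} : ∀ (n : ℕ) (v : Exp r s), degX v = n → dg v = 0 →
    monomial v (1 : k) ∈ Dim.monA k r s := by
  classical
  intro n
  induction n with
  | zero =>
    intro v hv hd
    have hv0 : v = 0 := by
      refine Finsupp.ext fun i => ?_
      have hY : degY v = 0 := by simp only [dg] at hd; omega
      rcases i with i | j
      · exact (Finset.sum_eq_zero_iff.mp hv) i (Finset.mem_univ i)
      · exact (Finset.sum_eq_zero_iff.mp hY) j (Finset.mem_univ j)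
    subst hv0
    rw [monomial_zero', map_one]
    exact one_mem _
  | succ n ih =>
    intro v hv hd
    obtain ⟨i, -, hi⟩ := Finset.exists_ne_zero_of_sum_ne_zero (s := Finset.univ)
      (f := fun i : Fin r => v (Sum.inl i)) (by show degX v ≠ 0; omega)
    obtain ⟨j, -, hj⟩ := Finset.exists_ne_zero_of_sum_ne_zero (s := Finset.univ)
      (f := fun j : Fin s => v (Sum.inr j)) (by show degY v ≠ 0; simp only [dg] at hd; omega)
    set u : Exp r s := Finsupp.single (Sum.inl i) 1 + Finsupp.single (Sum.inr j) 1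
    have hle : u ≤ v := by
      intro l
      rcases l with l | l
      · by_cases h : i = l
        · subst h; simp [u]; omega
        · simp [u, h]
      · by_cases h : j = l
        · subst h; simp [u]; omega
        · simp [u, h]
    have hu : dg u = 0 := by simp [u, Mono.dg_add, Mono.dg_inl, Mono.dg_inr]
    have hu1 : degX u = 1 := by simp [u, degX, Finsupp.single_apply]
    have hsplit : monomial v (1 : k) = monomial u 1 * monomial (v - u) 1 := by
      rw [monomial_mul, one_mul, add_tsub_cancel_of_le hle]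
    have h2 := Mono.degX_add u (v - u)
    rw [add_tsub_cancel_of_le hle] at h2
    have h3 := Mono.dg_add u (v - u)
    rw [add_tsub_cancel_of_le hle, hu, zero_add] at h3
    rw [hsplit]
    refine mul_mem ?_ (ih (v - u) (by omega) (h3 ▸ hd))
    have : monomial u (1 : k) = X (Sum.inl i) * X (Sum.inr j) := by
      simp only [X, monomial_mul, one_mul, u]
    rw [this]
    exact Algebra.subset_adjoin ⟨(i, j), rfl⟩

theorem balanced (r s : ℕ) : Mono.Balanced k (Dim.monA k r s) r s :=
  ⟨fun t => monA_dg t.2, fun v hv => ⟨⟨_, monomial_mem_monA _ v rfl hv⟩, rfl⟩⟩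

/-! ### The criterion -/

namespace Setup2

variable {r s : ℕ} (X : Setup2 k R 𝒜 S ℬ M ℳ N 𝒩 r s)

/-- Congruent pairs of generators. -/
abbrev Pairs : Type u := {c : X.L × X.Gen // (X.D : ℤ) ∣ X.g c.2 - X.e c.1}

/-- The weight of a pair. -/
def dd (c : X.Pairs) : ℤ := (X.g c.1.2 - X.e c.1.1) / X.D

theorem dd_mul (c : X.Pairs) : X.dd c * X.D = X.g c.1.2 - X.e c.1.1 :=
  Int.ediv_mul_cancel c.2

/-- Indices of the basis of `M ⊗ N`. -/
abbrev Idx : Type u := (X.L × (Fin r →₀ ℕ)) × (X.Gen × (Fin s →₀ ℕ))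

/-- The basis of `M ⊗ N`. -/
noncomputable def β : Module.Basis X.Idx k (M ⊗[k] N) :=
  (Module.Basis.mk X.hMli X.hMsp.ge).tensorProduct (Module.Basis.mk X.hNli X.hNsp.ge)

theorem β_apply (p : X.Idx) :
    X.β p = vec (k := k) X.x X.a p.1 ⊗ₜ[k] vec (k := k) X.y X.b p.2 := by
  simp [β, Module.Basis.tensorProduct_apply']

/-- Evaluation at the parameters. -/
noncomputable def ev : MvPolynomial (Fin r ⊕ Fin s) k →ₐ[k] R ⊗[k] S :=
  (Algebra.TensorProduct.map (MvPolynomial.aeval X.x) (MvPolynomial.aeval X.y)).comp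
    (PolyShift.Φ k r s).symm.toAlgHom

theorem ev_monomial (α : Fin r →₀ ℕ) (γ : Fin s →₀ ℕ) :
    X.ev (monomial (jn α γ) 1) =
      MvPolynomial.aeval X.x (monomial α (1 : k)) ⊗ₜ[k] MvPolynomial.aeval X.y (monomial γ (1 : k)) := by
  rw [← PolyShift.Φ_monomial α γ (1 : k)]
  show Algebra.TensorProduct.map _ _ ((PolyShift.Φ k r s).symm _) = _
  rw [AlgEquiv.symm_apply_apply, Algebra.TensorProduct.map_tmul]

/-- Polynomials acting on a pair of generators. -/
noncomputable def η (c : X.Pairs) : MvPolynomial (Fin r ⊕ Fin s) k →ₗ[k] M ⊗[k] N :=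
  ((GrSeg.act k R S M N).flip (X.a c.1.1 ⊗ₜ[k] X.b c.1.2)) ∘ₗ X.ev.toLinearMap

theorem η_monomial (c : X.Pairs) (α : Fin r →₀ ℕ) (γ : Fin s →₀ ℕ) :
    X.η c (monomial (jn α γ) 1) = X.β ((c.1.1, α), (c.1.2, γ)) := by
  show GrSeg.act k R S M N (X.ev (monomial (jn α γ) 1)) _ = _
  rw [X.ev_monomial, GrSeg.act_tmul, X.β_apply]
  rfl

theorem η_mul (c : X.Pairs) (p q : MvPolynomial (Fin r ⊕ Fin s) k) :
    X.η c (p * q) = GrSeg.act k R S M N (X.ev p) (X.η c q) := by
  show GrSeg.act k R S M N (X.ev (p * q)) _ = _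
  rw [map_mul, Mod.act_mul]
  rfl

theorem sum_jn (α : Fin r →₀ ℕ) (γ : Fin s →₀ ℕ) :
    dg (jn α γ) = ((∑ i, α i : ℕ) : ℤ) - ((∑ j, γ j : ℕ) : ℤ) := by
  simp [dg, degX, degY, jn_inl, jn_inr]

end Setup2

variable [Algebra.FiniteType k R] [Module.Finite R M] [Algebra.FiniteType k S] [Module.Finite S N]
  {P : Type u} [AddCommGroup P] [Module T P] [Module k P] [IsScalarTower k T P]
  {𝒬 : ℤ → AddSubgroup P} [DirectSum.Decomposition 𝒬] {φ : P →ₗ[k] M ⊗[k] N}

/-- The depth at the irrelevant ideal is maximal iff all pairs have small weights. -/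
theorem depth_iff {r s : ℕ} (h2r : 2 ≤ r) (h2s : 2 ≤ s)
    (X : Setup2 k R 𝒜 S ℬ M ℳ N 𝒩 r s) [IsNoetherianRing T] [Algebra.FiniteType k T]
    [Module.Finite T P] [SetLike.GradedSMul 𝒯 𝒬]
    (hT : GrSeg.IsSegreRing 𝒜 ℬ 𝒯 ψ) (hP : GrSeg.IsSegreMod ψ ℳ 𝒩 𝒬 φ)
    (hposT : ∀ n : ℤ, n < 0 → 𝒯 n = ⊥) (h0T : 𝒯 0 = Submodule.span k {(1 : T)}) :
    ((r + s - 1 : ℕ) : ℕ∞) ≤ idealDepth (CMDim.irr 𝒯) P ↔
      ∀ (l : X.L) (q : X.Gen), (X.D : ℤ) ∣ X.g q - X.e l →
        X.g q - X.e l < (s : ℤ) * X.D ∧ -((r : ℤ) * X.D) < X.g q - X.e l := by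
  classical
  haveI := noetherian_monA (k := k) r s
  let B : Type u := Dim.monA k r s
  have hB := balanced (k := k) r s
  -- the map from the monomial algebra
  have hevB : ∀ b : Dim.monA k r s, X.ev b.1 ∈ ψ.range := by
    have : (Dim.monA k r s).map X.ev ≤ ψ.range := by
      rw [show Dim.monA k r s = Algebra.adjoin k _ from rfl, AlgHom.map_adjoin]
      refine Algebra.adjoin_le ?_
      rintro _ ⟨_, ⟨⟨i, j⟩, rfl⟩, rfl⟩
      have h : X.x i ⊗ₜ[k] X.y j ∈ (𝒯 (X.D : ℤ)).map ψ.toLinearMap := by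
        rw [hT.2]; exact Submodule.subset_span ⟨_, X.hx i, _, X.hy j, rfl⟩
      obtain ⟨t, _, ht⟩ := Submodule.mem_map.mp h
      refine ⟨t, ht.trans ?_⟩
      have hmon : (MvPolynomial.X (Sum.inl i) * MvPolynomial.X (Sum.inr j) :
          MvPolynomial (Fin r ⊕ Fin s) k) =
          monomial (jn (Finsupp.single i 1) (Finsupp.single j 1)) 1 := by
        simp [MvPolynomial.X, monomial_mul, jn, Finsupp.mapDomain_single]
      show _ = X.ev (MvPolynomial.X (Sum.inl i) * MvPolynomial.X (Sum.inr j))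
      rw [hmon, X.ev_monomial]
      simp [MvPolynomial.aeval_monomial, Finsupp.prod_single_index]
    exact fun b => this ⟨b.1, b.2, rfl⟩
  let α : Dim.monA k r s →ₐ[k] T :=
    (AlgEquiv.ofInjective ψ hT.1).symm.toAlgHom.comp
      ((X.ev.comp (Dim.monA k r s).val).codRestrict _ hevB)
  have hα : ∀ b : Dim.monA k r s, ψ (α b) = X.ev b.1 := fun b => by
    show ψ ((AlgEquiv.ofInjective ψ hT.1).symm _) = _
    rw [← AlgEquiv.ofInjective_apply ψ hT.1, AlgEquiv.apply_symm_apply]
    rfl
  letI : Algebra (Dim.monA k r s) T := α.toRingHom.toAlgebra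
  letI : Module (Dim.monA k r s) P := Module.compHom P α.toRingHom
  haveI : IsScalarTower (Dim.monA k r s) T P := ⟨fun b t v => by
    show (α b * t) • v = α b • (t • v)
    rw [mul_smul]⟩
  haveI : IsScalarTower k (Dim.monA k r s) P := ⟨fun c b v => by
    show α (c • b) • v = c • (α b • v)
    rw [map_smul, smul_assoc]⟩
  have hact : ∀ (b : Dim.monA k r s) (v : P),
      φ (b • v) = GrSeg.act k R S M N (X.ev b.1) (φ v) := fun b v => by
    rw [show b • v = α b • v from rfl, hP.map_smul, hα]
  -- the image of `φ`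
  have hη : ∀ c : X.Pairs, ∀ p ∈ K k (Dim.monA k r s) (Ed (X.dd c) : Set (Exp r s)),
      X.η c p ∈ LinearMap.range φ := by
    intro c p hp
    have hsupp := Mono.support_of_mem_K hB (MonoDepth.closed_Ed _) hp
    rw [p.as_sum, map_sum]
    refine Submodule.sum_mem _ fun e he => ?_
    obtain ⟨α', γ, rfl⟩ := exists_jn e
    rw [← mul_one (coeff _ p), ← smul_eq_mul, ← smul_monomial, map_smul, X.η_monomial]
    refine Submodule.smul_mem _ _ ?_
    have hd : dg (jn α' γ) = X.dd c := hsupp _ he
    rw [Setup2.sum_jn] at hd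
    have hdeg : X.e c.1.1 + wt X.D α' = X.g c.1.2 + wt X.D γ := by
      have := X.dd_mul c
      rw [← hd] at this
      simp only [wt]
      linear_combination this
    obtain ⟨v, -, hv⟩ := H83.Segre.exists_mod_elem hP (n := X.e c.1.1 + wt X.D α')
      (w := X.β ((c.1.1, α'), (c.1.2, γ))) (by
        rw [X.β_apply]
        refine H83.Segre.tmul_mem_segrePiece (DiagBasis.vec_mem X.x X.a 𝒜 ℳ X.hx X.ha (c.1.1, α')) ?_
        rw [hdeg]
        exact DiagBasis.vec_mem X.y X.b ℬ 𝒩 X.hy X.hb (c.1.2, γ))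
    exact ⟨v, hv⟩
  let φe : P ≃ₗ[k] LinearMap.range φ := LinearEquiv.ofInjective φ hP.injective
  let ι : ∀ c : X.Pairs,
      K k (Dim.monA k r s) (Ed (X.dd c) : Set (Exp r s)) →ₗ[Dim.monA k r s] P := fun c =>
    { toFun := fun p => φe.symm ⟨X.η c p.1, hη c p.1 p.2⟩
      map_add' := fun p q => by
        rw [← map_add]
        exact congrArg _ (Subtype.ext (map_add (X.η c) p.1 q.1))
      map_smul' := fun b p => by
        rw [RingHom.id_apply]
        refine hP.injective ?_
        have hφe : ∀ z, φ (φe.symm z) = z.1 := fun z =>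
          congrArg Subtype.val (φe.apply_symm_apply z)
        rw [hact, hφe, hφe]
        show X.η c (b • p.1) = _
        rw [Subalgebra.smul_def, smul_eq_mul, X.η_mul] }
  have hι : ∀ (c : X.Pairs) (p), φ (ι c p) = X.η c p.1 := fun c p =>
    congrArg Subtype.val (φe.apply_symm_apply ⟨X.η c p.1, hη c p.1 p.2⟩)
  let Λ : (∀ c : X.Pairs, K k (Dim.monA k r s) (Ed (X.dd c) : Set (Exp r s)))
      →ₗ[Dim.monA k r s] P := LinearMap.lsum _ _ (Dim.monA k r s) ι
  have hΛ : ∀ f, φ (Λ f) = ∑ c, X.η c (f c).1 := fun f => by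
    simp [Λ, LinearMap.lsum_apply, map_sum, hι]
  have hrepr : ∀ (c c' : X.Pairs) (p : MvPolynomial (Fin r ⊕ Fin s) k) (α' : Fin r →₀ ℕ)
      (γ : Fin s →₀ ℕ), X.β.repr (X.η c p) ((c'.1.1, α'), (c'.1.2, γ)) =
        if c = c' then coeff (jn α' γ) p else 0 := by
    intro c c' p α' γ
    conv_lhs => rw [p.as_sum]
    rw [map_sum, map_sum, Finsupp.finsetSum_apply]
    have hterm : ∀ e ∈ p.support,
        X.β.repr (X.η c (monomial e (coeff e p))) ((c'.1.1, α'), (c'.1.2, γ)) =
          if c = c' ∧ e = jn α' γ then coeff e p else 0 := by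
      intro e _
      obtain ⟨α₀, γ₀, rfl⟩ := exists_jn e
      rw [← mul_one (coeff _ p), ← smul_eq_mul, ← smul_monomial, map_smul, map_smul,
        X.η_monomial, Module.Basis.repr_self, Finsupp.smul_apply, Finsupp.single_apply, smul_eq_mul]
      by_cases h : c = c' ∧ jn α₀ γ₀ = jn α' γ
      · obtain ⟨rfl, hj⟩ := h
        have h1 : α₀ = α' := Finsupp.ext fun i => by rw [← jn_inl α₀ γ₀, hj, jn_inl]
        have h2 : γ₀ = γ := Finsupp.ext fun i => by rw [← jn_inr α₀ γ₀, hj, jn_inr]
        subst h1 h2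
        rw [if_pos rfl, if_pos ⟨rfl, rfl⟩, smul_eq_mul]
      · rw [if_neg h, if_neg, mul_zero]
        intro heq
        simp only [Prod.mk.injEq] at heq
        obtain ⟨⟨h1, h2⟩, h3, h4⟩ := heq
        exact h ⟨Subtype.ext (Prod.ext h1 h3), by rw [h2, h4]⟩
    rw [Finset.sum_congr rfl hterm]
    by_cases hc : c = c'
    · simp only [hc, true_and, if_true]
      rw [Finset.sum_ite_eq']
      split_ifs with h
      · rfl
      · exact (notMem_support_iff.mp h).symm
    · simp [hc]
  have hΛbij : Function.Bijective Λ := by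
    constructor
    · rw [injective_iff_map_eq_zero]
      intro f hf
      funext c
      refine Subtype.ext (MvPolynomial.ext _ _ fun e => ?_)
      obtain ⟨α', γ, rfl⟩ := exists_jn e
      have h := congrArg (fun v => X.β.repr (φ v) ((c.1.1, α'), (c.1.2, γ))) hf
      simp only [hΛ, map_sum, Finsupp.finsetSum_apply, hrepr, map_zero, Finsupp.coe_zero,
        Pi.zero_apply, Finset.sum_ite_eq', Finset.mem_univ, if_true] at h
      simpa using h
    · intro v
      induction v using DirectSum.Decomposition.inductionOn 𝒬 with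
      | zero => exact ⟨0, map_zero _⟩
      | add u u' hu hu' =>
        obtain ⟨f, rfl⟩ := hu
        obtain ⟨f', rfl⟩ := hu'
        exact ⟨f + f', map_add _ _ _⟩
      | @homogeneous n u =>
        have h := H83.Segre.mod_mem_segre hP u.2
        suffices hle : GrSeg.segrePiece k ℳ 𝒩 n ≤
            (LinearMap.range (Λ.restrictScalars k)).map φ by
          obtain ⟨w, hw, he⟩ := hle h
          exact hP.injective he ▸ hw
        refine Submodule.span_le.mpr ?_
        rintro _ ⟨m, hm, w, hw, rfl⟩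
        have h1 := DiagBasis.mem_span_vec X.x X.a 𝒜 ℳ X.hx X.ha X.hMsp hm
        have h2 := DiagBasis.mem_span_vec X.y X.b ℬ 𝒩 X.hy X.hb X.hNsp hw
        clear hm hw h
        induction h1 using Submodule.span_induction with
        | zero => rw [zero_tmul]; exact zero_mem _
        | add u v _ _ hu hv => rw [add_tmul]; exact add_mem hu hv
        | smul c u _ hu => rw [← smul_tmul']; exact Submodule.smul_mem _ c hu
        | mem u hu =>
          obtain ⟨⟨l, α'⟩, hp, rfl⟩ := hu
          induction h2 using Submodule.span_induction with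
          | zero => rw [tmul_zero]; exact zero_mem _
          | add v w _ _ hv hw => rw [tmul_add]; exact add_mem hv hw
          | smul c v _ hv => rw [tmul_smul]; exact Submodule.smul_mem _ c hv
          | mem v hv =>
            obtain ⟨⟨q, γ⟩, hp', rfl⟩ := hv
            have hdeg : X.e l + wt X.D α' = X.g q + wt X.D γ := hp.trans hp'.symm
            simp only [wt] at hdeg
            let c : X.Pairs := ⟨(l, q), ⟨((∑ i, α' i : ℕ) : ℤ) - ((∑ i, γ i : ℕ) : ℤ),
              by linear_combination -hdeg⟩⟩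
            have hmem : (monomial (jn α' γ) 1 : MvPolynomial (Fin r ⊕ Fin s) k) ∈
                K k (Dim.monA k r s) (Ed (X.dd c) : Set (Exp r s)) := by
              refine Mono.monomial_mem_K ?_ _
              show dg (jn α' γ) = X.dd c
              rw [Setup2.sum_jn]
              refine mul_right_cancel₀ (b := (X.D : ℤ)) (by have := X.hD; omega) ?_
              rw [X.dd_mul]
              show _ = X.g q - X.e l
              linear_combination hdeg
            refine ⟨_, ⟨Pi.single c ⟨_, hmem⟩, rfl⟩, ?_⟩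
            show φ (Λ (Pi.single c _)) = _
            rw [show Λ (Pi.single c ⟨_, hmem⟩) = ι c ⟨_, hmem⟩ from
              LinearMap.lsum_piSingle (Dim.monA k r s) (fun c : X.Pairs => K k (Dim.monA k r s) (Ed (X.dd c) : Set (Exp r s))) (Dim.monA k r s) ι c ⟨_, hmem⟩, hι, X.η_monomial, X.β_apply]
  let e := LinearEquiv.ofBijective Λ hΛbij
  -- each piece
  have hF0 : ∀ (d : ℤ) (e : Exp r s), e ∉ (Ed d ∩ Out Finset.univ Finset.univ : Set (Exp r s)) :=
    fun d e he => by
      rcases he.2 with ⟨i, hi, -⟩ | ⟨j, hj, -⟩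
      · exact hi (Finset.mem_univ i)
      · exact hj (Finset.mem_univ j)
  have hKQ : ∀ d : ℤ, Function.Bijective (Submodule.mkQ
      ((K k (Dim.monA k r s) (Ed d ∩ Out Finset.univ Finset.univ : Set (Exp r s))).comap
        (K k (Dim.monA k r s) (Ed d : Set (Exp r s))).subtype)) := by
    intro d
    refine ⟨?_, Submodule.mkQ_surjective _⟩
    rw [← LinearMap.ker_eq_bot, Submodule.ker_mkQ, eq_bot_iff]
    intro p hp
    rw [Submodule.mem_bot]
    refine Subtype.ext ?_
    show (p : MvPolynomial (Fin r ⊕ Fin s) k) = 0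
    rw [← MvPolynomial.support_eq_empty]
    exact Finset.eq_empty_of_forall_notMem fun x hx =>
      hF0 d x (Mono.support_of_mem_K hB (MonoDepth.closed_inter_out d _ _) hp x hx)
  haveI : ∀ c : X.Pairs, Module.Finite (Dim.monA k r s)
      (K k (Dim.monA k r s) (Ed (X.dd c) : Set (Exp r s))) := fun c =>
    Module.Finite.iff_fg.mpr (Mono.fg_K hB (X.dd c) fun e he => he)
  haveI : Module.Finite (Dim.monA k r s) P := Module.Finite.equiv e
  -- the augmentation ideal
  let aug : Dim.monA k r s →+* k := constantCoeff.comp (Dim.monA k r s).val.toRingHom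
  have haug : Function.Surjective aug := fun c => ⟨algebraMap k _ c, by simp [aug]⟩
  set J : Ideal (Dim.monA k r s) := RingHom.ker aug
  haveI hJmax : J.IsMaximal := RingHom.ker_isMaximal_of_surjective aug haug
  have hJ : ∀ t : Dim.monA k r s, t ∈ J ↔
      coeff 0 (algebraMap (Dim.monA k r s) (MvPolynomial (Fin r ⊕ Fin s) k) t) = 0 := fun t => by
    rw [RingHom.mem_ker, RingHom.comp_apply, constantCoeff_eq]; rfl
  have hcardr : (Finset.univ : Finset (Fin r)).card = r := Finset.card_fin r
  have hcards : (Finset.univ : Finset (Fin s)).card = s := Finset.card_fin s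
  have hlow : ∀ c : X.Pairs, (L r s (X.dd c) : ℕ∞) ≤
      idealDepth J (K k (Dim.monA k r s) (Ed (X.dd c) : Set (Exp r s))) := by
    intro c
    rw [Basic.idealDepth_congr J (LinearEquiv.ofBijective _ (hKQ (X.dd c)))]
    have := MonoDepth.le_depth hB J hJ _ (Finset.univ : Finset (Fin r))
      (Finset.univ : Finset (Fin s)) (X.dd c) rfl
    rwa [hcardr, hcards] at this
  have hupp : ∀ c : X.Pairs, ((s : ℤ) ≤ X.dd c →
      idealDepth J (K k (Dim.monA k r s) (Ed (X.dd c) : Set (Exp r s))) ≤ (s : ℕ∞)) ∧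
      (X.dd c ≤ -(r : ℤ) →
      idealDepth J (K k (Dim.monA k r s) (Ed (X.dd c) : Set (Exp r s))) ≤ (r : ℕ∞)) := by
    intro c
    rw [Basic.idealDepth_congr J (LinearEquiv.ofBijective _ (hKQ (X.dd c)))]
    refine ⟨fun h => ?_, fun h => ?_⟩
    · have := MonoDepth.depth_le_right hB J hJ _ (Finset.univ : Finset (Fin r))
        (Finset.univ : Finset (Fin s)) (X.dd c) rfl ⟨⟨0, by omega⟩, Finset.mem_univ _⟩ (by rwa [hcards])
      rwa [hcards] at this
    · have := MonoDepth.depth_le_left hB J hJ _ (Finset.univ : Finset (Fin r))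
        (Finset.univ : Finset (Fin s)) (X.dd c) rfl ⟨⟨0, by omega⟩, Finset.mem_univ _⟩ (by rwa [hcardr])
      rwa [hcardr] at this
  -- pass to `T`
  have hJT : idealDepth J P = idealDepth (CMDim.irr 𝒯) P := by
    rw [DepthPi.idealDepth_eq_map (B := T) J P, Local.idealDepth_eq_iInf (R := T),
      Local.idealDepth_eq_iInf (R := T) (CMDim.irr 𝒯)]
    -- the same primes of the support
    have hmapmem : ∀ i j, α ⟨_, Algebra.subset_adjoin ⟨(i, j), rfl⟩⟩ ∈
        J.map (algebraMap (Dim.monA k r s) T) := fun i j =>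
      Ideal.mem_map_of_mem _ ((hJ _).mpr (by
        show coeff 0 (MvPolynomial.X (Sum.inl i) * MvPolynomial.X (Sum.inr j) : MvPolynomial (Fin r ⊕ Fin s) k) = 0
        rw [← constantCoeff_eq, map_mul, constantCoeff_X, zero_mul]))
    let zz : Fin (r * s) → T := fun p =>
      α ⟨_, Algebra.subset_adjoin ⟨(finProdFinEquiv.symm p), rfl⟩⟩
    have hzz : ∀ p, zz p ∈ 𝒯 (X.D : ℤ) := by
      intro p
      obtain ⟨i, j⟩ := finProdFinEquiv.symm p
      obtain ⟨t, ht, hte⟩ := H83.Segre.exists_ring_elem hT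
        (H83.Segre.tmul_mem_segrePiece (k := k) (X.hx (finProdFinEquiv.symm p).1)
          (X.hy (finProdFinEquiv.symm p).2))
      have : zz p = t := hT.1 (by
        rw [hte, hα]
        have hmon : (MvPolynomial.X (Sum.inl (finProdFinEquiv.symm p).1) *
            MvPolynomial.X (Sum.inr (finProdFinEquiv.symm p).2) :
            MvPolynomial (Fin r ⊕ Fin s) k) =
            monomial (jn (Finsupp.single (finProdFinEquiv.symm p).1 1)
              (Finsupp.single (finProdFinEquiv.symm p).2 1)) 1 := by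
          simp [MvPolynomial.X, monomial_mul, jn, Finsupp.mapDomain_single]
        show X.ev (MvPolynomial.X _ * MvPolynomial.X _) = _
        rw [hmon, X.ev_monomial]
        simp [MvPolynomial.aeval_monomial, Finsupp.prod_single_index])
      rw [this]; exact ht
    have hle : J.map (algebraMap (Dim.monA k r s) T) ≤ CMDim.irr 𝒯 := by
      rw [Ideal.map_le_iff_le_comap]
      intro t ht
      -- elements without constant term lie in the span of the generators
      suffices h : ∀ p ∈ Dim.monA k r s, ∀ hp : p ∈ Dim.monA k r s,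
          α ⟨p, hp⟩ - algebraMap k T (coeff 0 p) ∈ CMDim.irr 𝒯 by
        have h2 := h t.1 t.2 t.2
        rw [show coeff 0 t.1 = 0 from (hJ t).mp ht, map_zero, sub_zero] at h2
        exact h2
      intro p hp
      induction hp using Algebra.adjoin_induction with
      | mem z hz =>
        intro hp
        obtain ⟨⟨i, j⟩, rfl⟩ := hz
        rw [← constantCoeff_eq, map_mul, constantCoeff_X, zero_mul, map_zero, sub_zero]
        have := hzz (finProdFinEquiv (i, j))
        simp only [zz, Equiv.symm_apply_apply] at this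
        exact Ideal.subset_span ⟨X.D, by exact_mod_cast X.hD, this⟩
      | algebraMap c =>
        intro hp
        rw [show α ⟨algebraMap k _ c, hp⟩ = algebraMap k T c from α.commutes c]
        simp [MvPolynomial.algebraMap_eq]
      | add u v hu' hv' hu hv =>
        intro hp
        rw [show (⟨u + v, hp⟩ : Dim.monA k r s) = ⟨u, hu'⟩ + ⟨v, hv'⟩ from rfl, map_add, coeff_add,
          map_add]
        rw [show ∀ a b c d : T, a + b - (c + d) = (a - c) + (b - d) from fun a b c d => by ring]
        exact add_mem (hu hu') (hv hv')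
      | mul u v hu' hv' hu hv =>
        intro hp
        rw [show (⟨u * v, hp⟩ : Dim.monA k r s) = ⟨u, hu'⟩ * ⟨v, hv'⟩ from rfl, map_mul,
          ← constantCoeff_eq, map_mul, constantCoeff_eq, map_mul]
        rw [show ∀ a b c d : T, a * b - c * d = a * (b - d) + d * (a - c) from
          fun a b c d => by ring]
        exact add_mem (Ideal.mul_mem_left _ _ (hv hv')) (Ideal.mul_mem_left _ _ (hu hu'))
    have hint : ∀ a : T ⧸ Module.annihilator T P, IsIntegral (Algebra.adjoin k
        (Set.range fun p => Ideal.Quotient.mk (Module.annihilator T P) (zz p))) a := by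
      intro a
      obtain ⟨t, rfl⟩ := Ideal.Quotient.mk_surjective a
      obtain ⟨p, hp, hp0⟩ := LinearMap.exists_monic_and_aeval_eq_zero (Dim.monA k r s)
        (Algebra.lsmul (Dim.monA k r s) (Dim.monA k r s) P t : Module.End (Dim.monA k r s) P)
      replace hp0 : Algebra.lsmul (Dim.monA k r s) (Dim.monA k r s) P (Polynomial.aeval t p) =
          (0 : Module.End (Dim.monA k r s) P) :=
        (Polynomial.aeval_algHom_apply (Algebra.lsmul (Dim.monA k r s) (Dim.monA k r s) P) t p).symm.trans hp0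
      have hann : Polynomial.aeval t p ∈ Module.annihilator T P :=
        Module.mem_annihilator.mpr fun v =>
          congrArg (fun f : Module.End (Dim.monA k r s) P => f v) hp0
      let π : T →ₐ[k] T ⧸ Module.annihilator T P := Ideal.Quotient.mkₐ k _
      have hrange : ∀ b : Dim.monA k r s, (π.comp α) b ∈ Algebra.adjoin k
          (Set.range fun p => Ideal.Quotient.mk (Module.annihilator T P) (zz p)) := by
        intro b
        have h : (⊤ : Subalgebra k (Dim.monA k r s)).map (π.comp α) ≤ Algebra.adjoin k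
            (Set.range fun p => Ideal.Quotient.mk (Module.annihilator T P) (zz p)) := by
          have htop : (⊤ : Subalgebra k (Dim.monA k r s)) = Algebra.adjoin k
              (((↑) : Dim.monA k r s → MvPolynomial (Fin r ⊕ Fin s) k) ⁻¹'
                Set.range fun ij : Fin r × Fin s =>
                  (MvPolynomial.X (Sum.inl ij.1) * MvPolynomial.X (Sum.inr ij.2) :
                    MvPolynomial (Fin r ⊕ Fin s) k)) :=
            (Algebra.adjoin_adjoin_coe_preimage).symm
          rw [htop, AlgHom.map_adjoin, Algebra.adjoin_le_iff]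
          rintro _ ⟨w, ⟨⟨i, j⟩, hw⟩, rfl⟩
          refine Algebra.subset_adjoin ⟨finProdFinEquiv (i, j), ?_⟩
          show π (zz _) = π (α w)
          simp only [zz, Equiv.symm_apply_apply]
          exact congrArg π (congrArg α (Subtype.ext hw))
        exact h ⟨b, Algebra.mem_top, rfl⟩
      let χ := (π.comp α).codRestrict _ hrange
      refine ⟨p.map χ.toRingHom, hp.map _, ?_⟩
      rw [Polynomial.eval₂_map]
      show p.eval₂ (π.toRingHom.comp α.toRingHom) (π.toRingHom t) = 0
      rw [← Polynomial.hom_eval₂]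
      exact Ideal.Quotient.eq_zero_iff_mem.mpr hann
    refine le_antisymm (le_iInf₂ fun Q hQ => iInf₂_le Q (hle.trans hQ))
      (le_iInf₂ fun Q hQ => ?_)
    by_cases hQs : Q ∈ Module.support T P
    · have hQi : Q.asIdeal = CMDim.irr 𝒯 :=
        CMBasis.eq_irr 𝒯 𝒬 zz hposT h0T hzz hint Q.asIdeal
          (fun p => hQ (hmapmem _ _)) (Module.annihilator_le_of_mem_support hQs)
      exact iInf₂_le Q hQi.ge
    · haveI := Module.notMem_support_iff.mp hQs
      rw [depth, Basic.idealDepth_subsingleton (M := LocalizedModule Q.asIdeal.primeCompl P)]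
      exact le_top
  rw [← hJT, ← Basic.idealDepth_congr J e]
  constructor
  · intro h l q hdvd
    let c : X.Pairs := ⟨(l, q), hdvd⟩
    have hc := DepthPi.le_idealDepth_retract
      (LinearMap.single (Dim.monA k r s)
        (fun c => K k (Dim.monA k r s) (Ed (X.dd c) : Set (Exp r s))) c)
      (LinearMap.proj c) (by ext v; simp) h
    have hdd := X.dd_mul c
    show X.g c.1.2 - X.e c.1.1 < _ ∧ _ < X.g c.1.2 - X.e c.1.1
    rw [← hdd]
    have hD : (0 : ℤ) < X.D := by exact_mod_cast X.hD
    by_contra hout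
    rcases le_or_gt (s : ℤ) (X.dd c) with h1 | h1
    · have := hc.trans ((hupp c).1 h1)
      rw [Nat.cast_le] at this
      omega
    · rcases le_or_gt (X.dd c) (-(r : ℤ)) with h2 | h2
      · have := hc.trans ((hupp c).2 h2)
        rw [Nat.cast_le] at this
        omega
      · exact hout ⟨by nlinarith, by nlinarith⟩
  · intro h
    refine DepthPi.le_idealDepth_pi J _ _ fun c => le_trans ?_ (hlow c)
    rw [Nat.cast_le]
    have hD : (0 : ℤ) < X.D := by exact_mod_cast X.hD
    obtain ⟨h1, h2⟩ := h c.1.1 c.1.2 c.2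
    rw [← X.dd_mul c] at h1 h2
    have h3 : X.dd c < (s : ℤ) := lt_of_mul_lt_mul_right h1 hD.le
    have h4 : -(r : ℤ) < X.dd c := by
      refine lt_of_mul_lt_mul_right (a := (X.D : ℤ)) ?_ hD.le
      linarith
    simp only [L]
    rw [if_neg (by omega), if_neg (by omega)]

end Groth.Agent.H84.Segre.PairSetup
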